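import Cfsg.Agent.H985.VZ.El
import Cfsg.Agent.Nodes.LeviDec

/-!
# S4842: Harish-Chandra toolkit in a root group datum, definitions (helper985)

`ρ` a representation of `Y = GG` over `ℂ`, `V^H = fx ρ H`.
* `Free J t` : `t ∈ L_J`, `C(t) ∩ V_J = 1`; `Ell J t` : moreover no `L_J`-conjugate of `t` lies in `P_K`, `K ⊊ J`.
* `Vl ρ l`   : the vectors fixed by `U` on which `T` acts by the linear character `l`.
* `Mv w l l'`: `l' = w l`, i.e. `l' (g t g⁻¹) = l t` for the representatives `g` of `w`.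
* `q i`      : the order of `X (sr i)`.
-/

set_option autoImplicit false
set_option linter.unusedSectionVars false

open Cfsg

namespace Cfsg.Agent.H985.VZ

open CoxeterSystem Cfsg.Agent.ChevalleyStructure.CoxeterGeom Cfsg.Agent.Tits.Roots Cfsg.Agent.Tits.Core
  Cfsg.Agent.Tits.Exchange Cfsg.Agent.Nodes.Reps Cfsg.Agent.Nodes.BNOf Cfsg.Agent.Nodes.StabComb
  Cfsg.Agent.Nodes.Bruhat Cfsg.Agent.Nodes.OppDec Cfsg.Agent.Nodes.LeviDec Module

universe u v

variable {I W : Type*} {Y : Type u} [Fintype I] [DecidableEq I] [Group W] [Group Y] {M : CoxeterMatrix I}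

/-- `t ∈ L_J` acts fixed point freely on `V_J` -/
structure Free (cs : CoxeterSystem M W) {A : I → I → ℤ} (h : IsCartan M A) (T : Subgroup Y)
    (X : (I → ℤ) → Subgroup Y) (J : Set I) (t : Y) : Prop where
  mem : t ∈ LJ cs h T X J
  free : ∀ v ∈ VJ cs h X J, t * v = v * t → v = 1

/-- `t ∈ L_J` acts fixed point freely on `V_J` and has no `L_J`-conjugate in a smaller parabolic subgroup -/
structure Ell (cs : CoxeterSystem M W) {A : I → I → ℤ} (h : IsCartan M A) (T : Subgroup Y)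
    (X : (I → ℤ) → Subgroup Y) (J : Set I) (t : Y) : Prop where
  toFree : Free cs h T X J t
  ell : ∀ K : Set I, K ⊂ J → ∀ l ∈ LJ cs h T X J, l * t * l⁻¹ ∉ PJ cs h T X K

/-- `V^U` -/
def VU (cs : CoxeterSystem M W) {A : I → I → ℤ} (h : IsCartan M A) (X : (I → ℤ) → Subgroup Y) {V : Type v}
    [AddCommGroup V] [Module ℂ V] (ρ : Representation ℂ Y V) : Submodule ℂ V := fx ρ (RGD.Sup X (RGD.Pos cs h))

/-- the vectors fixed by `U` on which `T` acts by `l` -/
def Vl (cs : CoxeterSystem M W) {A : I → I → ℤ} (h : IsCartan M A) (T : Subgroup Y)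
    (X : (I → ℤ) → Subgroup Y) {V : Type v} [AddCommGroup V] [Module ℂ V] (ρ : Representation ℂ Y V)
    (l : T →* ℂˣ) : Submodule ℂ V := VU cs h X ρ ⊓ eig ρ T l

/-- `l' = w l` -/
def Mv (cs : CoxeterSystem M W) {T : Subgroup Y} {n : I → Y} (hN : NSys M T n) (w : W) (l l' : T →* ℂˣ) : Prop :=
  ∀ g, Rp cs hN w g → ∀ s t : T, (s : Y) = g * t * g⁻¹ → l' s = l t

/-- the rank one group -/
def Li (X : (I → ℤ) → Subgroup Y) (i : I) : Subgroup Y := X (sr i) ⊔ X (-sr i)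

/-- `l` is trivial on `T ∩ ⟨X_i, X_-i⟩` -/
def Triv {T : Subgroup Y} (X : (I → ℤ) → Subgroup Y) (l : T →* ℂˣ) (i : I) : Prop :=
  ∀ t : T, (t : Y) ∈ Li X i → l t = 1

/-- the order of a simple root group -/
noncomputable def qq (X : (I → ℤ) → Subgroup Y) (i : I) : ℕ := Nat.card (X (sr i))

section

variable {cs : CoxeterSystem M W} {A : I → I → ℤ} {h : IsCartan M A} {p : ℕ} {T : Subgroup Y} {n : I → Y}
  {X : (I → ℤ) → Subgroup Y} {V : Type v} [AddCommGroup V] [Module ℂ V]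
  {ρ : Representation ℂ Y V}

theorem mem_VU {v : V} : v ∈ VU cs h X ρ ↔ ∀ u ∈ RGD.Sup X (RGD.Pos cs h), ρ u v = v := Iff.rfl

theorem mem_Vl {l : T →* ℂˣ} {v : V} : v ∈ Vl cs h T X ρ l ↔
    (∀ u ∈ RGD.Sup X (RGD.Pos cs h), ρ u v = v) ∧ ∀ t : T, ρ t v = (l t : ℂ) • v := Iff.rfl

theorem Vl_le {l : T →* ℂˣ} : Vl cs h T X ρ l ≤ VU cs h X ρ := inf_le_left

/-- the free elements see `V^{V_J}` -/
theorem Free.trace_eq [Finite Y] [FiniteDimensional ℂ V] {J : Set I} {t : Y} (R : RGD cs h p T n X)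
    (ht : Free cs h T X J t) : ρ.character t = LinearMap.trace ℂ V (ρ t * av ρ (VJ cs h X J)) :=
  trunc ρ _ (fun u => (Subgroup.mem_normalizer_iff.1 (LJ_le_normalizer_VJ R J ht.mem)) u) ht.free

theorem Free.fx_ne_bot [Finite Y] [FiniteDimensional ℂ V] {J : Set I} {t : Y} (R : RGD cs h p T n X)
    (ht : Free cs h T X J t) (h0 : ρ.character t ≠ 0) : fx ρ (VJ cs h X J) ≠ ⊥ := by
  intro hb
  apply h0
  rw [ht.trace_eq R]
  have : av ρ (VJ cs h X J) = 0 := by
    ext v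
    have h1 := av_mem ρ (VJ cs h X J) v
    rw [hb, Submodule.mem_bot] at h1
    rw [h1, LinearMap.zero_apply]
  rw [this, mul_zero, map_zero]

end

end Cfsg.Agent.H985.VZ
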