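import Cfsg.Agent.H985.VZ.RankOne
import Cfsg.Agent.Characters.Core

/-!
# S4842: abstract lemmas on representations (helper985)

* `el_sub`, `el_comap` : the projections in a subrepresentation and in the restriction along an injective map;
* `char_zero` : `χ(t) = 0` if `χ` is irreducible, `E = eig B l ≠ 0` and `p (g⁻¹ t g) p = 0` for all `g`;
* `char_eq_zero_of_irr` : `χ_M(t) = 0` if `χ_N(t) = 0` for all irreducible subrepresentations `N` of `M`.
-/

set_option autoImplicit false
set_option linter.unusedSectionVars false

open Cfsg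

namespace Cfsg.Agent.H985.VZ

open Module Cfsg.Agent.Characters.Core

universe u v

section

variable {P : Type u} [Group P] {V : Type v} [AddCommGroup V] [Module ℂ V] {σ : Representation ℂ P V}

theorem mem_eig_sub (N : Subrepresentation σ) (B : Subgroup P) (l : B →* ℂˣ) (x : N.toSubmodule) :
    x ∈ eig N.toRepresentation B l ↔ (x : V) ∈ eig σ B l := by
  constructor
  · intro hx b
    exact congrArg Subtype.val (hx b)
  · intro hx b
    exact Subtype.ext (hx b)

theorem el_sub [Finite P] (N : Subrepresentation σ) (B : Subgroup P) (l : B →* ℂˣ) (x : N.toSubmodule) :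
    ((el N.toRepresentation B l x : N.toSubmodule) : V) = el σ B l x := by
  classical
  let _ : Fintype B := Fintype.ofFinite B
  rw [el_apply, el_apply, Submodule.coe_smul, AddSubmonoidClass.coe_finsetSum]
  rfl

variable {Y : Type*} [Group Y] {ρ : Representation ℂ Y V}

theorem mem_eig_comap (ι : P →* Y) {B : Subgroup Y} (hB : B ≤ ι.range) (l : B →* ℂˣ) (v : V) :
    v ∈ eig (ρ.comp ι) (B.comap ι) (l.comp (ι.subgroupComap B)) ↔ v ∈ eig ρ B l := by
  constructor
  · rintro hv ⟨b, hb⟩
    obtain ⟨x, rfl⟩ := hB hb
    exact hv ⟨x, hb⟩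
  · rintro hv ⟨b, hb⟩
    exact hv ⟨ι b, hb⟩

theorem el_comap [Finite P] [Finite Y] (ι : P →* Y) (hι : Function.Injective ι) {B : Subgroup Y} (hB : B ≤ ι.range)
    (l : B →* ℂˣ) (v : V) : el (ρ.comp ι) (B.comap ι) (l.comp (ι.subgroupComap B)) v = el ρ B l v := by
  classical
  let _ : Fintype B := Fintype.ofFinite B
  let _ : Fintype (B.comap ι) := Fintype.ofFinite _
  have hbij : Function.Bijective (ι.subgroupComap B) := by
    constructor
    · intro a b hab
      exact Subtype.ext (hι (congrArg Subtype.val hab))
    · rintro ⟨b, hb⟩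
      obtain ⟨x, rfl⟩ := hB hb
      exact ⟨⟨x, hb⟩, rfl⟩
  rw [el_apply, el_apply, Nat.card_congr (Equiv.ofBijective _ hbij)]
  congr 1
  exact Fintype.sum_bijective _ hbij _ _ fun x => rfl

/-- Schur -/
theorem schur [FiniteDimensional ℂ V] (hσ : σ.IsIrreducible) {f : Module.End ℂ V}
    (hf : ∀ g v, f (σ g v) = σ g (f v)) : ∃ c : ℂ, ∀ v, f v = c • v := by
  have hn : Nontrivial V := by
    by_contra hcon
    rw [not_nontrivial_iff_subsingleton] at hcon
    obtain ⟨a, b, hab⟩ := (hσ.1 : Nontrivial (Subrepresentation σ))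
    apply hab
    apply Subrepresentation.toSubmodule_injective
    ext x
    rw [Subsingleton.elim x 0]
    exact ⟨fun _ => Submodule.zero_mem _, fun _ => Submodule.zero_mem _⟩
  obtain ⟨c, hc⟩ := Module.End.exists_eigenvalue f
  let E : Subrepresentation σ :=
    { toSubmodule := Module.End.eigenspace f c
      apply_mem_toSubmodule := fun g v hv => by
        rw [Module.End.mem_eigenspace_iff] at hv ⊢
        rw [hf, hv, map_smul] }
  rcases hσ.2 E with h1 | h1
  · exact absurd (congrArg Subrepresentation.toSubmodule h1) hc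
  · refine ⟨c, fun v => ?_⟩
    have h2 : v ∈ E.toSubmodule := by rw [h1]; exact Submodule.mem_top
    exact Module.End.mem_eigenspace_iff.1 h2

/-- the vanishing lemma -/
theorem char_zero [Finite P] [FiniteDimensional ℂ V] (hσ : σ.IsIrreducible) {B : Subgroup P} {l : B →* ℂˣ}
    (hE : eig σ B l ≠ ⊥) {t : P} (h : ∀ g : P, ∀ v ∈ eig σ B l, el σ B l (σ (g⁻¹ * t * g) v) = 0) :
    σ.character t = 0 := by
  classical
  let _ : Fintype P := Fintype.ofFinite P
  obtain ⟨c, hc⟩ := schur hσ (f := RkOne.ss σ B l) fun g v => RkOne.ss_comm g v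
  have h1 : RkOne.ss σ B l = c • 1 := LinearMap.ext fun v => hc v
  have h2 := RkOne.trace_ss (ρ := σ) (B := B) (l := l)
  have hc0 : c ≠ 0 := by
    rintro rfl
    rw [h1, zero_smul, map_zero] at h2
    have h4 : (Nat.card P : ℂ) ≠ 0 := by exact_mod_cast Nat.card_pos.ne'
    have h5 : (finrank ℂ (eig σ B l) : ℂ) ≠ 0 := by
      intro h
      apply hE
      exact Submodule.finrank_eq_zero.1 (by exact_mod_cast h)
    exact mul_ne_zero (inv_ne_zero (card_ne B)) (mul_ne_zero h4 h5) h2.symm
  have h3 : LinearMap.trace ℂ V (σ t * RkOne.ss σ B l) = c * σ.character t := by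
    rw [h1, mul_smul_comm, mul_one, map_smul, smul_eq_mul]
    rfl
  have hee : el σ B l * el σ B l = el σ B l := LinearMap.ext fun v => el_idem σ B l v
  have h4 : LinearMap.trace ℂ V (σ t * RkOne.ss σ B l) = 0 := by
    unfold RkOne.ss
    rw [finsum_eq_sum_of_fintype, mul_smul_comm, map_smul, Finset.mul_sum, map_sum, Finset.sum_eq_zero, smul_zero]
    intro g _
    have e1 : σ t * (σ g * el σ B l * σ g⁻¹) = (σ t * σ g * el σ B l) * σ g⁻¹ := by simp only [mul_assoc]
    have e2 : σ g⁻¹ * (σ t * σ g * el σ B l) = (σ (g⁻¹ * t * g) * el σ B l) * el σ B l := by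
      rw [map_mul, map_mul, mul_assoc _ (el σ B l), hee]
      simp only [mul_assoc]
    have e3 : el σ B l * (σ (g⁻¹ * t * g) * el σ B l) = 0 := by
      ext v
      rw [Module.End.mul_apply, Module.End.mul_apply, h g _ (el_mem σ B l v), LinearMap.zero_apply]
    rw [e1, LinearMap.trace_mul_comm, e2, LinearMap.trace_mul_comm, e3, map_zero]
  rw [h4] at h3
  rcases mul_eq_zero.1 h3.symm with h5 | h5
  · exact absurd h5 hc0
  · exact h5

theorem finrank_mapSub (U : Subrepresentation σ) (U₁ : Subrepresentation U.toRepresentation) :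
    finrank ℂ (mapSub U U₁).toSubmodule = finrank ℂ U₁.toSubmodule := Submodule.finrank_map_subtype_eq _ _

/-- a subrepresentation of a subrepresentation -/
noncomputable def mapSubEquiv (U : Subrepresentation σ) (U₁ : Subrepresentation U.toRepresentation) :
    Representation.Equiv U₁.toRepresentation (mapSub U U₁).toRepresentation :=
  Representation.Equiv.mk (Submodule.equivMapOfInjective U.toSubmodule.subtype U.toSubmodule.subtype_injective _)
    (fun g => by
      ext x
      rfl)

theorem mapSub_le (U : Subrepresentation σ) (U₁ : Subrepresentation U.toRepresentation) :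
    (mapSub U U₁).toSubmodule ≤ U.toSubmodule := by
  rintro _ ⟨w, _, rfl⟩
  exact w.2

/-- the irreducible subrepresentations decide -/
theorem char_eq_zero_of_irr [Finite P] [FiniteDimensional ℂ V] {t : P} (k : ℕ) : ∀ U : Subrepresentation σ,
    finrank ℂ U.toSubmodule ≤ k → (∀ N : Subrepresentation σ, N.toSubmodule ≤ U.toSubmodule →
      N.toRepresentation.IsIrreducible → N.toRepresentation.character t = 0) → U.toRepresentation.character t = 0 := by
  classical
  induction k with
  | zero =>
    intro U hU _
    have h1 : U.toSubmodule = ⊥ := Submodule.finrank_eq_zero.1 (Nat.le_zero.1 hU)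
    have h2 : Subsingleton U.toSubmodule := by
      rw [h1]
      infer_instance
    have h3 : U.toRepresentation t = 0 := LinearMap.ext fun x => Subsingleton.elim _ _
    change LinearMap.trace ℂ _ (U.toRepresentation t) = 0
    rw [h3, map_zero]
  | succ k ih =>
    intro U hU hN
    by_cases h0 : U.toSubmodule = ⊥
    · have h2 : Subsingleton U.toSubmodule := by
        rw [h0]
        infer_instance
      have h3 : U.toRepresentation t = 0 := LinearMap.ext fun x => Subsingleton.elim _ _
      change LinearMap.trace ℂ _ (U.toRepresentation t) = 0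
      rw [h3, map_zero]
    · have : Nontrivial U.toSubmodule := Submodule.nontrivial_iff_ne_bot.mpr h0
      obtain ⟨U₁, hU₁⟩ := exists_irreducible_sub U.toRepresentation
      obtain ⟨U₂, hU₂⟩ := exists_isCompl_sub U₁
      have hpos : 0 < finrank ℂ U₁.toSubmodule := by
        rw [Nat.pos_iff_ne_zero]
        intro h
        have h1 : U₁.toSubmodule = ⊥ := Submodule.finrank_eq_zero.1 h
        obtain ⟨a, b, hab⟩ := (hU₁.1 : Nontrivial (Subrepresentation U₁.toRepresentation))
        apply hab
        apply Subrepresentation.toSubmodule_injective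
        have h2 : Subsingleton U₁.toSubmodule := by
          rw [h1]
          infer_instance
        ext x
        rw [Subsingleton.elim x 0]
        exact ⟨fun _ => Submodule.zero_mem _, fun _ => Submodule.zero_mem _⟩
      have hsum := Submodule.finrank_add_eq_of_isCompl hU₂
      rw [character_eq_add_of_isCompl U₁ U₂ hU₂, Pi.add_apply]
      have e1 : U₁.toRepresentation.character t = 0 := by
        rw [Representation.char_iso (mapSubEquiv U U₁)]
        exact hN _ (mapSub_le U U₁) (isIrreducible_of_equiv (mapSubEquiv U U₁) hU₁)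
      have e2 : U₂.toRepresentation.character t = 0 := by
        rw [Representation.char_iso (mapSubEquiv U U₂)]
        refine ih _ ?_ fun N hNle hNi => hN N (le_trans hNle (mapSub_le U U₂)) hNi
        rw [finrank_mapSub]
        omega
      rw [e1, e2, add_zero]

end

end Cfsg.Agent.H985.VZ
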