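import Cfsg.Agent.H985.VZ.Frame
import Cfsg.Agent.H985.VZ.Rep

/-!
# S4842: the values at elliptic elements and the stabilisers of the `T`-characters (helper985)

* `exists_Vl` : `V^U ≠ 0` contains an eigenvector of `T`;
* `exists_fix_J` : `t` elliptic in `L_J`, `χ(t) ≠ 0`, `V^U ≠ 0`: some `l` in `V^U` has no `W_J`-conjugate whose stabiliser in `W_J`
  lies in a proper `W_K`;
* `exists_fix` : the case `J = {a}`.
-/

set_option autoImplicit false
set_option linter.unusedSectionVars false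

open Cfsg

namespace Cfsg.Agent.H985.VZ

open CoxeterSystem Cfsg.Agent.ChevalleyStructure.CoxeterGeom Cfsg.Agent.Tits.Roots Cfsg.Agent.Tits.Core
  Cfsg.Agent.Tits.Exchange Cfsg.Agent.Nodes.Reps Cfsg.Agent.Nodes.BNOf Cfsg.Agent.Nodes.StabComb
  Cfsg.Agent.Nodes.Bruhat Cfsg.Agent.Nodes.OppDec Cfsg.Agent.Nodes.LeviDec Module

universe u v

variable {I W : Type*} {Y : Type u} [Fintype I] [DecidableEq I] [Group W] [Group Y] {M : CoxeterMatrix I}
  {cs : CoxeterSystem M W} {A : I → I → ℤ} {h : IsCartan M A} {p : ℕ} {T : Subgroup Y} {n : I → Y}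
  {X : (I → ℤ) → Subgroup Y} (R : RGD cs h p T n X) [Finite W] [Finite Y] {V : Type v} [AddCommGroup V] [Module ℂ V]
  {ρ : Representation ℂ Y V}

omit R [Finite W] [Finite Y] in
theorem mem_WJ_single {i : I} {w : W} (h : w ∈ WJ cs {i}) : w = 1 ∨ w = cs.simple i := by
  obtain ⟨ω, hω, rfl⟩ := exists_word_of_mem_WJ cs h
  clear h
  induction ω with
  | nil => left; exact cs.wordProd_nil
  | cons j ω ih =>
    have hj : j = i := hω j (by simp)
    subst hj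
    rw [cs.wordProd_cons]
    rcases ih (fun k hk => hω k (by simp [hk])) with h | h
    · right; rw [h, mul_one]
    · left; rw [h, cs.simple_mul_simple_self]

include R

theorem exists_Vl [FiniteDimensional ℂ V] (hT : ∀ s ∈ T, ∀ t ∈ T, s * t = t * s) (h0 : VU cs h X ρ ≠ ⊥) :
    ∃ l : T →* ℂˣ, Vl cs h T X ρ l ≠ ⊥ := by
  obtain ⟨l, v, hv, hv0, hl⟩ := exists_eig hT h0 fun t ht v hv => rho_VU R (RGD.T_le_B ht) hv
  refine ⟨l, fun hb => hv0 ?_⟩
  have h1 : v ∈ Vl cs h T X ρ l := ⟨hv, hl⟩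
  rw [hb] at h1
  exact h1

omit [Finite W] R in
/-- a subspace stable under `B` is stable under the projections -/
theorem el_mem_of_stable {B : Subgroup Y} {l : B →* ℂˣ} {S : Submodule ℂ V} (hS : ∀ b ∈ B, ∀ v ∈ S, ρ b v ∈ S) {v : V}
    (hv : v ∈ S) : el ρ B l v ∈ S := by
  classical
  let _ : Fintype B := Fintype.ofFinite B
  rw [el_apply]
  exact S.smul_mem _ (S.sum_mem fun b _ => S.smul_mem _ (hS b b.2 v hv))

/-- `p_{l'} n_i v ≠ 0` for `0 ≠ v ∈ V_l`, `l' = s_i l ≠ l` -/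
theorem el_n_ne {i : I} {l l' : T →* ℂˣ} (hm : Mv cs R.nsys (cs.simple i) l l') (hne : l ≠ l') {v : V}
    (hv : v ∈ Vl cs h T X ρ l) (hv0 : v ≠ 0) : el ρ (RGD.B cs h T X) (lamB R l') (ρ (n i) v) ≠ 0 := by
  classical
  let _ : Fintype (RGD.B cs h T X) := Fintype.ofFinite _
  intro hcon
  have hnm : ¬ Mv cs R.nsys (cs.simple i) l l := fun h => hne (h.unique hm)
  have h1 : el ρ (RGD.B cs h T X) (lamB R l) (ρ (n i)⁻¹ (el ρ (RGD.B cs h T X) (lamB R l') (ρ (n i) v))) =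
      ((Nat.card (RGD.B cs h T X) : ℂ)⁻¹ * (Finset.univ.filter fun b : RGD.B cs h T X =>
        (n i)⁻¹ * b * n i ∈ RGD.B cs h T X).card) • v := by
    rw [el_apply ρ _ (lamB R l'), map_smul, map_smul, map_sum, map_sum, mul_smul, ← Finset.sum_filter_add_sum_filter_not
      Finset.univ (fun b : RGD.B cs h T X => (n i)⁻¹ * b * n i ∈ RGD.B cs h T X)]
    have e1 : ∀ b ∈ Finset.univ.filter (fun b : RGD.B cs h T X => (n i)⁻¹ * b * n i ∈ RGD.B cs h T X),
        el ρ (RGD.B cs h T X) (lamB R l) (ρ (n i)⁻¹ (((lamB R l' b)⁻¹ : ℂˣ).val • ρ b (ρ (n i) v))) = v := by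
      intro b hb
      have hb' := (Finset.mem_filter.1 hb).2
      rw [map_smul, map_smul, show ρ (n i)⁻¹ (ρ b (ρ (n i) v)) = ρ ((n i)⁻¹ * b * n i) v by
        rw [map_mul, map_mul]; rfl]
      have h2 : lamB R l' b = lamB R l ⟨(n i)⁻¹ * b * n i, hb'⟩ :=
        lamB_conj R (rp_simple cs R.nsys i) hm (b := ⟨_, hb'⟩) (by
          change (b : Y) = n i * ((n i)⁻¹ * b * n i) * (n i)⁻¹
          group)
      rw [Vl_eq R] at hv
      have h3 := hv ⟨(n i)⁻¹ * b * n i, hb'⟩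
      change ρ ((n i)⁻¹ * b * n i) v = _ at h3
      rw [h3, map_smul, el_of_mem hv, smul_smul, h2, Units.inv_mul, one_smul]
    have e2 : ∀ b ∈ Finset.univ.filter (fun b : RGD.B cs h T X => ¬ (n i)⁻¹ * b * n i ∈ RGD.B cs h T X),
        el ρ (RGD.B cs h T X) (lamB R l) (ρ (n i)⁻¹ (((lamB R l' b)⁻¹ : ℂˣ).val • ρ b (ρ (n i) v))) = 0 := by
      intro b hb
      have hb' := (Finset.mem_filter.1 hb).2
      have h2 : (n i)⁻¹ * b * n i ∈ PJ cs h T X {i} := by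
        have hn : n i ∈ PJ cs h T X {i} := LJ_le_PJ (n_mem_LJ R rfl)
        exact mul_mem (mul_mem (inv_mem hn) (B_le_PJ b.2)) hn
      obtain ⟨w, hw, b₁, hb₁, g, hg, b₂, hb₂, e⟩ := (mem_PJ_iff_cell R).1 h2
      have hw' : w = cs.simple i := by
        rcases mem_WJ_single hw with h3 | h3
        · exfalso
          apply hb'
          subst h3
          rw [e]
          exact mul_mem (mul_mem hb₁ (RGD.T_le_B hg.mem_of_one)) hb₂
        · exact h3
      subst hw'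
      rw [map_smul, map_smul, show ρ (n i)⁻¹ (ρ b (ρ (n i) v)) = ρ ((n i)⁻¹ * b * n i) v by
        rw [map_mul, map_mul]; rfl, e, map_mul, map_mul, Module.End.mul_apply, Module.End.mul_apply]
      have hv' := hv
      rw [Vl_eq R] at hv'
      have h3 := hv' ⟨b₂, hb₂⟩
      change ρ b₂ v = _ at h3
      have h4 := el_rho ρ (RGD.B cs h T X) (lamB R l) ⟨b₁, hb₁⟩ (ρ g v)
      change el ρ _ _ (ρ b₁ (ρ g v)) = _ at h4
      rw [h3, map_smul, map_smul, map_smul, h4, el_rho_eq_zero R hg hnm hv, smul_zero, smul_zero, smul_zero]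
    rw [Finset.sum_congr rfl e1, Finset.sum_congr rfl e2, Finset.sum_const_zero, add_zero, Finset.sum_const,
      ← Nat.cast_smul_eq_nsmul ℂ]
  rw [hcon, map_zero, map_zero] at h1
  rcases smul_eq_zero.1 h1.symm with h2 | h2
  · rcases mul_eq_zero.1 h2 with h3 | h3
    · exact inv_ne_zero (card_ne _) h3
    · have h4 : (1 : RGD.B cs h T X) ∈ Finset.univ.filter fun b : RGD.B cs h T X =>
          (n i)⁻¹ * b * n i ∈ RGD.B cs h T X := by
        rw [Finset.mem_filter]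
        refine ⟨Finset.mem_univ _, ?_⟩
        rw [Subgroup.coe_one, mul_one, inv_mul_cancel]
        exact one_mem _
      exact (Finset.card_pos.2 ⟨_, h4⟩).ne' (by exact_mod_cast h3)
  · exact hv0 h2

/-- moving along `W_J` in a subspace stable under `P_J` -/
theorem exists_mem_of_mv {J : Set I} {S : Submodule ℂ V} (hS : ∀ g ∈ PJ cs h T X J, ∀ v ∈ S, ρ g v ∈ S) {w : W}
    (hw : w ∈ WJ cs J) : ∀ {l l' : T →* ℂˣ}, Mv cs R.nsys w l l' → (∃ v ∈ S, v ≠ 0 ∧ v ∈ Vl cs h T X ρ l) →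
      ∃ v ∈ S, v ≠ 0 ∧ v ∈ Vl cs h T X ρ l' := by
  have step : ∀ i ∈ J, ∀ {l l' : T →* ℂˣ}, Mv cs R.nsys (cs.simple i) l l' →
      (∃ v ∈ S, v ≠ 0 ∧ v ∈ Vl cs h T X ρ l) → ∃ v ∈ S, v ≠ 0 ∧ v ∈ Vl cs h T X ρ l' := by
    rintro i hi l l' hm ⟨v, hv, hv0, hvl⟩
    by_cases hll : l = l'
    · exact ⟨v, hv, hv0, hll ▸ hvl⟩
    · refine ⟨_, el_mem_of_stable (B := RGD.B cs h T X) (l := lamB R l') (fun b hb v hv => hS b (B_le_PJ hb) v hv)
        (hS (n i) (LJ_le_PJ (n_mem_LJ R hi)) v hv), el_n_ne R hm hll hvl hv0, ?_⟩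
      rw [Vl_eq R]
      exact el_mem _ _ _ _
  obtain ⟨ω, hω, rfl⟩ := exists_word_of_mem_WJ cs hw
  clear hw
  induction ω with
  | nil =>
    intro l l' hm hv
    rw [wordProd_nil] at hm
    rw [← (mv_one l).unique hm]
    exact hv
  | cons i ω ih =>
    intro l l' hm hv
    obtain ⟨l'', hl''⟩ := exists_mv_to (cs := cs) (hN := R.nsys) (cs.wordProd ω) l
    obtain ⟨l3, hl3⟩ := exists_mv_to (cs := cs) (hN := R.nsys) (cs.simple i) l''
    rw [wordProd_cons] at hm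
    rw [hm.unique (hl''.mul hl3)]
    exact step i (hω i (List.mem_cons_self ..)) hl3 (ih (fun j hj => hω j (List.mem_cons_of_mem _ hj)) hl'' hv)

/-- an elliptic element has no `P_J`-conjugate in a smaller parabolic subgroup -/
theorem Ell.not_mem {J K : Set I} {t : Y} (ht : Ell cs h T X J t) (hK : K ⊂ J) {g : Y} (hg : g ∈ PJ cs h T X J) :
    g⁻¹ * t * g ∉ PJ cs h T X K := by
  intro h1
  obtain ⟨l, hl, v, hv, e⟩ := (mem_PJ R).1 (inv_mem hg)
  have hg' : g = v⁻¹ * l⁻¹ := by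
    rw [← inv_inv g, e]
    group
  have h2 : l * (t⁻¹ * v * t * v⁻¹) * l⁻¹ ∈ VJ cs h X J := by
    refine (Subgroup.mem_normalizer_iff.1 (LJ_le_normalizer_VJ R J hl) _).1 (mul_mem ?_ (inv_mem hv))
    have := (Subgroup.mem_normalizer_iff.1 (LJ_le_normalizer_VJ R J (inv_mem ht.toFree.mem)) v).1 hv
    rwa [inv_inv] at this
  refine ht.ell K hK l hl ?_
  have h3 : l * t * l⁻¹ = (g⁻¹ * t * g) * (l * (t⁻¹ * v * t * v⁻¹) * l⁻¹)⁻¹ := by
    rw [e, hg']
    group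
  rw [h3]
  exact mul_mem h1 (inv_mem (B_le_PJ (VJ_le_B J h2)))

/-- **the stabilisers of the `T`-characters** -/
theorem exists_fix_J [FiniteDimensional ℂ V] (hG : GG cs h T X = ⊤) (hT : ∀ s ∈ T, ∀ t ∈ T, s * t = t * s)
    (hρ : ρ.IsIrreducible) (h0 : VU cs h X ρ ≠ ⊥) {J : Set I} {t : Y} (ht : Ell cs h T X J t)
    (hχ : ρ.character t ≠ 0) : ∃ l : T →* ℂˣ, Vl cs h T X ρ l ≠ ⊥ ∧ ∀ v ∈ WJ cs J, ∀ l', Mv cs R.nsys v l l' →
      ∀ K, K ⊂ J → ∃ w ∈ WJ cs J, w ∉ WJ cs K ∧ Mv cs R.nsys w l' l' := by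
  classical
  by_contra hcon
  push Not at hcon
  apply hχ
  have htP : t ∈ PJ cs h T X J := LJ_le_PJ ht.toFree.mem
  let ι : ↥(PJ cs h T X J) →* Y := (PJ cs h T X J).subtype
  have hB : RGD.B cs h T X ≤ ι.range := by
    intro b hb
    exact ⟨⟨b, B_le_PJ hb⟩, rfl⟩
  let U : Subrepresentation (ρ.comp ι) := ⟨fx ρ (VJ cs h X J), fun g v hv => rho_fx_VJ R g.2 hv⟩
  have h1 : ρ.character t = U.toRepresentation.character ⟨t, htP⟩ := by
    rw [ht.toFree.trace_eq R]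
    have h2 : ∀ x, (ρ t * av ρ (VJ cs h X J)) x ∈ fx ρ (VJ cs h X J) := fun x => rho_fx_VJ R htP (av_mem ρ _ x)
    rw [← LinearMap.trace_restrict_eq_of_forall_mem (fx ρ (VJ cs h X J)) (ρ t * av ρ (VJ cs h X J)) h2 fun x _ => h2 x]
    change _ = LinearMap.trace ℂ _ (U.toRepresentation ⟨t, htP⟩)
    congr 1
    ext x
    change ρ t (av ρ (VJ cs h X J) x) = ρ t x
    rw [av_of_mem x.2]
  rw [h1]
  refine char_eq_zero_of_irr _ U le_rfl fun N hNU hNi => ?_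
  have hN0 : N.toSubmodule ≠ ⊥ := by
    intro hb
    obtain ⟨a, b, hab⟩ := (hNi.1 : Nontrivial (Subrepresentation N.toRepresentation))
    apply hab
    apply Subrepresentation.toSubmodule_injective
    have h2 : Subsingleton N.toSubmodule := by
      rw [hb]
      infer_instance
    ext x
    rw [Subsingleton.elim x 0]
    exact ⟨fun _ => Submodule.zero_mem _, fun _ => Submodule.zero_mem _⟩
  have hNs : ∀ g ∈ PJ cs h T X J, ∀ v ∈ N.toSubmodule, ρ g v ∈ N.toSubmodule := fun g hg v hv =>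
    N.apply_mem_toSubmodule ⟨g, hg⟩ hv
  -- `N` contains vectors fixed by `U`
  have hNU : N.toSubmodule ⊓ VU cs h X ρ ≠ ⊥ := by
    intro hb
    obtain ⟨N', hN'⟩ := Cfsg.Agent.Characters.Core.exists_isCompl_sub N
    have h2 : ∀ v ∈ VU cs h X ρ, v ∈ N'.toSubmodule := by
      intro v hv
      have h3 : v ∈ N.toSubmodule ⊔ N'.toSubmodule := by
        rw [hN'.sup_eq_top]
        exact Submodule.mem_top
      obtain ⟨a, ha, b, hb', rfl⟩ := Submodule.mem_sup.1 h3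
      have h4 : a ∈ N.toSubmodule ⊓ VU cs h X ρ := by
        refine ⟨ha, fun u hu => ?_⟩
        have huP : u ∈ PJ cs h T X J := B_le_PJ (RGD.U_le_B hu)
        have h5 := hv u hu
        rw [map_add] at h5
        have h6 : ρ u a - a ∈ N.toSubmodule ⊓ N'.toSubmodule := by
          refine ⟨N.toSubmodule.sub_mem (hNs u huP a ha) ha, ?_⟩
          have h7 : ρ u a - a = b - ρ u b := by
            rw [sub_eq_sub_iff_add_eq_add, h5]
            exact add_comm _ _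
          rw [h7]
          exact N'.toSubmodule.sub_mem hb' (N'.apply_mem_toSubmodule ⟨u, huP⟩ hb')
        rw [hN'.inf_eq_bot, Submodule.mem_bot] at h6
        exact sub_eq_zero.1 h6
      rw [hb, Submodule.mem_bot] at h4
      rw [h4, zero_add]
      exact hb'
    have h3 := gen_VJ R hG hρ h0 J (S := N'.toSubmodule) fun g hg v hv =>
      N'.apply_mem_toSubmodule ⟨g, hg⟩ (h2 v hv)
    apply hN0
    rw [eq_bot_iff]
    intro x hx
    have h4 : x ∈ N.toSubmodule ⊓ N'.toSubmodule := ⟨hx, h3 (hNU hx)⟩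
    rw [hN'.inf_eq_bot] at h4
    exact h4
  obtain ⟨l, v, hv, hv0, hvl⟩ := exists_eig hT hNU fun s hs v hv =>
    ⟨hNs s (B_le_PJ (RGD.T_le_B hs)) v hv.1, rho_VU R (RGD.T_le_B hs) hv.2⟩
  have hl : Vl cs h T X ρ l ≠ ⊥ := by
    intro hb
    have h2 : v ∈ Vl cs h T X ρ l := ⟨hv.2, hvl⟩
    rw [hb] at h2
    exact hv0 h2
  obtain ⟨w, hw, l', hm, K, hK, hst⟩ := hcon l hl
  obtain ⟨x, hx, hx0, hxl⟩ := exists_mem_of_mv R hNs hw hm ⟨v, hv.1, hv0, hv.2, hvl⟩
  have hxl' := hxl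
  rw [Vl_eq R] at hxl'
  refine char_zero hNi (B := (RGD.B cs h T X).comap ι) (l := (lamB R l').comp (ι.subgroupComap (RGD.B cs h T X))) ?_
    fun g y hy => ?_
  · intro hb
    have h2 : (⟨x, hx⟩ : N.toSubmodule) ∈ eig N.toRepresentation ((RGD.B cs h T X).comap ι)
        ((lamB R l').comp (ι.subgroupComap (RGD.B cs h T X))) := by
      rw [mem_eig_sub, mem_eig_comap ι hB]
      exact hxl'
    rw [hb] at h2
    exact hx0 (congrArg Subtype.val h2)
  · apply Subtype.ext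
    rw [el_sub, el_comap ι (Subgroup.subtype_injective _) hB]
    rw [mem_eig_sub, mem_eig_comap ι hB, ← Vl_eq R] at hy
    change el ρ _ _ (ρ ((g : Y)⁻¹ * t * g) (y : V)) = 0
    have h3 := ht.not_mem R hK g.2
    have h4 : (g : Y)⁻¹ * t * g ∈ PJ cs h T X J := mul_mem (mul_mem (inv_mem g.2) htP) g.2
    obtain ⟨w', hw', b₁, hb₁, k, hk, b₂, hb₂, e⟩ := (mem_PJ_iff_cell R).1 h4
    have h5 : w' ∉ WJ cs K := by
      intro h6
      apply h3
      rw [mem_PJ_iff_cell R]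
      exact ⟨w', h6, b₁, hb₁, k, hk, b₂, hb₂, e⟩
    have h6 : ¬ Mv cs R.nsys w' l' l' := fun h7 => hst w' hw' h5 h7
    have hy' := hy
    rw [Vl_eq R] at hy'
    have h7 := hy' ⟨b₂, hb₂⟩
    change ρ b₂ (y : V) = _ at h7
    have h8 := el_rho ρ (RGD.B cs h T X) (lamB R l') ⟨b₁, hb₁⟩ (ρ k (y : V))
    change el ρ _ _ (ρ b₁ (ρ k (y : V))) = _ at h8
    rw [e, map_mul, map_mul, Module.End.mul_apply, Module.End.mul_apply, h7, map_smul, map_smul, map_smul, h8,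
      el_rho_eq_zero R hk h6 hy, smul_zero, smul_zero]

/-- the case `J = {a}` -/
theorem exists_fix [FiniteDimensional ℂ V] (hG : GG cs h T X = ⊤) (hT : ∀ s ∈ T, ∀ t ∈ T, s * t = t * s)
    (hρ : ρ.IsIrreducible) (h0 : VU cs h X ρ ≠ ⊥) {a : I} {t : Y} (ht : Ell cs h T X {a} t)
    (hχ : ρ.character t ≠ 0) : ∃ l : T →* ℂˣ, Vl cs h T X ρ l ≠ ⊥ ∧ Mv cs R.nsys (cs.simple a) l l := by
  obtain ⟨l, hl, h1⟩ := exists_fix_J R hG hT hρ h0 ht hχ
  refine ⟨l, hl, ?_⟩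
  obtain ⟨w, hw, hw', hm⟩ := h1 1 (one_mem _) l (mv_one l) ∅ (Set.empty_ssubset.2 ⟨a, rfl⟩)
  rcases mem_WJ_single hw with h2 | h2
  · exfalso
    apply hw'
    rw [h2]
    exact one_mem _
  · rwa [h2] at hm

end Cfsg.Agent.H985.VZ
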