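import Cfsg.Agent.Characters.Core
import Cfsg.Agent.Characters.Linear

/-!
# S4842: idempotents of linear characters of subgroups in a representation (helper985)

* `el ρ H ξ` : the projection onto `eig ρ H ξ = {v | ρ h v = ξ h v}`; `av ρ H = el ρ H 1`, `fx ρ H`.
* `trace_el` : `dim (eig ρ H ξ) = |H|⁻¹ ∑ ξ(h)⁻¹ χ(h)`;
* `trunc` : `χ(t) = tr (t ∘ av ρ H)` if `t` normalises `H` and `C_H(t) = 1`.
-/

set_option autoImplicit false
set_option linter.unusedSectionVars false

open scoped ComplexConjugate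
open Cfsg

namespace Cfsg.Agent.H985.VZ

open Cfsg.Agent.Characters Module

universe u v

variable {Y : Type u} [Group Y] {V : Type v} [AddCommGroup V] [Module ℂ V]

/-- the eigenspace of a linear character of a subgroup -/
def eig (ρ : Representation ℂ Y V) (H : Subgroup Y) (ξ : H →* ℂˣ) : Submodule ℂ V where
  carrier := {v | ∀ h : H, ρ h v = (ξ h : ℂ) • v}
  add_mem' := fun {v w} hv hw h => by rw [map_add, hv, hw, smul_add]
  zero_mem' := fun h => by rw [map_zero, smul_zero]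
  smul_mem' := fun c v hv h => by rw [map_smul, hv, smul_comm]

theorem mem_eig {ρ : Representation ℂ Y V} {H : Subgroup Y} {ξ : H →* ℂˣ} {v : V} :
    v ∈ eig ρ H ξ ↔ ∀ h : H, ρ h v = (ξ h : ℂ) • v := Iff.rfl

/-- the space of fixed vectors -/
def fx (ρ : Representation ℂ Y V) (H : Subgroup Y) : Submodule ℂ V where
  carrier := {v | ∀ h ∈ H, ρ h v = v}
  add_mem' := fun {v w} hv hw h hh => by rw [map_add, hv h hh, hw h hh]
  zero_mem' := fun h _ => map_zero _
  smul_mem' := fun c v hv h hh => by rw [map_smul, hv h hh]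

theorem mem_fx {ρ : Representation ℂ Y V} {H : Subgroup Y} {v : V} : v ∈ fx ρ H ↔ ∀ h ∈ H, ρ h v = v := Iff.rfl

theorem eig_one (ρ : Representation ℂ Y V) (H : Subgroup Y) : eig ρ H 1 = fx ρ H := by
  ext v
  rw [mem_eig, mem_fx]
  constructor
  · intro h x hx
    have := h ⟨x, hx⟩
    rwa [MonoidHom.one_apply, Units.val_one, one_smul] at this
  · intro h x
    rw [MonoidHom.one_apply, Units.val_one, one_smul]
    exact h x x.2

theorem fx_mono {ρ : Representation ℂ Y V} {H K : Subgroup Y} (h : H ≤ K) : fx ρ K ≤ fx ρ H :=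
  fun _ hv x hx => hv x (h hx)

theorem fx_sup {ρ : Representation ℂ Y V} {H K : Subgroup Y} {v : V} (h1 : v ∈ fx ρ H) (h2 : v ∈ fx ρ K) :
    v ∈ fx ρ (H ⊔ K) := by
  have key : H ⊔ K ≤ { carrier := {x | ρ x v = v}
                       one_mem' := by simp
                       mul_mem' := fun {a b} ha hb => by
                        change ρ (a * b) v = v
                        rw [map_mul, Module.End.mul_apply, show ρ b v = v from hb, show ρ a v = v from ha]
                       inv_mem' := fun {a} ha => by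
                        change ρ a⁻¹ v = v
                        have h3 : ρ a v = v := ha
                        conv_lhs => rw [← h3]
                        rw [← Module.End.mul_apply, ← map_mul, inv_mul_cancel, map_one, Module.End.one_apply] } :=
    sup_le (fun x hx => h1 x hx) fun x hx => h2 x hx
  exact fun x hx => key hx

section proj

variable [Finite Y]

/-- the projection onto the eigenspace -/
noncomputable def el (ρ : Representation ℂ Y V) (H : Subgroup Y) (ξ : H →* ℂˣ) : Module.End ℂ V :=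
  (Nat.card H : ℂ)⁻¹ • ∑ᶠ h : H, ((ξ h)⁻¹ : ℂˣ).val • ρ h

/-- the average -/
noncomputable def av (ρ : Representation ℂ Y V) (H : Subgroup Y) : Module.End ℂ V := el ρ H 1

theorem el_eq (ρ : Representation ℂ Y V) (H : Subgroup Y) (ξ : H →* ℂˣ) [Fintype H] :
    el ρ H ξ = (Nat.card H : ℂ)⁻¹ • ∑ h : H, ((ξ h)⁻¹ : ℂˣ).val • ρ h := by
  unfold el
  rw [finsum_eq_sum_of_fintype]

theorem el_apply (ρ : Representation ℂ Y V) (H : Subgroup Y) (ξ : H →* ℂˣ) [Fintype H] (v : V) :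
    el ρ H ξ v = (Nat.card H : ℂ)⁻¹ • ∑ h : H, ((ξ h)⁻¹ : ℂˣ).val • ρ h v := by
  rw [el_eq, LinearMap.smul_apply, LinearMap.sum_apply]
  rfl

theorem card_ne (H : Subgroup Y) : (Nat.card H : ℂ) ≠ 0 := by
  exact_mod_cast Nat.card_pos.ne'

/-- `ρ k (el v) = ξ k • el v` -/
theorem rho_el (ρ : Representation ℂ Y V) (H : Subgroup Y) (ξ : H →* ℂˣ) (k : H) (v : V) :
    ρ k (el ρ H ξ v) = (ξ k : ℂ) • el ρ H ξ v := by
  classical
  let _ : Fintype H := Fintype.ofFinite H
  have key : ∑ h : H, ρ k (((ξ h)⁻¹ : ℂˣ).val • ρ h v) = (ξ k : ℂ) • ∑ h : H, ((ξ h)⁻¹ : ℂˣ).val • ρ h v := by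
    rw [Finset.smul_sum]
    refine Fintype.sum_equiv (Equiv.mulLeft k) _ _ fun h => ?_
    change ρ k (((ξ h)⁻¹ : ℂˣ).val • ρ h v) = (ξ k : ℂ) • (((ξ (k * h))⁻¹ : ℂˣ).val • ρ ((k : Y) * (h : Y)) v)
    rw [map_smul, map_mul ρ, Module.End.mul_apply, map_mul ξ, mul_inv, Units.val_mul, smul_smul, ← mul_assoc,
      Units.mul_inv, one_mul]
  rw [el_apply, map_smul, map_sum, key, smul_comm]

theorem el_mem (ρ : Representation ℂ Y V) (H : Subgroup Y) (ξ : H →* ℂˣ) (v : V) : el ρ H ξ v ∈ eig ρ H ξ :=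
  fun k => rho_el ρ H ξ k v

/-- `el (ρ k v) = ξ k • el v` -/
theorem el_rho (ρ : Representation ℂ Y V) (H : Subgroup Y) (ξ : H →* ℂˣ) (k : H) (v : V) :
    el ρ H ξ (ρ k v) = (ξ k : ℂ) • el ρ H ξ v := by
  classical
  let _ : Fintype H := Fintype.ofFinite H
  have key : ∑ h : H, ((ξ h)⁻¹ : ℂˣ).val • ρ h (ρ k v) = (ξ k : ℂ) • ∑ h : H, ((ξ h)⁻¹ : ℂˣ).val • ρ h v := by
    rw [Finset.smul_sum]
    refine Fintype.sum_equiv (Equiv.mulRight k) _ _ fun h => ?_
    change ((ξ h)⁻¹ : ℂˣ).val • ρ h (ρ k v) = (ξ k : ℂ) • (((ξ (h * k))⁻¹ : ℂˣ).val • ρ ((h : Y) * (k : Y)) v)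
    rw [map_mul ρ, Module.End.mul_apply, map_mul ξ, mul_inv_rev, Units.val_mul, smul_smul, ← mul_assoc,
      Units.mul_inv, one_mul]
  rw [el_apply, el_apply, key, smul_comm]

theorem el_of_mem {ρ : Representation ℂ Y V} {H : Subgroup Y} {ξ : H →* ℂˣ} {v : V} (hv : v ∈ eig ρ H ξ) :
    el ρ H ξ v = v := by
  classical
  let _ : Fintype H := Fintype.ofFinite H
  rw [el_apply, Finset.sum_congr rfl (g := fun _ => v) fun h _ => by rw [hv h, smul_smul, Units.inv_mul, one_smul],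
    Finset.sum_const, Finset.card_univ, ← Nat.card_eq_fintype_card, ← Nat.cast_smul_eq_nsmul ℂ, smul_smul,
    inv_mul_cancel₀ (card_ne H), one_smul]

theorem el_idem (ρ : Representation ℂ Y V) (H : Subgroup Y) (ξ : H →* ℂˣ) (v : V) :
    el ρ H ξ (el ρ H ξ v) = el ρ H ξ v := el_of_mem (el_mem ρ H ξ v)

theorem range_el (ρ : Representation ℂ Y V) (H : Subgroup Y) (ξ : H →* ℂˣ) : LinearMap.range (el ρ H ξ) = eig ρ H ξ := by
  apply le_antisymm
  · rintro _ ⟨v, rfl⟩
    exact el_mem ρ H ξ v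
  · exact fun v hv => ⟨v, el_of_mem hv⟩

/-- distinct characters are orthogonal -/
theorem el_of_ne {ρ : Representation ℂ Y V} {H : Subgroup Y} {ξ ξ' : H →* ℂˣ} (hne : ξ ≠ ξ') {v : V}
    (hv : v ∈ eig ρ H ξ') : el ρ H ξ v = 0 := by
  obtain ⟨h, hh⟩ : ∃ h, ξ h ≠ ξ' h := by
    by_contra hcon
    push Not at hcon
    exact hne (MonoidHom.ext hcon)
  have h1 := el_rho ρ H ξ h v
  rw [hv h, map_smul] at h1
  have h2 : ((ξ' h : ℂ) - (ξ h : ℂ)) • el ρ H ξ v = 0 := by rw [sub_smul, h1, sub_self]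
  rcases smul_eq_zero.1 h2 with h3 | h3
  · exact absurd (Units.ext (sub_eq_zero.1 h3).symm) hh
  · exact h3

/-- the dimension of the eigenspace -/
theorem trace_el [FiniteDimensional ℂ V] (ρ : Representation ℂ Y V) (H : Subgroup Y) (ξ : H →* ℂˣ) :
    LinearMap.trace ℂ V (el ρ H ξ) = finrank ℂ (eig ρ H ξ) := by
  have h : LinearMap.IsProj (eig ρ H ξ) (el ρ H ξ) := ⟨fun v => el_mem ρ H ξ v, fun v hv => el_of_mem hv⟩
  exact h.trace

theorem trace_el_eq [FiniteDimensional ℂ V] (ρ : Representation ℂ Y V) (H : Subgroup Y) (ξ : H →* ℂˣ) [Fintype H] :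
    (finrank ℂ (eig ρ H ξ) : ℂ) = (Nat.card H : ℂ)⁻¹ * ∑ h : H, ((ξ h)⁻¹ : ℂˣ).val * ρ.character h := by
  rw [← trace_el, el_eq, map_smul, map_sum, smul_eq_mul]
  congr 1
  refine Finset.sum_congr rfl fun h _ => ?_
  rw [map_smul, smul_eq_mul]
  rfl

theorem av_rho (ρ : Representation ℂ Y V) {H : Subgroup Y} {k : Y} (hk : k ∈ H) (v : V) : av ρ H (ρ k v) = av ρ H v := by
  have := el_rho ρ H 1 ⟨k, hk⟩ v
  rwa [MonoidHom.one_apply, Units.val_one, one_smul] at this

theorem rho_av (ρ : Representation ℂ Y V) {H : Subgroup Y} {k : Y} (hk : k ∈ H) (v : V) : ρ k (av ρ H v) = av ρ H v := by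
  have := rho_el ρ H 1 ⟨k, hk⟩ v
  rwa [MonoidHom.one_apply, Units.val_one, one_smul] at this

theorem av_mem (ρ : Representation ℂ Y V) (H : Subgroup Y) (v : V) : av ρ H v ∈ fx ρ H := fun _ hk => rho_av ρ hk v

theorem av_of_mem {ρ : Representation ℂ Y V} {H : Subgroup Y} {v : V} (hv : v ∈ fx ρ H) : av ρ H v = v :=
  el_of_mem (by rwa [eig_one])

theorem av_idem (ρ : Representation ℂ Y V) (H : Subgroup Y) (v : V) : av ρ H (av ρ H v) = av ρ H v :=
  av_of_mem (av_mem ρ H v)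

theorem av_apply (ρ : Representation ℂ Y V) (H : Subgroup Y) [Fintype H] (v : V) :
    av ρ H v = (Nat.card H : ℂ)⁻¹ • ∑ h : H, ρ h v := by
  unfold av
  rw [el_apply]
  congr 1
  refine Finset.sum_congr rfl fun h _ => ?_
  rw [MonoidHom.one_apply, inv_one, Units.val_one, one_smul]

theorem av_eq (ρ : Representation ℂ Y V) (H : Subgroup Y) [Fintype H] :
    av ρ H = (Nat.card H : ℂ)⁻¹ • ∑ h : H, ρ h := by
  ext v
  rw [av_apply, LinearMap.smul_apply, LinearMap.sum_apply]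

/-- `ρ g` moves the projections -/
theorem rho_av_conj (ρ : Representation ℂ Y V) {H H' : Subgroup Y} {g : Y} (h1 : ∀ x, x ∈ H ↔ g * x * g⁻¹ ∈ H') (v : V) :
    ρ g (av ρ H v) = av ρ H' (ρ g v) := by
  classical
  let _ : Fintype H := Fintype.ofFinite H
  let _ : Fintype H' := Fintype.ofFinite H'
  let e : H ≃ H' :=
    { toFun := fun x => ⟨g * x * g⁻¹, (h1 _).1 x.2⟩
      invFun := fun x => ⟨g⁻¹ * x * g, (h1 _).2 (by
        have : g * (g⁻¹ * (x : Y) * g) * g⁻¹ = x := by group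
        rw [this]
        exact x.2)⟩
      left_inv := fun x => Subtype.ext (by simp; group)
      right_inv := fun x => Subtype.ext (by simp; group) }
  rw [av_apply, av_apply, map_smul, map_sum, Nat.card_congr e]
  congr 1
  refine Fintype.sum_equiv e _ _ fun x => ?_
  change ρ g (ρ x v) = ρ (g * x * g⁻¹) (ρ g v)
  rw [← Module.End.mul_apply, ← Module.End.mul_apply, ← map_mul, ← map_mul, inv_mul_cancel_right]

/-- `av H = av K ∘ av N` when every element of `H` is a product -/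
theorem av_mul {ρ : Representation ℂ Y V} {H K N : Subgroup Y} (hK : K ≤ H) (hN : N ≤ H)
    (hprod : ∀ h ∈ H, ∃ k ∈ K, ∃ n ∈ N, h = k * n) (v : V) : av ρ H v = av ρ K (av ρ N v) := by
  classical
  let _ : Fintype H := Fintype.ofFinite H
  -- `w := av N v`; `av H v = av H w`, and `av K w` is fixed by ... 
  have h1 : av ρ H v = av ρ H (av ρ N v) := by
    let _ : Fintype N := Fintype.ofFinite N
    rw [av_apply ρ N, map_smul, map_sum, Finset.sum_congr rfl fun x _ => av_rho ρ (hN x.2) v, Finset.sum_const,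
      Finset.card_univ, ← Nat.card_eq_fintype_card, ← Nat.cast_smul_eq_nsmul ℂ, smul_smul, inv_mul_cancel₀ (card_ne N),
      one_smul]
  rw [h1]
  -- average of `ρ h w` over `h = k n` depends only on `k`
  let w := av ρ N v
  have hw : w ∈ fx ρ N := av_mem ρ N v
  let _ : Fintype K := Fintype.ofFinite K
  change av ρ H w = av ρ K w
  have h2 : av ρ K (av ρ H w) = av ρ H w := av_of_mem (fx_mono hK (av_mem ρ H w))
  have h3 : av ρ H w = (Nat.card H : ℂ)⁻¹ • ∑ h : H, ρ h w := av_apply ρ H w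
  rw [← h2, h3, map_smul, map_sum]
  have h4 : ∀ h : H, av ρ K (ρ h w) = av ρ K w := by
    intro h
    obtain ⟨k, hk, n, hn, hkn⟩ := hprod h h.2
    rw [hkn, map_mul, Module.End.mul_apply, hw n hn, av_rho ρ hk]
  rw [Finset.sum_congr rfl fun h _ => h4 h, Finset.sum_const, Finset.card_univ, ← Nat.card_eq_fintype_card,
    ← Nat.cast_smul_eq_nsmul ℂ, smul_smul, inv_mul_cancel₀ (card_ne H), one_smul]

/-- **truncation** -/
theorem trunc [FiniteDimensional ℂ V] (ρ : Representation ℂ Y V) (H : Subgroup Y) {t : Y}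
    (hn : ∀ u, u ∈ H ↔ t * u * t⁻¹ ∈ H) (hC : ∀ u ∈ H, t * u = u * t → u = 1) :
    ρ.character t = LinearMap.trace ℂ V (ρ t * av ρ H) := by
  classical
  let _ : Fintype H := Fintype.ofFinite H
  have hinj : Function.Injective (fun u : H => (⟨t⁻¹ * (u : Y)⁻¹ * t * u,
      H.mul_mem ((hn _).2 (by
        have : t * (t⁻¹ * (u : Y)⁻¹ * t) * t⁻¹ = (u : Y)⁻¹ := by group
        rw [this]; exact H.inv_mem u.2)) u.2⟩ : H)) := by
    intro u w huw
    have h1 : t⁻¹ * (u : Y)⁻¹ * t * u = t⁻¹ * (w : Y)⁻¹ * t * w := congrArg Subtype.val huw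
    have h2 : (w : Y) * (u : Y)⁻¹ ∈ H := H.mul_mem w.2 (H.inv_mem u.2)
    have h3 : t * ((w : Y) * (u : Y)⁻¹) = ((w : Y) * (u : Y)⁻¹) * t := by
      have h4 : (u : Y)⁻¹ * t * u = (w : Y)⁻¹ * t * w := by
        have := congrArg (fun z => t * z) h1
        simpa [mul_assoc] using this
      calc t * ((w : Y) * (u : Y)⁻¹) = w * ((w : Y)⁻¹ * t * w) * (u : Y)⁻¹ := by group
        _ = w * ((u : Y)⁻¹ * t * u) * (u : Y)⁻¹ := by rw [h4]
        _ = ((w : Y) * (u : Y)⁻¹) * t := by group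
    exact (Subtype.ext (mul_inv_eq_one.1 (hC _ h2 h3))).symm
  have hbij : Function.Bijective _ := Finite.injective_iff_bijective.1 hinj
  rw [av_eq, mul_smul_comm, map_smul, Finset.mul_sum, map_sum, smul_eq_mul]
  have h1 : ∑ u : H, LinearMap.trace ℂ V (ρ t * ρ u) = (Nat.card H : ℂ) * ρ.character t := by
    rw [← hbij.sum_comp (fun u : H => LinearMap.trace ℂ V (ρ t * ρ u)),
      Finset.sum_congr rfl (g := fun _ => ρ.character t), Finset.sum_const, Finset.card_univ, Nat.card_eq_fintype_card,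
      nsmul_eq_mul]
    intro u _
    rw [← map_mul]
    have : t * (t⁻¹ * (u : Y)⁻¹ * t * u) = (u : Y)⁻¹ * t * ((u : Y)⁻¹)⁻¹ := by group
    change ρ.character (t * (t⁻¹ * (u : Y)⁻¹ * t * u)) = _
    rw [this, Representation.char_conj]
  rw [h1, ← mul_assoc, inv_mul_cancel₀ (card_ne H), one_mul]

end proj

end Cfsg.Agent.H985.VZ
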