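import Cfsg.Agent.H985.VZ.Defs
import Cfsg.Agent.H53.HC.Rgd

/-!
# S4842: linear characters of `B` and minimal representatives (helper985)

* `prT`, `lamB l` : the projection `B → T` and the inflation of `l : T →* ℂˣ` to `B`;
* `Vl_eq` : `Vl ρ l = eig ρ B (lamB l)`;
* `exists_left_rep` : `x = a g b`, `a ∈ P_J`, `b ∈ B`, `g` over `w` with `w⁻¹ J > 0`;
* `gen_VJ` : `V^{V_J}` is spanned by `P_J V^U`;
* `el_n` : `p_{λ''} n_i p_{λ'} u = p_{λ''} n_i u` for `u` fixed by `X_i`, `λ'' = s_i λ'`.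
-/

set_option autoImplicit false
set_option linter.unusedSectionVars false

open Cfsg

namespace Cfsg.Agent.H985.VZ

open CoxeterSystem Cfsg.Agent.ChevalleyStructure.CoxeterGeom Cfsg.Agent.Tits.Roots Cfsg.Agent.Tits.Core
  Cfsg.Agent.Tits.Exchange Cfsg.Agent.Nodes.Reps Cfsg.Agent.Nodes.BNOf Cfsg.Agent.Nodes.StabComb
  Cfsg.Agent.Nodes.Bruhat Cfsg.Agent.Nodes.OppDec Cfsg.Agent.Nodes.LeviDec Module

universe u v

variable {I W : Type*} {Y : Type u} [Fintype I] [DecidableEq I] [Group W] [Group Y] {M : CoxeterMatrix I}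
  {cs : CoxeterSystem M W} {A : I → I → ℤ} {h : IsCartan M A} {p : ℕ} {T : Subgroup Y} {n : I → Y}
  {X : (I → ℤ) → Subgroup Y}

/-! ### twisted characters -/

section mv

variable {hN : NSys M T n}

/-- one representative is enough -/
theorem mv_of_rp {w : W} {g : Y} (hg : Rp cs hN w g) {l l' : T →* ℂˣ}
    (h1 : ∀ s t : T, (s : Y) = g * t * g⁻¹ → l' s = l t) : Mv cs hN w l l' := by
  intro k hk s t e
  have h2 : g⁻¹ * k ∈ T := hg.unique hk
  have h3 : (s : Y) = g * ((⟨g⁻¹ * k, h2⟩ * t * ⟨g⁻¹ * k, h2⟩⁻¹ : T) : Y) * g⁻¹ := by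
    rw [e]
    change _ = g * (g⁻¹ * k * t * (g⁻¹ * k)⁻¹) * g⁻¹
    group
  rw [h1 s _ h3, map_mul, map_mul, map_inv, mul_comm, ← mul_assoc, inv_mul_cancel, one_mul]

theorem mv_one (l : T →* ℂˣ) : Mv cs hN 1 l l := by
  refine mv_of_rp (g := 1) rp_one fun s t e => ?_
  rw [one_mul, inv_one, mul_one] at e
  rw [Subtype.ext e]

theorem Mv.mul {v w : W} {l l' l'' : T →* ℂˣ} (hw : Mv cs hN w l l') (hv : Mv cs hN v l' l'') :
    Mv cs hN (v * w) l l'' := by
  obtain ⟨g, hg⟩ := exists_rp cs hN v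
  obtain ⟨k, hk⟩ := exists_rp cs hN w
  refine mv_of_rp (hg.mul hk) fun s t e => ?_
  have h1 : k * t * k⁻¹ ∈ T := (Subgroup.mem_normalizer_iff.1 hk.mem_normalizer _).1 t.2
  rw [hv g hg s ⟨_, h1⟩ (by rw [e]; group), hw k hk ⟨_, h1⟩ t rfl]

theorem Mv.inv {w : W} {l l' : T →* ℂˣ} (hw : Mv cs hN w l l') : Mv cs hN w⁻¹ l' l := by
  obtain ⟨g, hg⟩ := exists_rp cs hN w
  refine mv_of_rp hg.inv fun s t e => (hw g hg t s ?_).symm
  rw [e]
  group

theorem Mv.unique {w : W} {l l' l'' : T →* ℂˣ} (h1 : Mv cs hN w l l') (h2 : Mv cs hN w l l'') : l' = l'' := by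
  obtain ⟨g, hg⟩ := exists_rp cs hN w
  ext s
  have h3 : g⁻¹ * s * g ∈ T := by
    have := (Subgroup.mem_normalizer_iff.1 hg.inv.mem_normalizer (s : Y)).1 s.2
    rwa [inv_inv] at this
  rw [h1 g hg s ⟨_, h3⟩ (by group), h2 g hg s ⟨_, h3⟩ (by group)]

theorem Mv.unique' {w : W} {l l' l'' : T →* ℂˣ} (h1 : Mv cs hN w l' l) (h2 : Mv cs hN w l'' l) : l' = l'' :=
  h1.inv.unique h2.inv

/-- the twisted character exists -/
theorem exists_mv_to (w : W) (l : T →* ℂˣ) : ∃ l', Mv cs hN w l l' := by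
  obtain ⟨g, hg⟩ := exists_rp cs hN w
  have h3 : ∀ s : T, g⁻¹ * s * g ∈ T := by
    intro s
    have := (Subgroup.mem_normalizer_iff.1 hg.inv.mem_normalizer (s : Y)).1 s.2
    rwa [inv_inv] at this
  refine ⟨l.comp ⟨⟨fun s => ⟨_, h3 s⟩, Subtype.ext (by simp)⟩, fun s t => Subtype.ext ?_⟩, mv_of_rp hg fun s t e => ?_⟩
  · change g⁻¹ * ((s : Y) * t) * g = g⁻¹ * s * g * (g⁻¹ * t * g)
    group
  · change l ⟨g⁻¹ * s * g, h3 s⟩ = l t
    congr 1
    apply Subtype.ext
    change g⁻¹ * s * g = t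
    rw [e]
    group

theorem exists_mv_from (w : W) (l' : T →* ℂˣ) : ∃ l, Mv cs hN w l l' := by
  obtain ⟨l, hl⟩ := exists_mv_to (cs := cs) (hN := hN) w⁻¹ l'
  have := hl.inv
  rw [inv_inv] at this
  exact ⟨l, this⟩

end mv

/-! ### the inflation -/

variable (R : RGD cs h p T n X) [Finite W]

include R

theorem tu_unique {t t' u u' : Y} (ht : t ∈ T) (ht' : t' ∈ T) (hu : u ∈ RGD.Sup X (RGD.Pos cs h))
    (hu' : u' ∈ RGD.Sup X (RGD.Pos cs h)) (e : t * u = t' * u') : t = t' := by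
  have h1 : t'⁻¹ * t = u' * u⁻¹ := by
    have : t'⁻¹ * t = t'⁻¹ * (t * u) * u⁻¹ := by group
    rw [this, e]
    group
  have h2 : t'⁻¹ * t ∈ RGD.Sup X (RGD.Pos cs h) ⊓ T :=
    ⟨by rw [h1]; exact Subgroup.mul_mem _ hu' (Subgroup.inv_mem _ hu), T.mul_mem (T.inv_mem ht') ht⟩
  rw [U_inf_T R, Subgroup.mem_bot] at h2
  exact (inv_mul_eq_one.1 h2).symm

/-- the projection `B → T` -/
noncomputable def prT : RGD.B cs h T X →* T where
  toFun b := ⟨(R.mem_B.1 b.2).choose, (R.mem_B.1 b.2).choose_spec.1⟩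
  map_one' := by
    apply Subtype.ext
    obtain ⟨ht, u, hu, e⟩ := (R.mem_B.1 (1 : RGD.B cs h T X).2).choose_spec
    exact tu_unique R ht (one_mem T) hu (one_mem _) (by rw [← e, mul_one]; rfl)
  map_mul' a b := by
    apply Subtype.ext
    obtain ⟨ht, u, hu, e⟩ := (R.mem_B.1 (a * b).2).choose_spec
    obtain ⟨ht1, u1, hu1, e1⟩ := (R.mem_B.1 a.2).choose_spec
    obtain ⟨ht2, u2, hu2, e2⟩ := (R.mem_B.1 b.2).choose_spec
    change (R.mem_B.1 (a * b).2).choose = (R.mem_B.1 a.2).choose * (R.mem_B.1 b.2).choose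
    set t2 := (R.mem_B.1 b.2).choose
    have h3 : t2⁻¹ * u1 * t2 ∈ RGD.Sup X (RGD.Pos cs h) := by
      have := (Subgroup.mem_normalizer_iff.1 (R.T_le_normalizer_U (inv_mem ht2)) u1).1 hu1
      rwa [inv_inv] at this
    refine tu_unique R ht (mul_mem ht1 ht2) hu (mul_mem h3 hu2) ?_
    rw [← e]
    exact (congrArg₂ (· * ·) e1 e2).trans (by group)

theorem prT_eq {t u : Y} (ht : t ∈ T) (hu : u ∈ RGD.Sup X (RGD.Pos cs h)) (hb : t * u ∈ RGD.B cs h T X) :
    prT R ⟨t * u, hb⟩ = ⟨t, ht⟩ := by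
  apply Subtype.ext
  obtain ⟨ht1, u1, hu1, e1⟩ := (R.mem_B.1 hb).choose_spec
  exact (tu_unique R ht ht1 hu hu1 e1).symm

/-- the inflation of `l` -/
noncomputable def lamB (l : T →* ℂˣ) : RGD.B cs h T X →* ℂˣ := l.comp (prT R)

theorem lamB_T (l : T →* ℂˣ) {t : Y} (ht : t ∈ T) (hb : t ∈ RGD.B cs h T X) : lamB R l ⟨t, hb⟩ = l ⟨t, ht⟩ := by
  have h1 : (⟨t, hb⟩ : RGD.B cs h T X) = ⟨t * 1, by rwa [mul_one]⟩ := Subtype.ext (mul_one t).symm
  unfold lamB
  rw [MonoidHom.comp_apply, h1, prT_eq R ht (one_mem _)]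

theorem lamB_U (l : T →* ℂˣ) {u : Y} (hu : u ∈ RGD.Sup X (RGD.Pos cs h)) (hb : u ∈ RGD.B cs h T X) :
    lamB R l ⟨u, hb⟩ = 1 := by
  have h1 : (⟨u, hb⟩ : RGD.B cs h T X) = ⟨1 * u, by rwa [one_mul]⟩ := Subtype.ext (one_mul u).symm
  unfold lamB
  rw [MonoidHom.comp_apply, h1, prT_eq R (one_mem T) hu]
  exact map_one l

theorem lamB_mul (l : T →* ℂˣ) {t u : Y} (ht : t ∈ T) (hu : u ∈ RGD.Sup X (RGD.Pos cs h))
    (hb : t * u ∈ RGD.B cs h T X) : lamB R l ⟨t * u, hb⟩ = l ⟨t, ht⟩ := by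
  unfold lamB
  rw [MonoidHom.comp_apply, prT_eq R ht hu]

section rep

variable {V : Type v} [AddCommGroup V] [Module ℂ V] {ρ : Representation ℂ Y V}

theorem Vl_eq (l : T →* ℂˣ) : Vl cs h T X ρ l = eig ρ (RGD.B cs h T X) (lamB R l) := by
  ext v
  constructor
  · rintro ⟨h1, h2⟩ ⟨b, hb⟩
    obtain ⟨t, ht, u, hu, rfl⟩ := R.mem_B.1 hb
    rw [lamB_mul R l ht hu, map_mul, Module.End.mul_apply, h1 u hu]
    exact h2 ⟨t, ht⟩
  · intro h1
    refine ⟨fun u hu => ?_, fun t => ?_⟩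
    · have := h1 ⟨u, RGD.U_le_B hu⟩
      rwa [lamB_U R l hu, Units.val_one, one_smul] at this
    · have := h1 ⟨t, RGD.T_le_B t.2⟩
      rwa [lamB_T R l t.2] at this

end rep

/-! ### representatives -/

/-- every element is `a g b`, `a ∈ P_J`, `b ∈ B`, `g` over `w` with `w⁻¹ J > 0` -/
theorem exists_left_rep (hG : GG cs h T X = ⊤) (J : Set I) (x : Y) :
    ∃ a ∈ PJ cs h T X J, ∃ b ∈ RGD.B cs h T X, ∃ w g, Rp cs R.nsys w g ∧ x = a * g * b ∧
      ∀ i ∈ J, 0 ≤ rep cs h w⁻¹ (sr i) := by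
  classical
  have hex : ∃ m : ℕ, ∃ w, cs.length w = m ∧ ∃ a ∈ PJ cs h T X J, ∃ b ∈ RGD.B cs h T X, ∃ g,
      Rp cs R.nsys w g ∧ x = a * g * b := by
    obtain ⟨w, b₁, hb₁, k, hk, b₂, hb₂, e⟩ := (mem_GG R).1 (show x ∈ GG cs h T X by rw [hG]; exact Subgroup.mem_top x)
    exact ⟨_, w, rfl, b₁, B_le_PJ hb₁, b₂, hb₂, k, hk, e⟩
  obtain ⟨w, hw, a, ha, b, hb, g, hg, e⟩ := Nat.find_spec hex
  have hmin := fun m hm => Nat.find_min hex (m := m) hm
  refine ⟨a, ha, b, hb, w, g, hg, e, fun i hi => ?_⟩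
  refine nonneg_of_lt cs h w⁻¹ i ?_
  rw [cs.length_inv, ← cs.length_inv (w⁻¹ * cs.simple i), mul_inv_rev, inv_inv, cs.inv_simple]
  have h1 : cs.length w ≤ cs.length (cs.simple i * w) := by
    rw [hw]
    by_contra hcon
    exact hmin _ (not_le.1 hcon) ⟨cs.simple i * w, rfl, a * (n i)⁻¹,
      mul_mem ha (inv_mem (LJ_le_PJ (n_mem_LJ R hi))), b, hb, n i * g, (rp_simple cs R.nsys i).mul hg, by rw [e]; group⟩
  have h2 := cs.length_simple_mul w i
  omega

section rep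

variable [Finite Y] {V : Type v} [AddCommGroup V] [Module ℂ V] {ρ : Representation ℂ Y V}

/-- the elements of `P_J` preserve `V^{V_J}` -/
theorem rho_fx_VJ {J : Set I} {g : Y} (hg : g ∈ PJ cs h T X J) {v : V} (hv : v ∈ fx ρ (VJ cs h X J)) :
    ρ g v ∈ fx ρ (VJ cs h X J) := by
  intro u hu
  have h1 : g⁻¹ * u * g ∈ VJ cs h X J := by
    have := (Subgroup.mem_normalizer_iff.1 (PJ_le_normalizer_VJ R J (inv_mem hg)) u).1 hu
    rwa [inv_inv] at this
  rw [← Module.End.mul_apply, ← map_mul, show u * g = g * (g⁻¹ * u * g) by group, map_mul, Module.End.mul_apply,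
    hv _ h1]

theorem rho_av_VJ {J : Set I} {g : Y} (hg : g ∈ PJ cs h T X J) (v : V) :
    ρ g (av ρ (VJ cs h X J) v) = av ρ (VJ cs h X J) (ρ g v) :=
  rho_av_conj ρ (fun x => Subgroup.mem_normalizer_iff.1 (PJ_le_normalizer_VJ R J hg) x) v

theorem rho_VU {b : Y} (hb : b ∈ RGD.B cs h T X) {v : V} (hv : v ∈ VU cs h X ρ) : ρ b v ∈ VU cs h X ρ := by
  intro u hu
  have h1 : b⁻¹ * u * b ∈ RGD.Sup X (RGD.Pos cs h) := by
    have := (Subgroup.mem_normalizer_iff.1 (R.B_le_normalizer_U (inv_mem hb)) u).1 hu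
    rwa [inv_inv] at this
  rw [← Module.End.mul_apply, ← map_mul, show u * b = b * (b⁻¹ * u * b) by group, map_mul, Module.End.mul_apply,
    hv _ h1]

omit R [Finite W] in
/-- `ρ g v` is fixed by `X z` if `v` is fixed by `U` and `w⁻¹ z > 0` -/
theorem rho_fx_X (R : RGD cs h p T n X) {w : W} {g : Y} (hg : Rp cs R.nsys w g) {z : I → ℤ} (hz : IsRoot cs h z)
    (h0 : 0 ≤ rep cs h w⁻¹ z) {v : V} (hv : v ∈ VU cs h X ρ) : ρ g v ∈ fx ρ (X z) := by
  intro u hu
  have h1 : g⁻¹ * u * g ∈ RGD.Sup X (RGD.Pos cs h) :=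
    RGD.le_Sup (S := RGD.Pos cs h) ⟨hz.act _, h0⟩ (R.conj_mem' hg hz hu)
  rw [← Module.End.mul_apply, ← map_mul, show u * g = g * (g⁻¹ * u * g) by group, map_mul, Module.End.mul_apply,
    hv _ h1]

omit R [Finite W] in
theorem fx_Sup {S : Set (I → ℤ)} {v : V} (hv : ∀ z ∈ S, v ∈ fx ρ (X z)) : v ∈ fx ρ (RGD.Sup X S) := by
  have key : RGD.Sup X S ≤ { carrier := {x | ρ x v = v}
                             one_mem' := by simp
                             mul_mem' := fun {a b} ha hb => by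
                              change ρ (a * b) v = v
                              rw [map_mul, Module.End.mul_apply, show ρ b v = v from hb, show ρ a v = v from ha]
                             inv_mem' := fun {a} ha => by
                              change ρ a⁻¹ v = v
                              have h3 : ρ a v = v := ha
                              conv_lhs => rw [← h3]
                              rw [← Module.End.mul_apply, ← map_mul, inv_mul_cancel, map_one,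
                                Module.End.one_apply] } :=
    RGD.Sup_le fun z hz u hu => hv z hz u hu
  exact fun x hx => key hx

/-- for `w⁻¹ J > 0` and `v ∈ V^U` the vector `av_{V_J} (g v)` is fixed by `U` -/
theorem av_rho_mem {J : Set I} {w : W} {g : Y} (hg : Rp cs R.nsys w g) (hw : ∀ i ∈ J, 0 ≤ rep cs h w⁻¹ (sr i)) {v : V}
    (hv : v ∈ VU cs h X ρ) : av ρ (VJ cs h X J) (ρ g v) ∈ VU cs h X ρ := by
  have h1 : ρ g v ∈ fx ρ (UJ cs h X J) := fx_Sup fun z hz => rho_fx_X R hg hz.1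
    (Cfsg.Agent.H53.HC.rep_nonneg_of_supp hw hz.2.1 hz.2.2) hv
  intro x hx
  obtain ⟨u, hu, y, hy, rfl⟩ := (mem_U_iff R).1 hx
  have hu' : u ∈ PJ cs h T X J := LJ_le_PJ (BJ_le_LJ (UJ_le_BJ hu))
  rw [map_mul, Module.End.mul_apply, rho_av ρ hy, rho_av_VJ R hu', h1 u hu]

/-- **`V^{V_J}` is spanned by `P_J V^U`** -/
theorem gen_VJ (hG : GG cs h T X = ⊤) (hρ : ρ.IsIrreducible) (h0 : VU cs h X ρ ≠ ⊥) (J : Set I) {S : Submodule ℂ V}
    (hS : ∀ g ∈ PJ cs h T X J, ∀ v ∈ VU cs h X ρ, ρ g v ∈ S) : fx ρ (VJ cs h X J) ≤ S := by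
  -- the span of `Y V^U` is everything
  let Z : Subrepresentation ρ :=
    { toSubmodule := Submodule.span ℂ {x | ∃ g : Y, ∃ v ∈ VU cs h X ρ, x = ρ g v}
      apply_mem_toSubmodule := fun g v hv => by
        refine Submodule.span_induction (p := fun v _ => ρ g v ∈ Submodule.span ℂ {x | ∃ g : Y, ∃ v ∈ VU cs h X ρ, x = ρ g v})
          ?_ ?_ ?_ ?_ hv
        · rintro _ ⟨k, v, hv, rfl⟩
          refine Submodule.subset_span ⟨g * k, v, hv, ?_⟩
          rw [map_mul, Module.End.mul_apply]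
        · rw [map_zero]
          exact Submodule.zero_mem _
        · intro x y _ _ hx hy
          rw [map_add]
          exact Submodule.add_mem _ hx hy
        · intro a x _ hx
          rw [map_smul]
          exact Submodule.smul_mem _ _ hx }
  have hZ : Z.toSubmodule = ⊤ := by
    rcases hρ.2 Z with h1 | h1
    · exfalso
      apply h0
      rw [eq_bot_iff]
      intro v hv
      have h2 : v ∈ Z.toSubmodule := Submodule.subset_span ⟨1, v, hv, by rw [map_one, Module.End.one_apply]⟩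
      rw [h1] at h2
      exact h2
    · rw [h1]
      rfl
  intro v hv
  rw [← av_of_mem hv]
  have h1 : v ∈ Z.toSubmodule := by rw [hZ]; exact Submodule.mem_top
  refine Submodule.span_induction (p := fun v _ => av ρ (VJ cs h X J) v ∈ S) ?_ ?_ ?_ ?_ h1
  · rintro _ ⟨k, v, hv, rfl⟩
    obtain ⟨a, ha, b, hb, w, g, hg, rfl, hw⟩ := exists_left_rep R hG J k
    rw [map_mul, map_mul, Module.End.mul_apply, Module.End.mul_apply, ← rho_av_VJ R ha]
    exact hS a ha _ (av_rho_mem R hg hw (rho_VU R hb hv))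
  · rw [map_zero]
    exact Submodule.zero_mem _
  · intro x y _ _ hx hy
    rw [map_add]
    exact Submodule.add_mem _ hx hy
  · intro a x _ hx
    rw [map_smul]
    exact Submodule.smul_mem _ _ hx

end rep

/-- conjugation by a representative -/
theorem lamB_conj {w : W} {g : Y} (hg : Rp cs R.nsys w g) {l l' : T →* ℂˣ} (hm : Mv cs R.nsys w l l')
    {b c : RGD.B cs h T X} (e : (c : Y) = g * b * g⁻¹) : lamB R l' c = lamB R l b := by
  obtain ⟨b, hb⟩ := b
  obtain ⟨c, hc⟩ := c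
  obtain ⟨t, ht, u, hu, rfl⟩ := R.mem_B.1 hb
  change c = g * (t * u) * g⁻¹ at e
  have h1 : g * t * g⁻¹ ∈ T := (Subgroup.mem_normalizer_iff.1 hg.mem_normalizer t).1 ht
  have h2 : g * u * g⁻¹ ∈ RGD.B cs h T X := by
    have h3 : g * u * g⁻¹ = (g * t * g⁻¹)⁻¹ * c := by rw [e]; group
    rw [h3]
    exact mul_mem (inv_mem (RGD.T_le_B h1)) hc
  have h3 : g * u * g⁻¹ ∈ RGD.Sup X (RGD.Pos cs h) := by
    obtain ⟨k, hk⟩ := (R.isPGroup_Upos) ⟨u, hu⟩
    refine R.mem_U_of_mem_B h2 (k := k) ?_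
    have h4 : u ^ p ^ k = 1 := congrArg Subtype.val hk
    rw [conj_pow, h4, mul_one, mul_inv_cancel]
  have h4 : (⟨c, hc⟩ : RGD.B cs h T X) = ⟨(g * t * g⁻¹) * (g * u * g⁻¹), mul_mem (RGD.T_le_B h1) h2⟩ :=
    Subtype.ext (e.trans (by group))
  rw [h4, lamB_mul R l' h1 h3, lamB_mul R l ht hu]
  exact hm g hg ⟨_, h1⟩ ⟨t, ht⟩ rfl

section rep

variable [Finite Y] {V : Type v} [AddCommGroup V] [Module ℂ V] {ρ : Representation ℂ Y V}

/-- the step -/
theorem el_n {i : I} {l l' : T →* ℂˣ} (hm : Mv cs R.nsys (cs.simple i) l l') {v : V} (hv : v ∈ fx ρ (X (sr i))) :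
    el ρ (RGD.B cs h T X) (lamB R l') (ρ (n i) (el ρ (RGD.B cs h T X) (lamB R l) v)) =
      el ρ (RGD.B cs h T X) (lamB R l') (ρ (n i) v) := by
  classical
  let _ : Fintype (RGD.B cs h T X) := Fintype.ofFinite _
  rw [el_apply ρ _ (lamB R l) v, map_smul, map_smul, map_sum, map_sum]
  have key : ∀ b : RGD.B cs h T X, el ρ _ (lamB R l') (ρ (n i) (((lamB R l b)⁻¹ : ℂˣ).val • ρ b v)) =
      el ρ _ (lamB R l') (ρ (n i) v) := by
    intro b
    obtain ⟨y, hy, x, hx1, t, ht, e⟩ := R.mem_B' i b.2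
    have e1 : (b : Y) = (y * t) * (t⁻¹ * x * t) := by rw [e]; group
    have hx2 : t⁻¹ * x * t ∈ X (sr i) := by
      have h1 := R.tor (sr i) (isRoot_sr cs h i) t⁻¹ (inv_mem ht)
      have h2 := (conj_mem_cj (g := t⁻¹)).2 hx1
      rwa [h1, inv_inv] at h2
    have hxU : t⁻¹ * x * t ∈ RGD.Sup X (RGD.Pos cs h) := by
      have h1 : sr i ∈ RGD.Pos cs h := ⟨isRoot_sr cs h i, sr_nonneg i⟩
      exact RGD.le_Sup h1 hx2
    have hxB : t⁻¹ * x * t ∈ RGD.B cs h T X := RGD.U_le_B hxU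
    have hle : RGD.Sup X (RGD.PosNe cs h i) ≤ RGD.B cs h T X :=
      le_trans (RGD.Sup_mono (fun z hz => (⟨hz.1, hz.2.1⟩ : z ∈ RGD.Pos cs h))) RGD.U_le_B
    have hyB : y ∈ RGD.B cs h T X := hle hy
    have hc : y * t ∈ RGD.B cs h T X := mul_mem hyB (RGD.T_le_B ht)
    have hn1 : n i * y * (n i)⁻¹ ∈ RGD.Sup X (RGD.PosNe cs h i) := by
      rw [← R.cj_n_V i]
      exact conj_mem_cj.2 hy
    have hn2 : n i * t * (n i)⁻¹ ∈ T := (Subgroup.mem_normalizer_iff.1 (R.nsys.norm i) t).1 ht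
    have hcB : n i * (y * t) * (n i)⁻¹ ∈ RGD.B cs h T X := by
      have h3 : n i * (y * t) * (n i)⁻¹ = (n i * y * (n i)⁻¹) * (n i * t * (n i)⁻¹) := by group
      rw [h3]
      exact mul_mem (hle hn1) (RGD.T_le_B hn2)
    have e2 : lamB R l b = lamB R l ⟨y * t, hc⟩ := by
      have h3 : b = ⟨y * t, hc⟩ * ⟨t⁻¹ * x * t, hxB⟩ := Subtype.ext e1
      rw [h3, map_mul, lamB_U R l hxU, mul_one]
    have e3 : ρ (n i) (ρ b v) = ρ (n i * (y * t) * (n i)⁻¹) (ρ (n i) v) := by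
      rw [e1, map_mul, Module.End.mul_apply, hv _ hx2, ← Module.End.mul_apply, ← map_mul, ← Module.End.mul_apply,
        ← map_mul]
      congr 2
      group
    have e4 : lamB R l' ⟨n i * (y * t) * (n i)⁻¹, hcB⟩ = lamB R l ⟨y * t, hc⟩ :=
      lamB_conj R (rp_simple cs R.nsys i) hm rfl
    rw [map_smul, map_smul, e3]
    have e5 := el_rho ρ (RGD.B cs h T X) (lamB R l') ⟨_, hcB⟩ (ρ (n i) v)
    change el ρ _ (lamB R l') (ρ (n i * (y * t) * (n i)⁻¹) (ρ (n i) v)) = _ at e5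
    rw [e5, e4, e2, smul_smul, Units.inv_mul, one_smul]
  rw [Finset.sum_congr rfl fun b _ => key b, Finset.sum_const, Finset.card_univ, ← Nat.card_eq_fintype_card,
    ← Nat.cast_smul_eq_nsmul ℂ, smul_smul, inv_mul_cancel₀ (card_ne _), one_smul]

/-- `p_{l'} g v = 0` for `v ∈ V_l` unless `l' = w l` -/
theorem el_rho_eq_zero {w : W} {g : Y} (hg : Rp cs R.nsys w g) {l l' : T →* ℂˣ} (hm : ¬ Mv cs R.nsys w l l') {v : V}
    (hv : v ∈ Vl cs h T X ρ l) : el ρ (RGD.B cs h T X) (lamB R l') (ρ g v) = 0 := by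
  by_contra hne
  apply hm
  refine mv_of_rp hg fun s t e => ?_
  have h1 : ρ s (ρ g v) = (l t : ℂ) • ρ g v := by
    rw [e, ← Module.End.mul_apply, ← map_mul, show g * t * g⁻¹ * g = g * t by group, map_mul, Module.End.mul_apply,
      hv.2 t, map_smul]
  have h2 := el_rho ρ (RGD.B cs h T X) (lamB R l') ⟨s, RGD.T_le_B s.2⟩ (ρ g v)
  rw [lamB_T R l' s.2] at h2
  change el ρ _ _ (ρ (s : Y) (ρ g v)) = _ at h2
  rw [h1, map_smul] at h2
  have h3 : ((l t : ℂ) - (l' s : ℂ)) • el ρ (RGD.B cs h T X) (lamB R l') (ρ g v) = 0 := by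
    rw [sub_smul, h2, sub_self]
  rcases smul_eq_zero.1 h3 with h4 | h4
  · exact (Units.ext (sub_eq_zero.1 h4)).symm
  · exact absurd h4 hne

/-- **the `T`-characters of `V^U` are conjugate** -/
theorem exists_mv (hG : GG cs h T X = ⊤) (hρ : ρ.IsIrreducible) {l l' : T →* ℂˣ}
    (hl : Vl cs h T X ρ l ≠ ⊥) (hl' : Vl cs h T X ρ l' ≠ ⊥) : ∃ w, Mv cs R.nsys w l l' := by
  by_contra hcon
  push Not at hcon
  let Z : Subrepresentation ρ :=
    { toSubmodule := Submodule.span ℂ {x | ∃ g : Y, ∃ v ∈ Vl cs h T X ρ l, x = ρ g v}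
      apply_mem_toSubmodule := fun g v hv => by
        refine Submodule.span_induction
          (p := fun v _ => ρ g v ∈ Submodule.span ℂ {x | ∃ g : Y, ∃ v ∈ Vl cs h T X ρ l, x = ρ g v}) ?_ ?_ ?_ ?_ hv
        · rintro _ ⟨k, v, hv, rfl⟩
          refine Submodule.subset_span ⟨g * k, v, hv, ?_⟩
          rw [map_mul, Module.End.mul_apply]
        · rw [map_zero]
          exact Submodule.zero_mem _
        · intro x y _ _ hx hy
          rw [map_add]
          exact Submodule.add_mem _ hx hy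
        · intro a x _ hx
          rw [map_smul]
          exact Submodule.smul_mem _ _ hx }
  have hZ : Z.toSubmodule = ⊤ := by
    rcases hρ.2 Z with h1 | h1
    · exfalso
      apply hl
      rw [eq_bot_iff]
      intro v hv
      have h2 : v ∈ Z.toSubmodule := Submodule.subset_span ⟨1, v, hv, by rw [map_one, Module.End.one_apply]⟩
      rw [h1] at h2
      exact h2
    · rw [h1]
      rfl
  apply hl'
  rw [eq_bot_iff]
  intro v hv
  rw [Vl_eq R] at hv
  rw [Submodule.mem_bot, ← el_of_mem hv]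
  have h1 : v ∈ Z.toSubmodule := by rw [hZ]; exact Submodule.mem_top
  refine Submodule.span_induction (p := fun v _ => el ρ (RGD.B cs h T X) (lamB R l') v = 0) ?_ ?_ ?_ ?_ h1
  · rintro _ ⟨k, v, hv, rfl⟩
    obtain ⟨w, b₁, hb₁, g, hg, b₂, hb₂, rfl⟩ := (mem_GG R).1 (show k ∈ GG cs h T X by rw [hG]; exact Subgroup.mem_top k)
    have hv' := hv
    rw [Vl_eq R] at hv'
    have h3 := hv' ⟨b₂, hb₂⟩
    change ρ b₂ v = _ at h3
    rw [map_mul, map_mul, Module.End.mul_apply, Module.End.mul_apply, h3, map_smul, map_smul]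
    have h2 := el_rho ρ (RGD.B cs h T X) (lamB R l') ⟨b₁, hb₁⟩ (ρ g v)
    change el ρ _ _ (ρ b₁ (ρ g v)) = _ at h2
    rw [map_smul, h2, el_rho_eq_zero R hg (hcon w) hv, smul_zero, smul_zero]
  · rw [map_zero]
  · intro x y _ _ hx hy
    rw [map_add, hx, hy, add_zero]
  · intro a x _ hx
    rw [map_smul, hx, smul_zero]

omit [Finite W] [Finite Y] R in
/-- a common eigenvector of an abelian group -/
theorem exists_eig [Finite Y] [FiniteDimensional ℂ V] (hT : ∀ s ∈ T, ∀ t ∈ T, s * t = t * s) {S : Submodule ℂ V} (h0 : S ≠ ⊥)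
    (hS : ∀ t ∈ T, ∀ v ∈ S, ρ t v ∈ S) : ∃ l : T →* ℂˣ, ∃ v ∈ S, v ≠ 0 ∧ v ∈ eig ρ T l := by
  classical
  let U : Subrepresentation (ρ.comp T.subtype) := ⟨S, fun g v hv => hS g g.2 v hv⟩
  have : Nontrivial U.toSubmodule := Submodule.nontrivial_iff_ne_bot.mpr h0
  obtain ⟨N, hN⟩ := Cfsg.Agent.Characters.Core.exists_irreducible_sub U.toRepresentation
  have hNn : Nontrivial N.toSubmodule := by
    by_contra hcon
    rw [not_nontrivial_iff_subsingleton] at hcon
    obtain ⟨a, b, hab⟩ := (hN.1 : Nontrivial (Subrepresentation N.toRepresentation))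
    apply hab
    apply Subrepresentation.toSubmodule_injective
    ext x
    rw [Subsingleton.elim x 0]
    exact ⟨fun _ => Submodule.zero_mem _, fun _ => Submodule.zero_mem _⟩
  -- every element acts by a scalar
  have key : ∀ t : T, ∃ c : ℂ, ∀ x : N.toSubmodule, N.toRepresentation t x = c • x := by
    intro t
    obtain ⟨c, hc⟩ := Module.End.exists_eigenvalue (N.toRepresentation t)
    let E : Subrepresentation N.toRepresentation :=
      { toSubmodule := Module.End.eigenspace (N.toRepresentation t) c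
        apply_mem_toSubmodule := fun g v hv => by
          rw [Module.End.mem_eigenspace_iff] at hv ⊢
          rw [← Module.End.mul_apply, ← map_mul, show t * g = g * t from Subtype.ext (hT t t.2 g g.2), map_mul,
            Module.End.mul_apply, hv, map_smul] }
    rcases hN.2 E with h1 | h1
    · exfalso
      exact hc (congrArg Subrepresentation.toSubmodule h1)
    · refine ⟨c, fun x => ?_⟩
      have h2 : x ∈ E.toSubmodule := by rw [h1]; exact Submodule.mem_top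
      exact Module.End.mem_eigenspace_iff.1 h2
  choose c hc using key
  obtain ⟨x, hx⟩ := exists_ne (0 : N.toSubmodule)
  have hv : ∀ t : T, ρ t (x : V) = c t • (x : V) := fun t => congrArg (fun z : N.toSubmodule => ((z : U.toSubmodule) : V)) (hc t x)
  have hx0 : ((x : U.toSubmodule) : V) ≠ 0 := fun h => hx (Subtype.ext (Subtype.ext h))
  let f : T →* ℂ :=
    { toFun := c
      map_one' := by
        have h1 := hv 1
        rw [Subgroup.coe_one, map_one, Module.End.one_apply] at h1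
        have h2 : (c 1 - 1) • ((x : U.toSubmodule) : V) = 0 := by rw [sub_smul, one_smul, ← h1, sub_self]
        rcases smul_eq_zero.1 h2 with h3 | h3
        · exact sub_eq_zero.1 h3
        · exact absurd h3 hx0
      map_mul' := fun s t => by
        have h1 := hv (s * t)
        rw [Subgroup.coe_mul, map_mul, Module.End.mul_apply, hv t, map_smul, hv s, smul_smul] at h1
        have h2 : (c (s * t) - c s * c t) • ((x : U.toSubmodule) : V) = 0 := by
          rw [sub_smul, ← h1, mul_comm, sub_self]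
        rcases smul_eq_zero.1 h2 with h3 | h3
        · exact sub_eq_zero.1 h3
        · exact absurd h3 hx0 }
  exact ⟨f.toHomUnits, x, (x : U.toSubmodule).2, hx0, fun t => hv t⟩

end rep

end Cfsg.Agent.H985.VZ
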