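import Cfsg.Agent.H985.VZ.Alpha

/-!
# S4842: groups of rank two (helper985)

* `rank_two` : `l` fixed by `W`, `V_l ≠ 0`, `t` elliptic in some `L_c` with `χ(t) ≠ 0`: `V^U = V_l` is one-dimensional and
  `χ(1) (1 + y_a) (1 + y_b) ∑_{i < m} (y_a y_b)^i = (1 + q_a) (1 + q_b) ∑_{i < m} (q_a q_b)^i`.
-/

set_option autoImplicit false
set_option linter.unusedSectionVars false

open Cfsg

namespace Cfsg.Agent.H985.VZ

open CoxeterSystem Cfsg.Agent.ChevalleyStructure.CoxeterGeom Cfsg.Agent.Tits.Roots Cfsg.Agent.Tits.Core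
  Cfsg.Agent.Tits.Exchange Cfsg.Agent.Nodes.Reps Cfsg.Agent.Nodes.BNOf Cfsg.Agent.Nodes.StabComb
  Cfsg.Agent.Nodes.Bruhat Cfsg.Agent.Nodes.OppDec Cfsg.Agent.Nodes.LeviDec Module

universe u v

section lin

variable {V : Type v} [AddCommGroup V] [Module ℂ V] [FiniteDimensional ℂ V]

/-- the eigenspace of `t` in `E` -/
def KK (E : Submodule ℂ V) (t : Module.End ℂ V) (x : ℂ) : Submodule ℂ V := E ⊓ LinearMap.ker (t - x • 1)

theorem mem_KK {E : Submodule ℂ V} {t : Module.End ℂ V} {x : ℂ} {v : V} : v ∈ KK E t x ↔ v ∈ E ∧ t v = x • v := by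
  unfold KK
  rw [Submodule.mem_inf, LinearMap.mem_ker, LinearMap.sub_apply, sub_eq_zero, LinearMap.smul_apply, Module.End.one_apply]

/-- the two eigenspaces of a quadratic operator -/
theorem quad_split {E : Submodule ℂ V} {p t : Module.End ℂ V} (hp : ∀ v ∈ E, p v = v) (hp' : ∀ v, p v ∈ E)
    (ht : ∀ v, t v ∈ E) (htp : ∀ v, t (p v) = t v) {α β x₁ x₂ : ℂ} (h1 : x₁ + x₂ = α) (h2 : x₁ * x₂ = -β)
    (hne : x₁ ≠ x₂) (hsq : ∀ v ∈ E, t (t v) = α • t v + β • v) :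
    finrank ℂ (KK E t x₁) + finrank ℂ (KK E t x₂) = finrank ℂ E ∧
      LinearMap.trace ℂ V t = x₁ * finrank ℂ (KK E t x₁) + x₂ * finrank ℂ (KK E t x₂) := by
  have hpE : LinearMap.trace ℂ V p = finrank ℂ E := (LinearMap.IsProj.mk hp' hp).trace
  have key : ∀ y₁ y₂ : ℂ, y₁ + y₂ = α → y₁ * y₂ = -β → y₁ ≠ y₂ →
      LinearMap.trace ℂ V t - y₂ * finrank ℂ E = (y₁ - y₂) * finrank ℂ (KK E t y₁) := by
    intro y₁ y₂ e1 e2 e3
    have hne' : y₁ - y₂ ≠ 0 := sub_ne_zero.2 e3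
    have hproj : LinearMap.IsProj (KK E t y₁) ((y₁ - y₂)⁻¹ • (t - y₂ • p)) := by
      constructor
      · intro v
        rw [mem_KK]
        have hpv : p (p v) = p v := hp _ (hp' v)
        refine ⟨E.smul_mem _ (E.sub_mem (ht v) (E.smul_mem _ (hp' v))), ?_⟩
        have h3 := hsq _ (hp' v)
        rw [htp] at h3
        rw [LinearMap.smul_apply, map_smul, LinearMap.sub_apply, map_sub, h3, LinearMap.smul_apply, map_smul, htp,
          ← e1, show β = -(y₁ * y₂) by rw [e2, neg_neg]]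
        module
      · intro v hv
        rw [mem_KK] at hv
        rw [LinearMap.smul_apply, LinearMap.sub_apply, LinearMap.smul_apply, hv.2, hp v hv.1, ← sub_smul, smul_smul,
          inv_mul_cancel₀ hne', one_smul]
    have h3 := hproj.trace
    rw [map_smul, map_sub, map_smul, hpE, smul_eq_mul, smul_eq_mul] at h3
    field_simp at h3
    linear_combination h3
  have k1 := key x₁ x₂ h1 h2 hne
  have k2 := key x₂ x₁ (by rw [add_comm, h1]) (by rw [mul_comm, h2]) hne.symm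
  have hne' : x₁ - x₂ ≠ 0 := sub_ne_zero.2 hne
  have h3 : (finrank ℂ (KK E t x₁) : ℂ) + finrank ℂ (KK E t x₂) = finrank ℂ E := by
    have h4 : (x₁ - x₂) * ((finrank ℂ (KK E t x₁) : ℂ) + finrank ℂ (KK E t x₂)) = (x₁ - x₂) * finrank ℂ E := by
      linear_combination -k1 + k2
    exact mul_left_cancel₀ hne' h4
  refine ⟨by exact_mod_cast h3, ?_⟩
  linear_combination k1 - x₂ * h3

theorem finrank_add_le_of_disjoint {E A B : Submodule ℂ V} (hA : A ≤ E) (hB : B ≤ E) (h : A ⊓ B = ⊥) :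
    finrank ℂ A + finrank ℂ B ≤ finrank ℂ E := by
  have h1 := Submodule.finrank_sup_add_finrank_inf_eq A B
  rw [h, finrank_bot, add_zero] at h1
  rw [← h1]
  exact Submodule.finrank_mono (sup_le hA hB)

end lin

variable {I W : Type*} {Y : Type u} [Fintype I] [DecidableEq I] [Group W] [Group Y] {M : CoxeterMatrix I}
  {cs : CoxeterSystem M W} {A : I → I → ℤ} {h : IsCartan M A} {p : ℕ} {T : Subgroup Y} {n : I → Y}
  {X : (I → ℤ) → Subgroup Y} (R : RGD cs h p T n X) [Finite W] [Finite Y] {V : Type v} [AddCommGroup V]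
  [Module ℂ V] [FiniteDimensional ℂ V] {ρ : Representation ℂ Y V}

theorem exists_roots {α β : ℂ} (hb : β ≠ 0) (hd : 4 + α ^ 2 / β ≠ 0) : ∃ x₁ x₂ : ℂ, x₁ + x₂ = α ∧ x₁ * x₂ = -β ∧ x₁ ≠ x₂ := by
  obtain ⟨s, hs⟩ := IsAlgClosed.exists_pow_nat_eq (α ^ 2 + 4 * β) (n := 2) (by norm_num)
  have hs0 : s ≠ 0 := by
    rintro rfl
    apply hd
    have h1 : α ^ 2 + 4 * β = 0 := by rw [← hs]; ring
    field_simp
    linear_combination h1
  refine ⟨(α + s) / 2, (α - s) / 2, by ring, by linear_combination -(hs) / 4, fun h1 => hs0 ?_⟩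
  linear_combination h1

include R

theorem sum_cells [Fintype W] (hG : GG cs h T X = ⊤) :
    ∑ w : W, Nat.card {g : Y // Cell R.nsys cs h X w g} = Nat.card Y := by
  classical
  let _ : Fintype Y := Fintype.ofFinite Y
  have hYc : ∀ g : Y, ∃ w, Cell R.nsys cs h X w g := fun g => (mem_GG R).1 (by rw [hG]; exact Subgroup.mem_top g)
  choose wd hwd using hYc
  rw [Nat.card_eq_fintype_card (α := Y), ← Finset.card_univ, Finset.card_eq_sum_card_fiberwise (f := wd) (t := Finset.univ)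
    (fun _ _ => Finset.mem_coe.2 (Finset.mem_univ _))]
  refine Finset.sum_congr rfl fun w _ => ?_
  rw [Nat.card_eq_fintype_card, Fintype.card_subtype]
  congr 1
  ext g
  simp only [Finset.mem_filter, Finset.mem_univ, true_and]
  exact ⟨fun h2 => Cell.unique R (hwd g) h2, fun h2 => h2 ▸ hwd g⟩

/-- the order of a group of rank two -/
theorem card_rank_two (hG : GG cs h T X = ⊤) {a b : I} (hab : a ≠ b) (hI : ∀ i, i = a ∨ i = b) {m : ℕ}
    (hm : M a b = 2 * m) (hm0 : 0 < m) : (Nat.card Y : ℂ) = Nat.card (RGD.B cs h T X) *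
      ((1 + qq X a : ℂ) * (1 + qq X b) * ∑ i ∈ Finset.range m, ((qq X a : ℂ) * qq X b) ^ i) := by
  classical
  let _ : Fintype W := Fintype.ofFinite W
  have hB0 : (Nat.card (RGD.B cs h T X) : ℂ) ≠ 0 := card_ne _
  have h1 := dih_sum cs h hab hI hm hm0
    (ψ := fun w => (Nat.card {g : Y // Cell R.nsys cs h X w g} : ℂ) / Nat.card (RGD.B cs h T X))
    (y := fun i => (qq X i : ℂ)) (by
      rw [card_cell_one R, div_self hB0]) (fun i w hl => by
      rw [card_cell_simple R hl, Nat.cast_mul, mul_div_assoc])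
  rw [← h1, ← Finset.sum_div, mul_div_cancel₀ _ hB0, ← Nat.cast_sum, sum_cells R hG]

/-- **`V^U` is one-dimensional**, the degree -/
theorem rank_two' (hG : GG cs h T X = ⊤) (hT : ∀ s ∈ T, ∀ t ∈ T, s * t = t * s)
    (hρ : ρ.IsIrreducible) {a b : I} (hab : a ≠ b) (hI : ∀ i, i = a ∨ i = b) {m : ℕ} (hm : M a b = 2 * m) (hm0 : 0 < m)
    {l : T →* ℂˣ} (hl : Vl cs h T X ρ l ≠ ⊥) (hf : ∀ i, Mv cs R.nsys (cs.simple i) l l) {c : I} {t : Y}
    (ht : Ell cs h T X {c} t) (hχ : ρ.character t ≠ 0) :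
    VU cs h X ρ = Vl cs h T X ρ l ∧ finrank ℂ (Vl cs h T X ρ l) = 1 ∧ ∃ x : I → ℂ,
      (∀ i, x i ^ 2 = Al R i l * x i + Be R i l) ∧ (∀ i, ∀ v ∈ Vl cs h T X ρ l, Tq R ρ i l v = x i • v) ∧
      ∀ y : I → ℂ, (∀ i, y i = qq X i * x i ^ 2 * ((l ⟨n i * n i, R.sq_mem_T i⟩)⁻¹ : ℂˣ).val) →
      ρ.character 1 * ((1 + y a) * (1 + y b) * ∑ i ∈ Finset.range m, (y a * y b) ^ i) =
        (1 + qq X a : ℂ) * (1 + qq X b) * ∑ i ∈ Finset.range m, ((qq X a : ℂ) * qq X b) ^ i := by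
  classical
  let _ : Fintype W := Fintype.ofFinite W
  have hVU := VU_eq R hG hT hρ hl hf
  have h1 : finrank ℂ (Vl cs h T X ρ l) = 1 := by
    by_contra hne
    -- no common eigenvectors
    have hno : ∀ x y : ℂ, KK (Vl cs h T X ρ l) (Tq R ρ a l) x ⊓ KK (Vl cs h T X ρ l) (Tq R ρ b l) y = ⊥ := by
      intro x y
      rw [eq_bot_iff]
      intro v hv
      rw [Submodule.mem_inf, mem_KK, mem_KK] at hv
      by_contra hv0
      apply hne
      rw [finrank_eq_one R hG hρ hf hv.1.1 hv0 fun i => ?_, finrank_span_singleton hv0]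
      rcases hI i with rfl | rfl
      · exact ⟨x, hv.1.2⟩
      · exact ⟨y, hv.2.2⟩
    have hspl : ∀ i, ∃ x₁ x₂ : ℂ, x₁ + x₂ = Al R i l ∧
        finrank ℂ (KK (Vl cs h T X ρ l) (Tq R ρ i l) x₁) + finrank ℂ (KK (Vl cs h T X ρ l) (Tq R ρ i l) x₂) =
          finrank ℂ (Vl cs h T X ρ l) ∧
        LinearMap.trace ℂ V (Tq R ρ i l) = x₁ * finrank ℂ (KK (Vl cs h T X ρ l) (Tq R ρ i l) x₁) +
          x₂ * finrank ℂ (KK (Vl cs h T X ρ l) (Tq R ρ i l) x₂) := by
      intro i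
      obtain ⟨x₁, x₂, e1, e2, e3⟩ := exists_roots (Be_ne R (hf i)) (disc_ne R hG hρ (hf i) hl hVU)
      refine ⟨x₁, x₂, e1, ?_⟩
      refine quad_split (p := el ρ (RGD.B cs h T X) (lamB R l)) (fun v hv => ?_) (fun v => ?_) (fun v => Tq_mem R i l v)
        (fun v => ?_) e1 e2 e3 fun v hv => Tq_sq R (hf i) hv
      · rw [Vl_eq R] at hv
        exact el_of_mem hv
      · rw [Vl_eq R]
        exact el_mem _ _ _ _
      · unfold Tq
        simp only [Module.End.mul_apply]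
        rw [el_idem]
    obtain ⟨x₁, x₂, ex, hx, htx⟩ := hspl a
    obtain ⟨y₁, y₂, ey, hy, hty⟩ := hspl b
    have hle : ∀ (x y : ℂ), finrank ℂ (KK (Vl cs h T X ρ l) (Tq R ρ a l) x) +
        finrank ℂ (KK (Vl cs h T X ρ l) (Tq R ρ b l) y) ≤ finrank ℂ (Vl cs h T X ρ l) := fun x y =>
      finrank_add_le_of_disjoint inf_le_left inf_le_left (hno x y)
    have l1 := hle x₁ y₁
    have l2 := hle x₁ y₂
    have l3 := hle x₂ y₁
    have l4 := hle x₂ y₂
    have ex1 : 2 * finrank ℂ (KK (Vl cs h T X ρ l) (Tq R ρ a l) x₁) = finrank ℂ (Vl cs h T X ρ l) := by omega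
    have ex2 : 2 * finrank ℂ (KK (Vl cs h T X ρ l) (Tq R ρ a l) x₂) = finrank ℂ (Vl cs h T X ρ l) := by omega
    have ey1 : 2 * finrank ℂ (KK (Vl cs h T X ρ l) (Tq R ρ b l) y₁) = finrank ℂ (Vl cs h T X ρ l) := by omega
    have ey2 : 2 * finrank ℂ (KK (Vl cs h T X ρ l) (Tq R ρ b l) y₂) = finrank ℂ (Vl cs h T X ρ l) := by omega
    have cast : ∀ {k d : ℕ}, 2 * k = d → (2 : ℂ) * k = d := fun {k d} e => by exact_mod_cast e
    have hbad := tr_ne R hG hρ (hf c) hl hVU ht hχ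
    apply hbad
    rcases hI c with rfl | rfl
    · rw [htx, ← ex]
      linear_combination x₁ * cast ex1 + x₂ * cast ex2
    · rw [hty, ← ey]
      linear_combination y₁ * cast ey1 + y₂ * cast ey2
  refine ⟨hVU, h1, ?_⟩
  obtain ⟨v, hv, hv0⟩ := Submodule.exists_mem_ne_zero_of_ne_bot hl
  have hE : Vl cs h T X ρ l = ℂ ∙ v := by
    symm
    apply Submodule.eq_of_le_of_finrank_eq
    · rw [Submodule.span_singleton_le_iff_mem]
      exact hv
    · rw [h1, finrank_span_singleton hv0]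
  have hex : ∀ i, ∃ c : ℂ, Tq R ρ i l v = c • v := by
    intro i
    have h2 := Tq_mem (ρ := ρ) R i l v
    rw [hE] at h2
    obtain ⟨c, hc⟩ := Submodule.mem_span_singleton.1 h2
    exact ⟨c, hc.symm⟩
  choose x hx using hex
  refine ⟨x, fun i => ?_, fun i z hz => ?_, fun y hy => ?_⟩
  · have h2 := Tq_sq R (hf i) hv
    rw [hx i, map_smul, hx i, smul_smul, smul_smul, ← add_smul] at h2
    have h3 : (x i * x i - (Al R i l * x i + Be R i l)) • v = 0 := by rw [sub_smul, h2, sub_self]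
    rcases smul_eq_zero.1 h3 with h4 | h4
    · linear_combination h4
    · exact absurd h4 hv0
  · rw [hE] at hz
    obtain ⟨c, rfl⟩ := Submodule.mem_span_singleton.1 hz
    rw [map_smul, hx i, smul_comm]
  · obtain ⟨ψ, hψ1, hψs, hψ⟩ := degree R hG hρ hf hv0 hE hx
    have h2 := dih_sum cs h hab hI hm hm0 (ψ := ψ) (y := y) hψ1 fun i w hw => by rw [hψs i w hw, hy i]
    rw [h2, card_rank_two R hG hab hI hm hm0] at hψ
    have hB0 : (Nat.card (RGD.B cs h T X) : ℂ) ≠ 0 := card_ne _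
    refine mul_left_cancel₀ hB0 ?_
    linear_combination hψ

/-- **rank two** -/
theorem rank_two (hG : GG cs h T X = ⊤) (hT : ∀ s ∈ T, ∀ t ∈ T, s * t = t * s)
    (hρ : ρ.IsIrreducible) {a b : I} (hab : a ≠ b) (hI : ∀ i, i = a ∨ i = b) {m : ℕ} (hm : M a b = 2 * m) (hm0 : 0 < m)
    {l : T →* ℂˣ} (hl : Vl cs h T X ρ l ≠ ⊥) (hla : Mv cs R.nsys (cs.simple a) l l)
    (hlb : Mv cs R.nsys (cs.simple b) l l) {c : I} {t : Y} (ht : Ell cs h T X {c} t) (hχ : ρ.character t ≠ 0) :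
    VU cs h X ρ = Vl cs h T X ρ l ∧ finrank ℂ (Vl cs h T X ρ l) = 1 ∧ ∃ ya yb : ℂ, YY X n l a ya ∧ YY X n l b yb ∧
      ρ.character 1 * ((1 + ya) * (1 + yb) * ∑ i ∈ Finset.range m, (ya * yb) ^ i) =
        (1 + qq X a : ℂ) * (1 + qq X b) * ∑ i ∈ Finset.range m, ((qq X a : ℂ) * qq X b) ^ i := by
  have hf : ∀ i, Mv cs R.nsys (cs.simple i) l l := fun i => by
    rcases hI i with rfl | rfl
    · exact hla
    · exact hlb
  obtain ⟨h1, h2, x, hx, -, h3⟩ := rank_two' R hG hT hρ hab hI hm hm0 hl hf ht hχ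
  let y : I → ℂ := fun i => qq X i * x i ^ 2 * ((l ⟨n i * n i, R.sq_mem_T i⟩)⁻¹ : ℂˣ).val
  exact ⟨h1, h2, y a, y b, yy_of_root R hla (hx a), yy_of_root R hlb (hx b), h3 y fun i => rfl⟩

end Cfsg.Agent.H985.VZ
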