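import Cfsg.Agent.H985.VZ.Cells

/-!
# S4842: the parameters `α_i`, `β_i` (helper985)

* `Be_eq` : `β_i = l(n_i²) / q_i`;
* `Al_triv` : `α_i = 1 - 1 / q_i` if `l` is trivial on `T ∩ ⟨X_i, X_-i⟩`;
* `Al_bal` : `α_i = 0` if `l` is not trivial there and `Bal` (the rank one group is an image of `SL₂`);
* `YY`, `yy_of_root` : the values of `y_i = q_i x² / l(n_i²)`.
-/

set_option autoImplicit false
set_option linter.unusedSectionVars false

open Cfsg

namespace Cfsg.Agent.H985.VZ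

open CoxeterSystem Cfsg.Agent.ChevalleyStructure.CoxeterGeom Cfsg.Agent.Tits.Roots Cfsg.Agent.Tits.Core
  Cfsg.Agent.Tits.Exchange Cfsg.Agent.Nodes.Reps Cfsg.Agent.Nodes.BNOf Cfsg.Agent.Nodes.StabComb
  Cfsg.Agent.Nodes.Bruhat Cfsg.Agent.Nodes.OppDec Cfsg.Agent.Nodes.LeviDec Module

universe u v

theorem avg_sum {B0 X1 : Type*} [Group B0] [Fintype B0] [Group X1] [Fintype X1] (j : X1 →* B0) (F : B0 → ℂ)
    (hF : ∀ b, ∃ x0 : X1, ∀ x : X1, F (b * j x) = F (j (x0 * x))) :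
    (Fintype.card X1 : ℂ) * ∑ b, F b = Fintype.card B0 * ∑ x, F (j x) := by
  have h1 : ∀ x : X1, ∑ b, F (b * j x) = ∑ b, F b := fun x => Equiv.sum_comp (Equiv.mulRight (j x)) F
  have h2 : ∀ b : B0, ∑ x : X1, F (b * j x) = ∑ x, F (j x) := by
    intro b
    obtain ⟨x0, hx0⟩ := hF b
    rw [Finset.sum_congr rfl fun x _ => hx0 x]
    exact Equiv.sum_comp (Equiv.mulLeft x0) fun x => F (j x)
  have h3 : ∑ x : X1, ∑ b, F (b * j x) = ∑ b, ∑ x : X1, F (b * j x) := Finset.sum_comm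
  rw [Finset.sum_congr rfl fun x _ => h1 x, Finset.sum_congr rfl fun b _ => h2 b, Finset.sum_const, Finset.sum_const,
    Finset.card_univ, Finset.card_univ, nsmul_eq_mul, nsmul_eq_mul] at h3
  exact h3

namespace RkOne

variable {P : Type u} [Group P] {B : Subgroup P} {n : P} {l : B →* ℂˣ} (H : RkOne B n l)

include H

theorem cb_eq (b c : B) : cb B n l (b * n * c) = (l b : ℂ) * l c := by
  have h1 : (b : P) * n * c ∉ B := fun h => H.disj h
  obtain ⟨b', c', e, h2⟩ := H.exists_cb h1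
  rw [h2, ← Units.val_mul, ← Units.val_mul, H.psi_unique e]

theorem cb_mul (b : B) (g : P) : cb B n l (b * g) = (l b : ℂ) * cb B n l g := by
  by_cases hg : g ∈ B
  · rw [H.cb_of_mem hg, mul_zero, H.cb_of_mem (mul_mem b.2 hg)]
  · obtain ⟨b', c', e, h2⟩ := H.exists_cb hg
    rw [h2, e, ← mul_assoc, ← mul_assoc, show ((b : P) * b') = ((b * b' : B) : P) from rfl, H.cb_eq, map_mul,
      Units.val_mul, mul_assoc]

end RkOne

variable {I W : Type*} {Y : Type u} [Fintype I] [DecidableEq I] [Group W] [Group Y] {M : CoxeterMatrix I}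
  {cs : CoxeterSystem M W} {A : I → I → ℤ} {h : IsCartan M A} {p : ℕ} {T : Subgroup Y} {n : I → Y}
  {X : (I → ℤ) → Subgroup Y} (R : RGD cs h p T n X) [Finite W]

/-- `n x n⁻¹ ∈ X_i t n X_i` -/
def RelX (X : (I → ℤ) → Subgroup Y) (n : I → Y) (i : I) (x t : Y) : Prop :=
  ∃ a ∈ X (sr i), ∃ b ∈ X (sr i), n i * x * (n i)⁻¹ = a * t * n i * b

/-- the map `x ↦ t` is equidistributed on `T ∩ ⟨X_i, X_-i⟩` -/
def Bal (X : (I → ℤ) → Subgroup Y) (T : Subgroup Y) (n : I → Y) (i : I) : Prop :=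
  ∃ k : ℕ, ∀ t ∈ T, t ∈ Li X i → Nat.card {x : X (sr i) // RelX X n i x t} = k

/-- the possible values of the parameter `y` -/
structure YY (X : (I → ℤ) → Subgroup Y) (n : I → Y) (l : T →* ℂˣ) (i : I) (y : ℂ) : Prop where
  ne : y ≠ 0
  triv : n i ∈ Li X i → Triv X l i → y = qq X i ∨ y = (qq X i : ℂ)⁻¹
  bal : n i ∈ Li X i → Bal X T n i → ¬ Triv X l i → y = 1

include R

theorem X_le_B' (i : I) : X (sr i) ≤ RGD.B cs h T X := RGD.X_le_B (isRoot_sr cs h i) (sr_nonneg i)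

omit [Finite W] in
theorem X_le_U' (i : I) : X (sr i) ≤ RGD.Sup X (RGD.Pos cs h) := by
  have h1 : sr i ∈ RGD.Pos cs h := ⟨isRoot_sr cs h i, sr_nonneg i⟩
  exact RGD.le_Sup h1

theorem exists_rel {i : I} {x : Y} (hx : x ∈ X (sr i)) (hx1 : x ≠ 1) : ∃ t ∈ T, RelX X n i x t := by
  have h2 : n i * x * (n i)⁻¹ ∈ X (-sr i) := by
    have := R.conj_mem (rp_simple cs R.nsys i) (isRoot_sr cs h i) hx
    rwa [rep_simple_sr] at this
  have h3 : n i * x * (n i)⁻¹ ≠ 1 := by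
    intro h4
    apply hx1
    have h5 : x = (n i)⁻¹ * (n i * x * (n i)⁻¹) * n i := by group
    rw [h5, h4]
    group
  obtain ⟨a, ha, t, ht, b, hb, e⟩ := R.rk1 i _ h2 h3
  exact ⟨t, ht, a, ha, b, hb, e⟩

theorem not_rel_one {i : I} {t : Y} (ht : t ∈ T) : ¬ RelX X n i 1 t := by
  rintro ⟨a, ha, b, hb, e⟩
  have h1 : n i ∈ RGD.B cs h T X := by
    have h2 : n i = (a * t)⁻¹ * b⁻¹ := by
      have h3 : a * t * n i * b = 1 := by rw [← e]; group
      have h4 : n i = (a * t)⁻¹ * (a * t * n i * b) * b⁻¹ := by group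
      rw [h4, h3]
      group
    rw [h2]
    exact mul_mem (inv_mem (mul_mem (X_le_B' R i ha) (RGD.T_le_B ht))) (inv_mem (X_le_B' R i hb))
  have h2 := R.eq_one_of_mem_B (rp_simple cs R.nsys i) h1
  have h3 := cs.length_simple i
  rw [h2, cs.length_one] at h3
  exact absurd h3 (by norm_num)

theorem rel_unique {i : I} {x t t' : Y} (ht : t ∈ T) (ht' : t' ∈ T) (h1 : RelX X n i x t) (h2 : RelX X n i x t') :
    t = t' := by
  obtain ⟨a, ha, b, hb, e⟩ := h1
  obtain ⟨a', ha', b', hb', e'⟩ := h2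
  have h3 : n i * (b * b'⁻¹) * (n i)⁻¹ = t⁻¹ * (a⁻¹ * a') * t' := by
    have h4 : a * t * n i * b = a' * t' * n i * b' := by rw [← e, e']
    have h5 : n i * (b * b'⁻¹) * (n i)⁻¹ = t⁻¹ * a⁻¹ * (a * t * n i * b) * b'⁻¹ * (n i)⁻¹ := by group
    rw [h5, h4]
    group
  have h4 : n i * (b * b'⁻¹) * (n i)⁻¹ ∈ RGD.B cs h T X := by
    rw [h3]
    exact mul_mem (mul_mem (inv_mem (RGD.T_le_B ht)) (X_le_B' R i (mul_mem (inv_mem ha) ha'))) (RGD.T_le_B ht')
  have h5 : b * b'⁻¹ = 1 := eq_one_of_conj_mem_B R (mul_mem hb (inv_mem hb')) (rp_simple cs R.nsys i) h4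
  rw [h5, mul_one, mul_inv_cancel] at h3
  have h6 : t' = (a'⁻¹ * a) * t := by
    have h7 : (a⁻¹ * a') * t' = t := by
      have : t⁻¹ * ((a⁻¹ * a') * t') = 1 := by rw [h3]; group
      exact (inv_mul_eq_one.1 this).symm
    rw [← h7]
    group
  have h7 : a'⁻¹ * a ∈ RGD.Sup X (RGD.Pos cs h) ⊓ T :=
    ⟨X_le_U' R i (mul_mem (inv_mem ha') ha), by
      have h8 : a'⁻¹ * a = t' * t⁻¹ := by rw [h6]; group
      rw [h8]
      exact T.mul_mem ht' (T.inv_mem ht)⟩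
  rw [U_inf_T R, Subgroup.mem_bot] at h7
  rw [h6, h7, one_mul]

omit R [Finite W] in
theorem rel_mem_Li {i : I} (hn : n i ∈ Li X i) {x t : Y} (hx : x ∈ X (sr i)) (h1 : RelX X n i x t) : t ∈ Li X i := by
  obtain ⟨a, ha, b, hb, e⟩ := h1
  have h2 : t = a⁻¹ * (n i * x * (n i)⁻¹) * b⁻¹ * (n i)⁻¹ := by rw [e]; group
  have hle : X (sr i) ≤ Li X i := le_sup_left
  rw [h2]
  exact mul_mem (mul_mem (mul_mem (inv_mem (hle ha)) (mul_mem (mul_mem hn (hle hx)) (inv_mem hn))) (inv_mem (hle hb)))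
    (inv_mem hn)

/-- the inclusion of the root group -/
def jX (i : I) : X (sr i) →* Bi cs h T X i where
  toFun x := ⟨⟨x, B_le_PJ (X_le_B' R i x.2)⟩, X_le_B' R i x.2⟩
  map_one' := rfl
  map_mul' _ _ := rfl

theorem li_jX (i : I) (l : T →* ℂˣ) (x : X (sr i)) : li R i l (jX R i x) = 1 := lamB_U R l (X_le_U' R i x.2) _

/-- `b = c x`, `n c n⁻¹ ∈ B` -/
theorem exists_cx {i : I} {l : T →* ℂˣ} (hm : Mv cs R.nsys (cs.simple i) l l) (b : Bi cs h T X i) :
    ∃ (x : X (sr i)) (c d : Bi cs h T X i), b = c * jX R i x ∧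
      ((d : ↥(PJ cs h T X {i})) = ni R i * c * (ni R i)⁻¹) ∧ li R i l d = li R i l c := by
  obtain ⟨⟨b, hbP⟩, hb⟩ := b
  obtain ⟨y, hy, x, hx1, t, ht, e⟩ := R.mem_B' i (show b ∈ RGD.B cs h T X from hb)
  have hx2 : t⁻¹ * x * t ∈ X (sr i) := by
    have h1 := R.tor (sr i) (isRoot_sr cs h i) t⁻¹ (inv_mem ht)
    have h2 := (conj_mem_cj (g := t⁻¹)).2 hx1
    rwa [h1, inv_inv] at h2
  have hyB : y ∈ RGD.B cs h T X := PosNe_le_B i hy
  have hc : y * t ∈ RGD.B cs h T X := mul_mem hyB (RGD.T_le_B ht)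
  have hn1 : n i * y * (n i)⁻¹ ∈ RGD.Sup X (RGD.PosNe cs h i) := by
    rw [← R.cj_n_V i]
    exact conj_mem_cj.2 hy
  have hn2 : n i * t * (n i)⁻¹ ∈ T := (Subgroup.mem_normalizer_iff.1 (R.nsys.norm i) t).1 ht
  have hcB : n i * (y * t) * (n i)⁻¹ ∈ RGD.B cs h T X := by
    have h3 : n i * (y * t) * (n i)⁻¹ = (n i * y * (n i)⁻¹) * (n i * t * (n i)⁻¹) := by group
    rw [h3]
    exact mul_mem (PosNe_le_B i hn1) (RGD.T_le_B hn2)
  refine ⟨⟨_, hx2⟩, ⟨⟨_, B_le_PJ hc⟩, hc⟩, ⟨⟨_, B_le_PJ hcB⟩, hcB⟩, Subtype.ext (Subtype.ext ?_), rfl, ?_⟩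
  · change b = (y * t) * (t⁻¹ * x * t)
    rw [e]
    group
  · exact lamB_conj R (rp_simple cs R.nsys i) hm rfl

section fin

variable [Finite Y]

theorem dd_eq {i : I} {l : T →* ℂˣ} (hm : Mv cs R.nsys (cs.simple i) l l) :
    (qq X i : ℂ) * RkOne.dd (Bi cs h T X i) (ni R i) = Nat.card (Bi cs h T X i) := by
  classical
  let _ : Fintype (Bi cs h T X i) := Fintype.ofFinite _
  let _ : Fintype (X (sr i)) := Fintype.ofFinite _
  have h1 := avg_sum (jX R i) (fun b => if ni R i * (b : ↥(PJ cs h T X {i})) * ni R i ∈ Bi cs h T X i then (1 : ℂ) else 0)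
    fun b => by
      obtain ⟨x0, c, d, e, e2, -⟩ := exists_cx R hm b
      refine ⟨x0, fun x => ?_⟩
      have h2 : (ni R i * ((b * jX R i x : Bi cs h T X i) : ↥(PJ cs h T X {i})) * ni R i ∈ Bi cs h T X i) ↔
          (ni R i * ((jX R i (x0 * x) : Bi cs h T X i) : ↥(PJ cs h T X {i})) * ni R i ∈ Bi cs h T X i) := by
        have h3 : ni R i * ((b * jX R i x : Bi cs h T X i) : ↥(PJ cs h T X {i})) * ni R i =
            (d : ↥(PJ cs h T X {i})) * (ni R i * ((jX R i (x0 * x) : Bi cs h T X i) : ↥(PJ cs h T X {i})) * ni R i) := by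
          rw [e, e2, map_mul]
          simp only [Subgroup.coe_mul]
          group
        rw [h3]
        exact Subgroup.mul_mem_cancel_left _ d.2
      simp only [h2]
  have h2 : ∑ x : X (sr i), (if ni R i * ((jX R i x : Bi cs h T X i) : ↥(PJ cs h T X {i})) * ni R i ∈ Bi cs h T X i
      then (1 : ℂ) else 0) = 1 := by
    rw [Finset.sum_eq_single (1 : X (sr i))]
    · rw [if_pos]
      rw [map_one, Subgroup.coe_one, mul_one]
      exact (rkOne R hm).sq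
    · intro x _ hx
      rw [if_neg]
      intro h3
      apply hx
      have h4 : n i * (x : Y) * n i ∈ RGD.B cs h T X := h3
      have h5 : n i * (x : Y) * (n i)⁻¹ ∈ RGD.B cs h T X := by
        have h6 : n i * (x : Y) * (n i)⁻¹ = (n i * x * n i) * (n i * n i)⁻¹ := by group
        rw [h6]
        exact mul_mem h4 (inv_mem (RGD.T_le_B (R.sq_mem_T i)))
      exact Subtype.ext (eq_one_of_conj_mem_B R x.2 (rp_simple cs R.nsys i) h5)
    · intro h3
      exact absurd (Finset.mem_univ _) h3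
  rw [h2, mul_one, ← Finset.sum_filter, Finset.sum_const, nsmul_eq_mul, mul_one] at h1
  unfold RkOne.dd qq
  rw [Nat.card_eq_fintype_card (α := {b : Bi cs h T X i // _}), Fintype.card_subtype, Nat.card_eq_fintype_card,
    Nat.card_eq_fintype_card]
  exact h1

theorem qq_pos (i : I) : (qq X i : ℂ) ≠ 0 := by
  unfold qq
  exact_mod_cast Nat.card_pos.ne'

theorem Be_eq {i : I} {l : T →* ℂˣ} (hm : Mv cs R.nsys (cs.simple i) l l) :
    Be R i l = (l ⟨n i * n i, R.sq_mem_T i⟩ : ℂ) / qq X i := by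
  unfold Be
  rw [(rkOne R hm).be_eq]
  have h1 := dd_eq R hm
  have h2 : li R i l ⟨ni R i * ni R i, (rkOne R hm).sq⟩ = l ⟨n i * n i, R.sq_mem_T i⟩ := lamB_T R l (R.sq_mem_T i) _
  have h3 : (Nat.card (Bi cs h T X i) : ℂ) ≠ 0 := card_ne _
  have h4 := qq_pos (X := X) R i
  rw [h2, div_eq_div_iff h3 h4, ← h1]
  ring

theorem Al_eq {i : I} {l : T →* ℂˣ} (hm : Mv cs R.nsys (cs.simple i) l l) [Fintype (X (sr i))] :
    Al R i l = (qq X i : ℂ)⁻¹ * ∑ x : X (sr i), RkOne.cb (Bi cs h T X i) (ni R i) (li R i l)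
      (ni R i * ((jX R i x : Bi cs h T X i) : ↥(PJ cs h T X {i})) * ni R i) := by
  classical
  let _ : Fintype (Bi cs h T X i) := Fintype.ofFinite _
  have h1 := avg_sum (jX R i) (fun b => ((li R i l b)⁻¹ : ℂˣ).val * RkOne.cb (Bi cs h T X i) (ni R i) (li R i l)
    (ni R i * (b : ↥(PJ cs h T X {i})) * ni R i)) fun b => by
      obtain ⟨x0, c, d, e, e2, e3⟩ := exists_cx R hm b
      refine ⟨x0, fun x => ?_⟩
      have h3 : ni R i * ((b * jX R i x : Bi cs h T X i) : ↥(PJ cs h T X {i})) * ni R i =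
          (d : ↥(PJ cs h T X {i})) * (ni R i * ((jX R i (x0 * x) : Bi cs h T X i) : ↥(PJ cs h T X {i})) * ni R i) := by
        rw [e, e2, map_mul]
        simp only [Subgroup.coe_mul]
        group
      have h4 : li R i l (b * jX R i x) = li R i l c := by
        rw [e, map_mul, map_mul, li_jX, li_jX, mul_one, mul_one]
      change ((li R i l (b * jX R i x))⁻¹ : ℂˣ).val * _ = ((li R i l (jX R i (x0 * x)))⁻¹ : ℂˣ).val * _
      rw [h3, (rkOne R hm).cb_mul, h4, e3, li_jX, ← mul_assoc, Units.inv_mul, inv_one, Units.val_one]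
  unfold Al RkOne.al
  rw [finsum_eq_sum_of_fintype]
  have h2 : (Nat.card (Bi cs h T X i) : ℂ) ≠ 0 := card_ne _
  have h3 := qq_pos (X := X) R i
  have h4 : ∑ x : X (sr i), ((li R i l (jX R i x))⁻¹ : ℂˣ).val * RkOne.cb (Bi cs h T X i) (ni R i) (li R i l)
      (ni R i * ((jX R i x : Bi cs h T X i) : ↥(PJ cs h T X {i})) * ni R i) =
      ∑ x : X (sr i), RkOne.cb (Bi cs h T X i) (ni R i) (li R i l)
      (ni R i * ((jX R i x : Bi cs h T X i) : ↥(PJ cs h T X {i})) * ni R i) :=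
    Finset.sum_congr rfl fun x _ => by rw [li_jX, inv_one, Units.val_one, one_mul]
  rw [h4] at h1
  have h5 : (Fintype.card (X (sr i)) : ℂ) = qq X i := by
    unfold qq
    rw [Nat.card_eq_fintype_card]
  have h6 : (Fintype.card (Bi cs h T X i) : ℂ) = Nat.card (Bi cs h T X i) := by rw [Nat.card_eq_fintype_card]
  rw [h5, h6] at h1
  field_simp
  rw [mul_comm] at h1
  rw [h1]

/-- the value of the coefficient -/
theorem cb_rel {i : I} {l : T →* ℂˣ} (hm : Mv cs R.nsys (cs.simple i) l l) (x : X (sr i)) {t : Y} (ht : t ∈ T)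
    (h1 : RelX X n i x t) : RkOne.cb (Bi cs h T X i) (ni R i) (li R i l)
      (ni R i * ((jX R i x : Bi cs h T X i) : ↥(PJ cs h T X {i})) * ni R i) =
      (l ⟨t, ht⟩ : ℂ) * l ⟨n i * n i, R.sq_mem_T i⟩ := by
  obtain ⟨a, ha, b, hb, e⟩ := h1
  have hat : a * t ∈ RGD.B cs h T X := mul_mem (X_le_B' R i ha) (RGD.T_le_B ht)
  have hbn : b * (n i * n i) ∈ RGD.B cs h T X := mul_mem (X_le_B' R i hb) (RGD.T_le_B (R.sq_mem_T i))
  have h2 : ni R i * ((jX R i x : Bi cs h T X i) : ↥(PJ cs h T X {i})) * ni R i =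
      ((⟨⟨a * t, B_le_PJ hat⟩, hat⟩ : Bi cs h T X i) : ↥(PJ cs h T X {i})) * ni R i *
        ((⟨⟨b * (n i * n i), B_le_PJ hbn⟩, hbn⟩ : Bi cs h T X i) : ↥(PJ cs h T X {i})) := Subtype.ext (by
    change n i * (x : Y) * n i = (a * t) * n i * (b * (n i * n i))
    have h3 : n i * (x : Y) * n i = (n i * x * (n i)⁻¹) * (n i * n i) := by group
    rw [h3, e]
    group)
  rw [h2, (rkOne R hm).cb_eq]
  congr 2
  · have h3 : li R i l ⟨⟨a * t, B_le_PJ hat⟩, hat⟩ = lamB R l (⟨a, X_le_B' R i ha⟩ * ⟨t, RGD.T_le_B ht⟩) := rfl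
    rw [h3, map_mul, lamB_U R l (X_le_U' R i ha), lamB_T R l ht, one_mul]
  · have h3 : li R i l ⟨⟨b * (n i * n i), B_le_PJ hbn⟩, hbn⟩ =
      lamB R l (⟨b, X_le_B' R i hb⟩ * ⟨n i * n i, RGD.T_le_B (R.sq_mem_T i)⟩) := rfl
    rw [h3, map_mul, lamB_U R l (X_le_U' R i hb), lamB_T R l (R.sq_mem_T i), one_mul]

theorem cb_one {i : I} {l : T →* ℂˣ} (hm : Mv cs R.nsys (cs.simple i) l l) :
    RkOne.cb (Bi cs h T X i) (ni R i) (li R i l)
      (ni R i * ((jX R i 1 : Bi cs h T X i) : ↥(PJ cs h T X {i})) * ni R i) = 0 := by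
  refine (rkOne R hm).cb_of_mem ?_
  rw [map_one, Subgroup.coe_one, mul_one]
  exact (rkOne R hm).sq

theorem l_sq_triv {i : I} {l : T →* ℂˣ} (hn : n i ∈ Li X i) (hl : Triv X l i) :
    l ⟨n i * n i, R.sq_mem_T i⟩ = 1 := hl _ (mul_mem hn hn)

theorem Al_triv {i : I} {l : T →* ℂˣ} (hm : Mv cs R.nsys (cs.simple i) l l) (hn : n i ∈ Li X i) (hl : Triv X l i) :
    Al R i l = 1 - (qq X i : ℂ)⁻¹ := by
  classical
  let _ : Fintype (X (sr i)) := Fintype.ofFinite _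
  rw [Al_eq R hm]
  have h1 : ∀ x : X (sr i), RkOne.cb (Bi cs h T X i) (ni R i) (li R i l)
      (ni R i * ((jX R i x : Bi cs h T X i) : ↥(PJ cs h T X {i})) * ni R i) = 1 - if x = 1 then 1 else 0 := by
    intro x
    by_cases hx : x = 1
    · subst hx
      rw [cb_one R hm, if_pos rfl, sub_self]
    · rw [if_neg hx, sub_zero]
      obtain ⟨t, ht, hr⟩ := exists_rel R x.2 (fun h => hx (Subtype.ext h))
      rw [cb_rel R hm x ht hr, hl ⟨t, ht⟩ (rel_mem_Li hn x.2 hr), l_sq_triv R hn hl, Units.val_one, one_mul]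
  rw [Finset.sum_congr rfl fun x _ => h1 x, Finset.sum_sub_distrib, Finset.sum_const, Finset.card_univ, nsmul_eq_mul,
    mul_one, Finset.sum_ite_eq' Finset.univ (1 : X (sr i)) fun _ => (1 : ℂ), if_pos (Finset.mem_univ _)]
  have h5 : (Fintype.card (X (sr i)) : ℂ) = qq X i := by
    unfold qq
    rw [Nat.card_eq_fintype_card]
  have h3 := qq_pos (X := X) R i
  rw [h5]
  field_simp

theorem Al_bal {i : I} {l : T →* ℂˣ} (hm : Mv cs R.nsys (cs.simple i) l l) (hn : n i ∈ Li X i) (hb : Bal X T n i)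
    (hl : ¬ Triv X l i) : Al R i l = 0 := by
  classical
  let _ : Fintype (X (sr i)) := Fintype.ofFinite _
  let TL : Subgroup Y := T ⊓ Li X i
  let _ : Fintype TL := Fintype.ofFinite _
  obtain ⟨k, hk⟩ := hb
  rw [Al_eq R hm]
  let lT : TL → ℂ := fun t => (l ⟨t, t.2.1⟩ : ℂ)
  have h1 : ∀ x : X (sr i), RkOne.cb (Bi cs h T X i) (ni R i) (li R i l)
      (ni R i * ((jX R i x : Bi cs h T X i) : ↥(PJ cs h T X {i})) * ni R i) =
      ∑ t : TL, if RelX X n i x t then lT t * l ⟨n i * n i, R.sq_mem_T i⟩ else 0 := by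
    intro x
    by_cases hx : x = 1
    · subst hx
      rw [cb_one R hm, Finset.sum_eq_zero]
      intro t _
      exact if_neg (not_rel_one R t.2.1)
    · obtain ⟨t, ht, hr⟩ := exists_rel R x.2 (fun h => hx (Subtype.ext h))
      rw [cb_rel R hm x ht hr, Finset.sum_eq_single (⟨t, ht, rel_mem_Li hn x.2 hr⟩ : TL)]
      · rw [if_pos hr]
      · intro t' _ hne
        rw [if_neg]
        intro hr'
        exact hne (Subtype.ext (rel_unique R t'.2.1 ht hr' hr))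
      · intro h3
        exact absurd (Finset.mem_univ _) h3
  rw [Finset.sum_congr rfl fun x _ => h1 x, Finset.sum_comm]
  have h2 : ∀ t : TL, ∑ x : X (sr i), (if RelX X n i x t then lT t * l ⟨n i * n i, R.sq_mem_T i⟩ else 0) =
      lT t * (k * l ⟨n i * n i, R.sq_mem_T i⟩) := by
    intro t
    have h3 := hk t t.2.1 t.2.2
    rw [← Finset.sum_filter, Finset.sum_const, nsmul_eq_mul, ← h3, Nat.card_eq_fintype_card, Fintype.card_subtype]
    ring
  rw [Finset.sum_congr rfl fun t _ => h2 t, ← Finset.sum_mul]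
  have h3 : ∑ t : TL, lT t = 0 := by
    unfold Triv at hl
    push Not at hl
    obtain ⟨s, hs, hs1⟩ := hl
    let s' : TL := ⟨s, s.2, hs⟩
    have h4 : ∑ t : TL, lT (s' * t) = ∑ t : TL, lT t := Equiv.sum_comp (Equiv.mulLeft s') lT
    have h5 : ∀ t : TL, lT (s' * t) = (l s : ℂ) * lT t := by
      intro t
      change (l ⟨(s : Y) * t, _⟩ : ℂ) = (l s : ℂ) * (l ⟨t, t.2.1⟩ : ℂ)
      rw [← Units.val_mul, ← map_mul]
      rfl
    rw [Finset.sum_congr rfl fun t _ => h5 t, ← Finset.mul_sum] at h4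
    have h6 : ((l s : ℂ) - 1) * ∑ t : TL, lT t = 0 := by rw [sub_mul, h4, one_mul, sub_self]
    rcases mul_eq_zero.1 h6 with h7 | h7
    · exact absurd (Units.ext (sub_eq_zero.1 h7)) hs1
    · exact h7
  rw [h3, zero_mul, mul_zero]

/-- the parameter `y = q x² / l(n²)` of a root `x` of `x² = α x + β` -/
theorem yy_of_root {i : I} {l : T →* ℂˣ} (hm : Mv cs R.nsys (cs.simple i) l l) {x : ℂ}
    (hx : x ^ 2 = Al R i l * x + Be R i l) :
    YY X n l i (qq X i * x ^ 2 * ((l ⟨n i * n i, R.sq_mem_T i⟩)⁻¹ : ℂˣ).val) := by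
  have hq := qq_pos (X := X) R i
  have hx0 : x ≠ 0 := by
    rintro rfl
    rw [mul_zero, zero_add] at hx
    exact Be_ne R hm (by rw [← hx]; ring)
  refine ⟨mul_ne_zero (mul_ne_zero hq (pow_ne_zero 2 hx0)) (Units.ne_zero _), fun hn hl => ?_, fun hn hb hl => ?_⟩
  · rw [Al_triv R hm hn hl, Be_eq R hm, l_sq_triv R hn hl, Units.val_one] at hx
    rw [l_sq_triv R hn hl, inv_one, Units.val_one, mul_one]
    have h1 : (x - 1) * (x + (qq X i : ℂ)⁻¹) = 0 := by
      rw [one_div] at hx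
      linear_combination hx
    rcases mul_eq_zero.1 h1 with h2 | h2
    · left
      rw [sub_eq_zero.1 h2]
      ring
    · right
      rw [eq_neg_of_add_eq_zero_left h2]
      field_simp
  · rw [Al_bal R hm hn hb hl, Be_eq R hm, zero_mul, zero_add] at hx
    have h1 : (l ⟨n i * n i, R.sq_mem_T i⟩ : ℂ) ≠ 0 := Units.ne_zero _
    rw [hx, Units.val_inv_eq_inv_val]
    field_simp

end fin

end Cfsg.Agent.H985.VZ
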