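import Cfsg.Agent.H985.VZ.RankTwo

/-!
# S4842: the degree formula for a one-dimensional `V_l`, `l` arbitrary (helper985)

* `el_n_dual'`  : the dual step for `l' ↦ l = s_i l'`;
* `el_n_inv`    : `p_l n_i⁻¹ p_{l'} n_i v = v / q_i` for `l' = s_i l ≠ l`;
* `span_of_all` : `V_l = ℂ v` if `p_l g v ∈ ℂ v` for all representatives `g`;
* `degree_gen`  : `χ(1) ∑_w |B w B| c(w) = |Y|`, `c(w) = a b`, `p g v = a v`, `p g⁻¹ v = b v`.
-/

set_option autoImplicit false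
set_option linter.unusedSectionVars false

open Cfsg

namespace Cfsg.Agent.H985.VZ

open CoxeterSystem Cfsg.Agent.ChevalleyStructure.CoxeterGeom Cfsg.Agent.Tits.Roots Cfsg.Agent.Tits.Core
  Cfsg.Agent.Tits.Exchange Cfsg.Agent.Nodes.Reps Cfsg.Agent.Nodes.BNOf Cfsg.Agent.Nodes.StabComb
  Cfsg.Agent.Nodes.Bruhat Cfsg.Agent.Nodes.OppDec Cfsg.Agent.Nodes.LeviDec Module

universe u v

variable {I W : Type*} {Y : Type u} [Fintype I] [DecidableEq I] [Group W] [Group Y] {M : CoxeterMatrix I}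
  {cs : CoxeterSystem M W} {A : I → I → ℤ} {h : IsCartan M A} {p : ℕ} {T : Subgroup Y} {n : I → Y}
  {X : (I → ℤ) → Subgroup Y} (R : RGD cs h p T n X) [Finite W] [Finite Y] {V : Type v} [AddCommGroup V]
  [Module ℂ V] {ρ : Representation ℂ Y V}

include R

/-- the dual step -/
theorem el_n_dual' {i : I} {l l' : T →* ℂˣ} (hm : Mv cs R.nsys (cs.simple i) l' l) {v : V}
    (hv : v ∈ Vl cs h T X ρ l) {V' : Type*} [AddCommGroup V'] [Module ℂ V'] {Φ : V →ₗ[ℂ] V'}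
    (hΦ : ∀ x ∈ X (sr i), ∀ z, Φ (ρ x z) = Φ z) :
    Φ (el ρ (RGD.B cs h T X) (lamB R l') (ρ (n i)⁻¹ v)) = Φ (ρ (n i)⁻¹ v) := by
  classical
  let _ : Fintype (RGD.B cs h T X) := Fintype.ofFinite _
  have hvB := hv
  rw [Vl_eq R] at hvB
  rw [el_apply ρ _ (lamB R l'), map_smul, map_sum]
  have key : ∀ b : RGD.B cs h T X, Φ (((lamB R l' b)⁻¹ : ℂˣ).val • ρ b (ρ (n i)⁻¹ v)) = Φ (ρ (n i)⁻¹ v) := by
    intro b
    obtain ⟨x, hx, y, hy, t, ht, e⟩ := mem_B_left R i b.2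
    have hn1 : n i * y * (n i)⁻¹ ∈ RGD.Sup X (RGD.PosNe cs h i) := by
      rw [← R.cj_n_V i]
      exact conj_mem_cj.2 hy
    have hn2 : n i * t * (n i)⁻¹ ∈ T := (Subgroup.mem_normalizer_iff.1 (R.nsys.norm i) t).1 ht
    have hc : y * t ∈ RGD.B cs h T X := mul_mem (PosNe_le_B i hy) (RGD.T_le_B ht)
    have hcB : n i * (y * t) * (n i)⁻¹ ∈ RGD.B cs h T X := by
      have h3 : n i * (y * t) * (n i)⁻¹ = (n i * y * (n i)⁻¹) * (n i * t * (n i)⁻¹) := by group
      rw [h3]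
      exact mul_mem (PosNe_le_B i hn1) (RGD.T_le_B hn2)
    have hxU : x ∈ RGD.Sup X (RGD.Pos cs h) := X_le_U' R i hx
    have e2 : lamB R l' b = lamB R l' ⟨y * t, hc⟩ := by
      have h3 : b = ⟨x, RGD.U_le_B hxU⟩ * ⟨y * t, hc⟩ := Subtype.ext e
      rw [h3, map_mul, lamB_U R l' hxU, one_mul]
    have e4 : lamB R l ⟨n i * (y * t) * (n i)⁻¹, hcB⟩ = lamB R l' ⟨y * t, hc⟩ :=
      lamB_conj R (rp_simple cs R.nsys i) hm rfl
    have e3 : ρ b (ρ (n i)⁻¹ v) = ρ x (ρ (n i)⁻¹ (ρ (n i * (y * t) * (n i)⁻¹) v)) := by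
      rw [e, ← Module.End.mul_apply, ← map_mul, ← Module.End.mul_apply, ← map_mul, ← Module.End.mul_apply, ← map_mul]
      congr 2
      group
    have e5 := hvB ⟨_, hcB⟩
    change ρ (n i * (y * t) * (n i)⁻¹) v = _ at e5
    rw [e3, map_smul, hΦ x hx, e5, map_smul, map_smul, e4, e2, smul_smul, Units.inv_mul, one_smul]
  rw [Finset.sum_congr rfl fun b _ => key b, Finset.sum_const, Finset.card_univ, ← Nat.card_eq_fintype_card,
    ← Nat.cast_smul_eq_nsmul ℂ, smul_smul, inv_mul_cancel₀ (card_ne _), one_smul]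

/-- the projection followed by the inverse of a representative -/
theorem el_rho_inv_X {i : I} {w : W} {g : Y} (hg : Rp cs R.nsys w g) (h3 : 0 ≤ rep cs h w⁻¹ (sr i)) (l : T →* ℂˣ) {y : Y}
    (hy : y ∈ X (sr i)) (z : V) : el ρ (RGD.B cs h T X) (lamB R l) (ρ g⁻¹ (ρ y z)) =
      el ρ (RGD.B cs h T X) (lamB R l) (ρ g⁻¹ z) := by
  have h5 : g⁻¹ * y * g ∈ RGD.Sup X (RGD.Pos cs h) :=
    RGD.le_Sup (S := RGD.Pos cs h) ⟨(isRoot_sr cs h i).act _, h3⟩ (R.conj_mem' hg (isRoot_sr cs h i) hy)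
  have h6 := el_rho ρ (RGD.B cs h T X) (lamB R l) ⟨_, RGD.U_le_B h5⟩ (ρ g⁻¹ z)
  rw [lamB_U R l h5, Units.val_one, one_smul] at h6
  rw [← h6]
  change _ = el ρ (RGD.B cs h T X) (lamB R l) (ρ (g⁻¹ * y * g) (ρ g⁻¹ z))
  congr 1
  rw [← Module.End.mul_apply, ← map_mul, ← Module.End.mul_apply, ← map_mul]
  congr 2
  group

/-- `p_l g⁻¹ p_{l'} n_i⁻¹ v = p_l g⁻¹ n_i⁻¹ v` if `w⁻¹ α_i > 0`, `l' = s_i l` -/
theorem el_mul_inv {i : I} {w : W} {g : Y} (hg : Rp cs R.nsys w g) (h3 : 0 ≤ rep cs h w⁻¹ (sr i)) {l l' l'' : T →* ℂˣ}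
    (hm : Mv cs R.nsys (cs.simple i) l' l) {v : V} (hv : v ∈ Vl cs h T X ρ l) :
    el ρ (RGD.B cs h T X) (lamB R l'') (ρ g⁻¹ (el ρ (RGD.B cs h T X) (lamB R l') (ρ (n i)⁻¹ v))) =
      el ρ (RGD.B cs h T X) (lamB R l'') (ρ (n i * g)⁻¹ v) := by
  rw [mul_inv_rev, map_mul, Module.End.mul_apply]
  exact el_n_dual' R hm hv (Φ := el ρ (RGD.B cs h T X) (lamB R l'') * ρ g⁻¹) fun y hy z => el_rho_inv_X R hg h3 l'' hy z

/-- the number of `b ∈ B` with `n⁻¹ b n ∈ B` -/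
theorem card_conj (i : I) : qq X i * Nat.card {b : RGD.B cs h T X // (n i)⁻¹ * b * n i ∈ RGD.B cs h T X} =
    Nat.card (RGD.B cs h T X) := by
  classical
  let _ : Fintype (RGD.B cs h T X) := Fintype.ofFinite _
  let _ : Fintype (X (sr i)) := Fintype.ofFinite _
  let j : X (sr i) →* RGD.B cs h T X := Subgroup.inclusion (X_le_B' R i)
  have hiff : ∀ x ∈ X (sr i), ((n i)⁻¹ * x * n i ∈ RGD.B cs h T X ↔ x = 1) := by
    intro x hx
    constructor
    · intro h1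
      have h2 : (n i)⁻¹ * x * (n i)⁻¹⁻¹ ∈ RGD.B cs h T X := by rwa [inv_inv]
      have h3 := (rp_simple cs R.nsys i).inv
      rw [cs.inv_simple] at h3
      exact eq_one_of_conj_mem_B R hx h3 h2
    · rintro rfl
      rw [mul_one, inv_mul_cancel]
      exact one_mem _
  have hbij : ∀ b : RGD.B cs h T X, ∃ x0 : X (sr i), ∃ c ∈ RGD.B cs h T X, (b : Y)⁻¹ = (x0 : Y) * c ∧
      (n i)⁻¹ * c * n i ∈ RGD.B cs h T X := by
    intro b
    obtain ⟨x, hx, y, hy, t, ht, e⟩ := mem_B_left R i (inv_mem b.2)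
    refine ⟨⟨x, hx⟩, y * t, mul_mem (PosNe_le_B i hy) (RGD.T_le_B ht), e, ?_⟩
    have h3 : (n i)⁻¹ * (y * t) * n i = ((n i)⁻¹ * y * n i) * ((n i)⁻¹ * t * n i) := by group
    rw [h3]
    exact mul_mem (PosNe_le_B i (conj_inv_mem_PosNe R hy)) (RGD.T_le_B (conj_inv_mem_T R i ht))
  have h1 := avg_sum j (fun b => if (n i)⁻¹ * (b : Y)⁻¹ * n i ∈ RGD.B cs h T X then (1 : ℂ) else 0) fun b => by
    obtain ⟨x0, c, hc, e, hcn⟩ := hbij b
    refine ⟨x0⁻¹, fun x => ?_⟩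
    have h2 : ((n i)⁻¹ * ((b * j x : RGD.B cs h T X) : Y)⁻¹ * n i ∈ RGD.B cs h T X) ↔
        ((n i)⁻¹ * ((j (x0⁻¹ * x) : RGD.B cs h T X) : Y)⁻¹ * n i ∈ RGD.B cs h T X) := by
      have h3 : (n i)⁻¹ * ((b * j x : RGD.B cs h T X) : Y)⁻¹ * n i =
          ((n i)⁻¹ * ((j (x0⁻¹ * x) : RGD.B cs h T X) : Y)⁻¹ * n i) * ((n i)⁻¹ * c * n i) := by
        change (n i)⁻¹ * ((b : Y) * x)⁻¹ * n i = ((n i)⁻¹ * ((x0 : Y)⁻¹ * x)⁻¹ * n i) * ((n i)⁻¹ * c * n i)
        rw [mul_inv_rev, e]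
        group
      rw [h3]
      exact Subgroup.mul_mem_cancel_right _ hcn
    simp only [h2]
  have h2 : ∑ x : X (sr i), (if (n i)⁻¹ * ((j x : RGD.B cs h T X) : Y)⁻¹ * n i ∈ RGD.B cs h T X then (1 : ℂ) else 0) = 1 := by
    rw [Finset.sum_eq_single (1 : X (sr i))]
    · rw [if_pos]
      rw [map_one, Subgroup.coe_one, inv_one, mul_one, inv_mul_cancel]
      exact one_mem _
    · intro x _ hx
      rw [if_neg]
      intro h3
      apply hx
      have h4 := (hiff (x : Y)⁻¹ (inv_mem x.2)).1 h3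
      exact Subtype.ext (inv_eq_one.1 h4)
    · intro h3
      exact absurd (Finset.mem_univ _) h3
  rw [h2, mul_one, ← Finset.sum_filter, Finset.sum_const, nsmul_eq_mul, mul_one] at h1
  have h3 : (Finset.univ.filter fun b : RGD.B cs h T X => (n i)⁻¹ * (b : Y)⁻¹ * n i ∈ RGD.B cs h T X).card =
      Nat.card {b : RGD.B cs h T X // (n i)⁻¹ * b * n i ∈ RGD.B cs h T X} := by
    rw [Nat.card_eq_fintype_card (α := {b : RGD.B cs h T X // _}), Fintype.card_subtype]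
    refine Finset.card_bij (fun b _ => b⁻¹) ?_ (fun a _ b _ hab => inv_injective hab) ?_
    · intro b hb
      rw [Finset.mem_filter] at hb ⊢
      exact ⟨Finset.mem_univ _, hb.2⟩
    · intro b hb
      rw [Finset.mem_filter] at hb
      refine ⟨b⁻¹, ?_, inv_inv b⟩
      rw [Finset.mem_filter]
      refine ⟨Finset.mem_univ _, ?_⟩
      rw [Subgroup.coe_inv, inv_inv]
      exact hb.2
  rw [h3] at h1
  have h4 : (Fintype.card (X (sr i)) : ℂ) = qq X i := by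
    unfold qq
    rw [Nat.card_eq_fintype_card]
  rw [h4, ← Nat.card_eq_fintype_card (α := RGD.B cs h T X)] at h1
  exact_mod_cast h1

/-- `p_l n_i⁻¹ p_{l'} n_i v = v / q_i` for `v ∈ V_l`, `l' = s_i l ≠ l` -/
theorem el_n_inv {i : I} {l l' : T →* ℂˣ} (hm : Mv cs R.nsys (cs.simple i) l l') (hne : l ≠ l') {v : V}
    (hv : v ∈ Vl cs h T X ρ l) :
    el ρ (RGD.B cs h T X) (lamB R l) (ρ (n i)⁻¹ (el ρ (RGD.B cs h T X) (lamB R l') (ρ (n i) v))) =
      (qq X i : ℂ)⁻¹ • v := by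
  classical
  let _ : Fintype (RGD.B cs h T X) := Fintype.ofFinite _
  have hnm : ¬ Mv cs R.nsys (cs.simple i) l l := fun h => hne (h.unique hm)
  rw [el_apply ρ _ (lamB R l'), map_smul, map_smul, map_sum, map_sum, ← Finset.sum_filter_add_sum_filter_not
    Finset.univ (fun b : RGD.B cs h T X => (n i)⁻¹ * b * n i ∈ RGD.B cs h T X)]
  have e1 : ∀ b ∈ Finset.univ.filter (fun b : RGD.B cs h T X => (n i)⁻¹ * b * n i ∈ RGD.B cs h T X),
      el ρ (RGD.B cs h T X) (lamB R l) (ρ (n i)⁻¹ (((lamB R l' b)⁻¹ : ℂˣ).val • ρ b (ρ (n i) v))) = v := by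
    intro b hb
    have hb' := (Finset.mem_filter.1 hb).2
    rw [map_smul, map_smul, show ρ (n i)⁻¹ (ρ b (ρ (n i) v)) = ρ ((n i)⁻¹ * b * n i) v by
      rw [map_mul, map_mul]; rfl]
    have h2 : lamB R l' b = lamB R l ⟨(n i)⁻¹ * b * n i, hb'⟩ :=
      lamB_conj R (rp_simple cs R.nsys i) hm (b := ⟨_, hb'⟩) (by
        change (b : Y) = n i * ((n i)⁻¹ * b * n i) * (n i)⁻¹
        group)
    rw [Vl_eq R] at hv
    have h3 := hv ⟨(n i)⁻¹ * b * n i, hb'⟩
    change ρ ((n i)⁻¹ * b * n i) v = _ at h3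
    rw [h3, map_smul, el_of_mem hv, smul_smul, h2, Units.inv_mul, one_smul]
  have e2 : ∀ b ∈ Finset.univ.filter (fun b : RGD.B cs h T X => ¬ (n i)⁻¹ * b * n i ∈ RGD.B cs h T X),
      el ρ (RGD.B cs h T X) (lamB R l) (ρ (n i)⁻¹ (((lamB R l' b)⁻¹ : ℂˣ).val • ρ b (ρ (n i) v))) = 0 := by
    intro b hb
    have hb' := (Finset.mem_filter.1 hb).2
    have h2 : (n i)⁻¹ * b * n i ∈ PJ cs h T X {i} :=
      mul_mem (mul_mem (inv_mem (n_mem_Pi R i)) (B_le_PJ b.2)) (n_mem_Pi R i)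
    obtain ⟨w, hw, b₁, hb₁, g, hg, b₂, hb₂, e⟩ := (mem_PJ_iff_cell R).1 h2
    have hw' : w = cs.simple i := by
      rcases mem_WJ_single hw with h3 | h3
      · exfalso
        apply hb'
        subst h3
        rw [e]
        exact mul_mem (mul_mem hb₁ (RGD.T_le_B hg.mem_of_one)) hb₂
      · exact h3
    subst hw'
    rw [map_smul, map_smul, show ρ (n i)⁻¹ (ρ b (ρ (n i) v)) = ρ ((n i)⁻¹ * b * n i) v by
      rw [map_mul, map_mul]; rfl, e, map_mul, map_mul, Module.End.mul_apply, Module.End.mul_apply]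
    have hv' := hv
    rw [Vl_eq R] at hv'
    have h3 := hv' ⟨b₂, hb₂⟩
    change ρ b₂ v = _ at h3
    have h4 := el_rho ρ (RGD.B cs h T X) (lamB R l) ⟨b₁, hb₁⟩ (ρ g v)
    change el ρ _ _ (ρ b₁ (ρ g v)) = _ at h4
    rw [h3, map_smul, map_smul, map_smul, h4, el_rho_eq_zero R hg hnm hv, smul_zero, smul_zero, smul_zero]
  rw [Finset.sum_congr rfl e1, Finset.sum_congr rfl e2, Finset.sum_const_zero, add_zero, Finset.sum_const,
    ← Nat.cast_smul_eq_nsmul ℂ, smul_smul]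
  congr 1
  have h1 := card_conj R i
  have h2 : Nat.card {b : RGD.B cs h T X // (n i)⁻¹ * b * n i ∈ RGD.B cs h T X} =
      (Finset.univ.filter fun b : RGD.B cs h T X => (n i)⁻¹ * b * n i ∈ RGD.B cs h T X).card := by
    rw [Nat.card_eq_fintype_card (α := {b : RGD.B cs h T X // _}), Fintype.card_subtype]
  rw [h2] at h1
  have h3 : (Nat.card (RGD.B cs h T X) : ℂ) ≠ 0 := card_ne _
  have h4 := qq_pos (X := X) R i
  have h5 : (qq X i : ℂ) * (Finset.univ.filter fun b : RGD.B cs h T X => (n i)⁻¹ * b * n i ∈ RGD.B cs h T X).card =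
      Nat.card (RGD.B cs h T X) := by exact_mod_cast h1
  field_simp
  linear_combination h5

/-- `V_l = ℂ v` if `p g v ∈ ℂ v` for all representatives -/
theorem span_of_all (hG : GG cs h T X = ⊤) (hρ : ρ.IsIrreducible) {l : T →* ℂˣ} {v : V} (hv : v ∈ Vl cs h T X ρ l)
    (hv0 : v ≠ 0) (hall : ∀ w, ∃ g, Rp cs R.nsys w g ∧ ∃ c : ℂ, el ρ (RGD.B cs h T X) (lamB R l) (ρ g v) = c • v) :
    Vl cs h T X ρ l = ℂ ∙ v := by
  have hvB := hv
  rw [Vl_eq R] at hvB
  apply le_antisymm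
  · let Z : Subrepresentation ρ :=
      { toSubmodule := Submodule.span ℂ {x | ∃ g : Y, x = ρ g v}
        apply_mem_toSubmodule := fun g v' hv' => by
          refine Submodule.span_induction (p := fun v' _ => ρ g v' ∈ Submodule.span ℂ {x | ∃ g : Y, x = ρ g v})
            ?_ ?_ ?_ ?_ hv'
          · rintro _ ⟨k, rfl⟩
            refine Submodule.subset_span ⟨g * k, ?_⟩
            rw [map_mul, Module.End.mul_apply]
          · rw [map_zero]
            exact Submodule.zero_mem _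
          · intro x y _ _ hx hy
            rw [map_add]
            exact Submodule.add_mem _ hx hy
          · intro a x _ hx
            rw [map_smul]
            exact Submodule.smul_mem _ _ hx }
    have hZ : Z.toSubmodule = ⊤ := by
      rcases hρ.2 Z with h1 | h1
      · exfalso
        apply hv0
        have h2 : v ∈ Z.toSubmodule := Submodule.subset_span ⟨1, by rw [map_one, Module.End.one_apply]⟩
        rw [h1] at h2
        exact h2
      · rw [h1]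
        rfl
    intro x hx
    rw [Vl_eq R] at hx
    rw [← el_of_mem hx]
    have h1 : x ∈ Z.toSubmodule := by rw [hZ]; exact Submodule.mem_top
    refine Submodule.span_induction (p := fun x _ => el ρ (RGD.B cs h T X) (lamB R l) x ∈ (ℂ ∙ v)) ?_ ?_ ?_ ?_ h1
    · rintro _ ⟨k, rfl⟩
      obtain ⟨w, b₁, hb₁, g', hg', b₂, hb₂, rfl⟩ := (mem_GG R).1 (show k ∈ GG cs h T X by rw [hG]; exact Subgroup.mem_top k)
      obtain ⟨g, hg, c, hc⟩ := hall w
      have h2 : g⁻¹ * g' ∈ T := hg.unique hg'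
      have h6 : g⁻¹ * g' * b₂ ∈ RGD.B cs h T X := mul_mem (RGD.T_le_B h2) hb₂
      have h3 := hvB ⟨_, h6⟩
      change ρ (g⁻¹ * g' * b₂) v = _ at h3
      have h4 := el_rho ρ (RGD.B cs h T X) (lamB R l) ⟨b₁, hb₁⟩ (ρ g v)
      change el ρ _ _ (ρ b₁ (ρ g v)) = _ at h4
      rw [show b₁ * g' * b₂ = b₁ * (g * (g⁻¹ * g' * b₂)) by group, map_mul, map_mul, Module.End.mul_apply,
        Module.End.mul_apply, h3, map_smul, map_smul, map_smul, h4, hc, smul_smul, smul_smul]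
      exact Submodule.smul_mem _ _ (Submodule.mem_span_singleton_self v)
    · rw [map_zero]
      exact Submodule.zero_mem _
    · intro x y _ _ hx hy
      rw [map_add]
      exact Submodule.add_mem _ hx hy
    · intro a x _ hx
      rw [map_smul]
      exact Submodule.smul_mem _ _ hx
  · rw [Submodule.span_singleton_le_iff_mem]
    exact hv

/-- **the degree formula**, general `l` -/
theorem degree_gen [FiniteDimensional ℂ V] [Fintype W] (hG : GG cs h T X = ⊤) (hρ : ρ.IsIrreducible) {l : T →* ℂˣ}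
    {v : V} (hv0 : v ≠ 0) (hE : Vl cs h T X ρ l = ℂ ∙ v) {c : W → ℂ}
    (hc : ∀ w, ∃ g, Rp cs R.nsys w g ∧ ∃ a b : ℂ, el ρ (RGD.B cs h T X) (lamB R l) (ρ g v) = a • v ∧
      el ρ (RGD.B cs h T X) (lamB R l) (ρ g⁻¹ v) = b • v ∧ c w = a * b) :
    ρ.character 1 * ∑ w, (Nat.card {g : Y // Cell R.nsys cs h X w g} : ℂ) * c w = Nat.card Y := by
  classical
  let _ : Fintype Y := Fintype.ofFinite Y
  have hv : v ∈ Vl cs h T X ρ l := by rw [hE]; exact Submodule.mem_span_singleton_self v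
  have hvB := hv
  rw [Vl_eq R] at hvB
  set P := el ρ (RGD.B cs h T X) (lamB R l) with hP
  have hex : ∀ g : Y, ∃ c : ℂ, P (ρ g v) = c • v := by
    intro g
    have h1 : P (ρ g v) ∈ Vl cs h T X ρ l := by rw [Vl_eq R]; exact el_mem _ _ _ _
    rw [hE] at h1
    obtain ⟨c, hc⟩ := Submodule.mem_span_singleton.1 h1
    exact ⟨c, hc.symm⟩
  choose f hfv using hex
  have hinj : ∀ {a b : ℂ}, a • v = b • v → a = b := fun {a b} hab => by
    have h1 : (a - b) • v = 0 := by rw [sub_smul, hab, sub_self]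
    rcases smul_eq_zero.1 h1 with h2 | h2
    · exact sub_eq_zero.1 h2
    · exact absurd h2 hv0
  have hfl : ∀ (b : RGD.B cs h T X) (g : Y), f (b * g) = (lamB R l b : ℂ) * f g := by
    intro b g
    apply hinj
    rw [← hfv, mul_smul, ← hfv g, map_mul, Module.End.mul_apply, el_rho]
  have hfr : ∀ (b : RGD.B cs h T X) (g : Y), f (g * b) = f g * (lamB R l b : ℂ) := by
    intro b g
    apply hinj
    rw [← hfv, mul_comm, mul_smul, ← hfv g, map_mul, Module.End.mul_apply, hvB b, map_smul, map_smul]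
  have hφ : ∀ (b b' : RGD.B cs h T X) (g : Y), f (b * g * b') * f (b * g * b')⁻¹ = f g * f g⁻¹ := by
    intro b b' g
    have h1 : ((b : Y) * g * b')⁻¹ = ((b'⁻¹ : RGD.B cs h T X) : Y) * g⁻¹ * ((b⁻¹ : RGD.B cs h T X) : Y) := by
      rw [Subgroup.coe_inv, Subgroup.coe_inv]
      group
    rw [h1, hfr b', hfl b, hfr, hfl, map_inv, map_inv]
    have h2 : (lamB R l b : ℂ) ≠ 0 := Units.ne_zero _
    have h3 : (lamB R l b' : ℂ) ≠ 0 := Units.ne_zero _
    rw [Units.val_inv_eq_inv_val, Units.val_inv_eq_inv_val]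
    field_simp
  have hcell : ∀ w g, Cell R.nsys cs h X w g → f g * f g⁻¹ = c w := by
    rintro w _ ⟨b₁, hb₁, k, hk, b₂, hb₂, rfl⟩
    obtain ⟨g, hg, a, b, ha, hb, e⟩ := hc w
    have h1 : g⁻¹ * k ∈ T := hg.unique hk
    have h2 : b₁ * k * b₂ = ((⟨b₁, hb₁⟩ : RGD.B cs h T X) : Y) * g *
        ((⟨g⁻¹ * k * b₂, mul_mem (RGD.T_le_B h1) hb₂⟩ : RGD.B cs h T X) : Y) := by
      change b₁ * k * b₂ = b₁ * g * (g⁻¹ * k * b₂)
      group
    rw [h2, hφ, e, hinj ((hfv g).symm.trans ha), hinj ((hfv g⁻¹).symm.trans hb)]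
  have hYc : ∀ g : Y, ∃ w, Cell R.nsys cs h X w g := fun g => (mem_GG R).1 (by rw [hG]; exact Subgroup.mem_top g)
  choose wd hwd using hYc
  have hsum : ∑ g : Y, f g * f g⁻¹ = ∑ w, (Nat.card {g : Y // Cell R.nsys cs h X w g} : ℂ) * c w := by
    rw [← Finset.sum_fiberwise Finset.univ wd]
    refine Finset.sum_congr rfl fun w _ => ?_
    have h1 : ∀ g ∈ Finset.univ.filter (fun g => wd g = w), f g * f g⁻¹ = c w := by
      intro g hg
      have h2 := (Finset.mem_filter.1 hg).2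
      exact hcell w g (h2 ▸ hwd g)
    rw [Finset.sum_congr rfl h1, Finset.sum_const, nsmul_eq_mul, Nat.card_eq_fintype_card, Fintype.card_subtype]
    congr 3
    ext g
    simp only [Finset.mem_filter, Finset.mem_univ, true_and]
    exact ⟨fun h2 => h2 ▸ hwd g, fun h2 => Cell.unique R (hwd g) h2⟩
  obtain ⟨d, hd⟩ := schur hρ (f := RkOne.ss ρ (RGD.B cs h T X) (lamB R l)) fun g v => RkOne.ss_comm g v
  have h1 : RkOne.ss ρ (RGD.B cs h T X) (lamB R l) = d • 1 := LinearMap.ext fun v => hd v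
  have h2 := RkOne.trace_ss (ρ := ρ) (B := RGD.B cs h T X) (l := lamB R l)
  rw [← Vl_eq R, hE, finrank_span_singleton hv0, h1, map_smul, smul_eq_mul, Nat.cast_one, mul_one] at h2
  have h3 : LinearMap.trace ℂ V 1 = ρ.character 1 := by
    change _ = LinearMap.trace ℂ V (ρ 1)
    rw [show ρ 1 = 1 from map_one ρ]
  rw [h3] at h2
  have h4 : d = (Nat.card (RGD.B cs h T X) : ℂ)⁻¹ * ∑ g : Y, f g * f g⁻¹ := by
    apply hinj
    have h5 : P (RkOne.ss ρ (RGD.B cs h T X) (lamB R l) v) = d • v := by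
      rw [hd v, map_smul, el_of_mem hvB]
    rw [← h5]
    unfold RkOne.ss
    rw [finsum_eq_sum_of_fintype, LinearMap.smul_apply, LinearMap.sum_apply, map_smul, map_sum, mul_smul,
      Finset.sum_smul]
    congr 1
    refine Finset.sum_congr rfl fun g _ => ?_
    rw [Module.End.mul_apply, Module.End.mul_apply, ← hP, hfv g⁻¹, map_smul, map_smul, hfv g, smul_smul, mul_comm]
  rw [h4, hsum] at h2
  have hB0 : (Nat.card (RGD.B cs h T X) : ℂ) ≠ 0 := card_ne _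
  field_simp at h2
  rw [mul_comm]
  exact h2

end Cfsg.Agent.H985.VZ
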