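import Cfsg.Agent.H985.VZ.DegGen

/-!
# S4842: `G₂`, the quadratic characters of the torus (helper985)

* `g2_quad` : `M a b = 6`, `l₀`, `l₁ = s_b l₀ ≠ l₀`, `l₂ = s_a l₁ ≠ l₁`, `s_a l₀ = l₀`, `s_b l₂ = l₂`, `l₀` trivial on
  `T ∩ L_a`, `l₂` trivial on `T ∩ L_b`, `V_{l₀} ≠ 0`: `χ(1) (1 + y) (1 + z) = (1 + q_a) (1 + q_b) (1 + q_a q_b + (q_a q_b)²)`,
  `y ∈ {q_a, 1/q_a}`, `z ∈ {q_b, 1/q_b}`.
-/

set_option autoImplicit false
set_option linter.unusedSectionVars false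

open Cfsg

namespace Cfsg.Agent.H985.VZ

open CoxeterSystem Cfsg.Agent.ChevalleyStructure.CoxeterGeom Cfsg.Agent.Tits.Roots Cfsg.Agent.Tits.Core
  Cfsg.Agent.Tits.Exchange Cfsg.Agent.Nodes.Reps Cfsg.Agent.Nodes.BNOf Cfsg.Agent.Nodes.StabComb
  Cfsg.Agent.Nodes.Bruhat Cfsg.Agent.Nodes.OppDec Cfsg.Agent.Nodes.LeviDec Module

universe u v

section dih

variable {I W : Type*} [Fintype I] [DecidableEq I] [Group W] {M : CoxeterMatrix I} (cs : CoxeterSystem M W)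

/-- the elements of a dihedral group -/
theorem ua_all {a b : I} (hI : ∀ i, i = a ∨ i = b) {N : ℕ} (hN0 : 0 < N) (hm : M a b = N) (w : W) :
    ∃ k, k ≤ N ∧ (w = ua cs a b k ∨ w = ua cs b a k) := by
  have hM : M b a = N := by rw [M.symmetric, hm]
  have hstep : ∀ (a b : I), M a b = N → ∀ w, (∃ k, k ≤ N ∧ (w = ua cs a b k ∨ w = ua cs b a k)) →
      ∃ k, k ≤ N ∧ (cs.simple a * w = ua cs a b k ∨ cs.simple a * w = ua cs b a k) := by
    rintro a b hm w ⟨k, hk, h2 | h2⟩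
    · rcases Nat.eq_zero_or_pos k with h3 | h3
      · subst h3
        refine ⟨1, by omega, Or.inl ?_⟩
        rw [h2]
        rfl
      · refine ⟨k - 1, by omega, Or.inr ?_⟩
        rw [h2]
        conv_lhs => rw [show k = (k - 1) + 1 by omega]
        rw [ua_succ, cs.simple_mul_simple_cancel_left]
    · rcases Nat.lt_or_ge k N with h3 | h3
      · refine ⟨k + 1, by omega, Or.inl ?_⟩
        rw [h2, ua_succ]
      · have h4 : k = N := le_antisymm hk h3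
        refine ⟨k - 1, by omega, Or.inr ?_⟩
        have h5 := ua_M cs a b
        rw [hm, ← h4] at h5
        rw [h2, ← h5]
        conv_lhs => rw [show k = (k - 1) + 1 by omega]
        rw [ua_succ, cs.simple_mul_simple_cancel_left]
  obtain ⟨ω, rfl⟩ := cs.wordProd_surjective w
  induction ω with
  | nil => exact ⟨0, by omega, Or.inl (by rw [wordProd_nil]; rfl)⟩
  | cons i ω ih =>
    rw [wordProd_cons]
    rcases hI i with rfl | rfl
    · exact hstep _ _ hm _ ih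
    · obtain ⟨k, hk, h2⟩ := ih
      obtain ⟨k', hk', h3⟩ := hstep _ _ hM _ ⟨k, hk, h2.symm⟩
      exact ⟨k', hk', h3.symm⟩

end dih

variable {I W : Type*} {Y : Type u} [Fintype I] [DecidableEq I] [Group W] [Group Y] {M : CoxeterMatrix I}
  {cs : CoxeterSystem M W} {A : I → I → ℤ} {h : IsCartan M A} {p : ℕ} {T : Subgroup Y} {n : I → Y}
  {X : (I → ℤ) → Subgroup Y} (R : RGD cs h p T n X) [Finite W] [Finite Y] {V : Type v} [AddCommGroup V]
  [Module ℂ V] {ρ : Representation ℂ Y V}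

/-- alternating products of the `n_i` -/
def gu (n : I → Y) (a b : I) : ℕ → Y
  | 0 => 1
  | k + 1 => n a * gu n b a k

omit [Fintype I] [DecidableEq I] in
theorem gu_succ (a b : I) (k : ℕ) : gu n a b (k + 1) = n a * gu n b a k := rfl

include R

theorem rp_gu (a b : I) (k : ℕ) : Rp cs R.nsys (ua cs a b k) (gu n a b k) := by
  induction k generalizing a b with
  | zero => exact rp_one
  | succ k ih =>
    rw [ua_succ, gu_succ]
    exact (rp_simple cs R.nsys a).mul (ih b a)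

theorem pos_ua {a b : I} (hab : a ≠ b) {k : ℕ} (hk : k + 1 ≤ M a b) : 0 ≤ rep cs h (ua cs b a k)⁻¹ (sr a) := by
  refine nonneg_of_lt cs h _ a ?_
  rw [cs.length_inv, ← cs.length_inv (_ * cs.simple a), mul_inv_rev, inv_inv, cs.inv_simple, ← ua_succ,
    length_ua cs h hab hk, length_ua cs h hab.symm (by rw [M.symmetric]; omega)]
  omega

/-- the step upwards -/
theorem el_gu {a b : I} (hab : a ≠ b) {k : ℕ} (hk : k + 1 ≤ M a b) {l' l'' : T →* ℂˣ}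
    (hm : Mv cs R.nsys (cs.simple a) l' l'') {v : V} (hv : v ∈ VU cs h X ρ) :
    el ρ (RGD.B cs h T X) (lamB R l'') (ρ (gu n a b (k + 1)) v) =
      el ρ (RGD.B cs h T X) (lamB R l'') (ρ (n a) (el ρ (RGD.B cs h T X) (lamB R l') (ρ (gu n b a k) v))) := by
  rw [el_n R hm (rho_fx_X R (rp_gu R b a k) (isRoot_sr cs h a) (pos_ua R hab hk) hv), gu_succ, map_mul,
    Module.End.mul_apply]

/-- the step downwards -/
theorem el_gu_inv {a b : I} (hab : a ≠ b) {k : ℕ} (hk : k + 1 ≤ M a b) {l l' l'' : T →* ℂˣ}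
    (hm : Mv cs R.nsys (cs.simple a) l' l) {v : V} (hv : v ∈ Vl cs h T X ρ l) :
    el ρ (RGD.B cs h T X) (lamB R l'') (ρ (gu n a b (k + 1))⁻¹ v) =
      el ρ (RGD.B cs h T X) (lamB R l'') (ρ (gu n b a k)⁻¹ (el ρ (RGD.B cs h T X) (lamB R l') (ρ (n a)⁻¹ v))) := by
  rw [el_mul_inv R (rp_gu R b a k) (pos_ua R hab hk) hm hv, gu_succ]

omit R in
theorem el_mem_Vl (R : RGD cs h p T n X) (l : T →* ℂˣ) (v : V) : el ρ (RGD.B cs h T X) (lamB R l) v ∈ Vl cs h T X ρ l := by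
  rw [Vl_eq R]
  exact el_mem _ _ _ _

theorem el_of_Vl {l : T →* ℂˣ} {v : V} (hv : v ∈ Vl cs h T X ρ l) : el ρ (RGD.B cs h T X) (lamB R l) v = v := by
  rw [Vl_eq R] at hv
  exact el_of_mem hv

/-- `p_{l''} n_i v = l(n_i²) p_{l''} n_i⁻¹ v` -/
theorem el_n_eq_inv {i : I} {l l'' : T →* ℂˣ} {v : V} (hv : v ∈ Vl cs h T X ρ l) :
    el ρ (RGD.B cs h T X) (lamB R l'') (ρ (n i) v) = (l ⟨n i * n i, R.sq_mem_T i⟩ : ℂ) •
      el ρ (RGD.B cs h T X) (lamB R l'') (ρ (n i)⁻¹ v) := by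
  have h1 : ρ (n i * n i) v = (l ⟨n i * n i, R.sq_mem_T i⟩ : ℂ) • v := hv.2 ⟨n i * n i, R.sq_mem_T i⟩
  have h2 : ρ (n i) v = ρ (n i)⁻¹ (ρ (n i * n i) v) := by
    rw [← Module.End.mul_apply, ← map_mul]
    congr 2
    group
  rw [h2, h1, map_smul, map_smul]

/-- `p_l n_i⁻¹ v = l(n_i²)⁻¹ p_l n_i v` -/
theorem el_inv_eq {i : I} {l l'' : T →* ℂˣ} {v : V} (hv : v ∈ Vl cs h T X ρ l) :
    el ρ (RGD.B cs h T X) (lamB R l'') (ρ (n i)⁻¹ v) = ((l ⟨n i * n i, R.sq_mem_T i⟩)⁻¹ : ℂˣ).val •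
      el ρ (RGD.B cs h T X) (lamB R l'') (ρ (n i) v) := by
  rw [el_n_eq_inv R hv, smul_smul, Units.inv_mul, one_smul]

/-- the number of elements of an alternating cell -/
theorem card_ua {a b : I} (hab : a ≠ b) (k : ℕ) (hk : k + 1 ≤ M a b) :
    Nat.card {g : Y // Cell R.nsys cs h X (ua cs a b (k + 1)) g} =
      qq X a * Nat.card {g : Y // Cell R.nsys cs h X (ua cs b a k) g} := by
  rw [ua_succ]
  refine card_cell_simple R ?_
  rw [← ua_succ, length_ua cs h hab hk, length_ua cs h hab.symm (by rw [M.symmetric]; omega)]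
  omega

section quad

variable {a b : I} {l₀ l₁ l₂ : T →* ℂˣ}

/-- the operator of the reflection `s_b s_a s_b s_a s_b` on `V_{l₀}` -/
noncomputable def Cq (ρ : Representation ℂ Y V) (a b : I) (l₀ l₁ l₂ : T →* ℂˣ) (v : V) : V :=
  el ρ (RGD.B cs h T X) (lamB R l₀) (ρ (n b) (el ρ (RGD.B cs h T X) (lamB R l₁) (ρ (n a)
    (el ρ (RGD.B cs h T X) (lamB R l₂) (ρ (n b) (el ρ (RGD.B cs h T X) (lamB R l₂) (ρ (n a)
      (el ρ (RGD.B cs h T X) (lamB R l₁) (ρ (n b) v)))))))))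

/-- the operator of the inverse -/
noncomputable def Cq' (ρ : Representation ℂ Y V) (a b : I) (l₀ l₁ l₂ : T →* ℂˣ) (v : V) : V :=
  el ρ (RGD.B cs h T X) (lamB R l₀) (ρ (n b)⁻¹ (el ρ (RGD.B cs h T X) (lamB R l₁) (ρ (n a)⁻¹
    (el ρ (RGD.B cs h T X) (lamB R l₂) (ρ (n b)⁻¹ (el ρ (RGD.B cs h T X) (lamB R l₂) (ρ (n a)⁻¹
      (el ρ (RGD.B cs h T X) (lamB R l₁) (ρ (n b)⁻¹ v)))))))))

theorem cq_eq (hab : a ≠ b) (hm : M a b = 6) (h01 : Mv cs R.nsys (cs.simple b) l₀ l₁)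
    (h12 : Mv cs R.nsys (cs.simple a) l₁ l₂) (h22 : Mv cs R.nsys (cs.simple b) l₂ l₂)
    {v : V} (hv : v ∈ VU cs h X ρ) :
    Cq R ρ a b l₀ l₁ l₂ v = el ρ (RGD.B cs h T X) (lamB R l₀) (ρ (gu n b a 5) v) := by
  have hm' : M b a = 6 := by rw [M.symmetric, hm]
  have h10 : Mv cs R.nsys (cs.simple b) l₁ l₀ := by simpa only [cs.inv_simple] using h01.inv
  have h21 : Mv cs R.nsys (cs.simple a) l₂ l₁ := by simpa only [cs.inv_simple] using h12.inv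
  unfold Cq
  rw [el_gu R hab.symm (k := 4) (by omega) h10 hv, el_gu R hab (k := 3) (by omega) h21 hv,
    el_gu R hab.symm (k := 2) (by omega) h22 hv, el_gu R hab (k := 1) (by omega) h12 hv]
  rw [show gu n b a 1 = n b by rw [gu_succ]; exact mul_one _]

theorem cq_inv_eq (hab : a ≠ b) (hm : M a b = 6) (h01 : Mv cs R.nsys (cs.simple b) l₀ l₁)
    (h12 : Mv cs R.nsys (cs.simple a) l₁ l₂) (h22 : Mv cs R.nsys (cs.simple b) l₂ l₂)
    {v : V} (hv : v ∈ Vl cs h T X ρ l₀) :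
    Cq' R ρ a b l₀ l₁ l₂ v = el ρ (RGD.B cs h T X) (lamB R l₀) (ρ (gu n b a 5)⁻¹ v) := by
  have hm' : M b a = 6 := by rw [M.symmetric, hm]
  have h10 : Mv cs R.nsys (cs.simple b) l₁ l₀ := by simpa only [cs.inv_simple] using h01.inv
  have h21 : Mv cs R.nsys (cs.simple a) l₂ l₁ := by simpa only [cs.inv_simple] using h12.inv
  unfold Cq'
  rw [el_gu_inv R hab.symm (k := 4) (by omega) h10 hv, el_gu_inv R hab (k := 3) (by omega) h21 (el_mem_Vl R _ _),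
    el_gu_inv R hab.symm (k := 2) (by omega) h22 (el_mem_Vl R _ _),
    el_gu_inv R hab (k := 1) (by omega) h12 (el_mem_Vl R _ _)]
  rw [show gu n b a 1 = n b by rw [gu_succ]; exact mul_one _]

/-- `C' C v = x_b² l₂(n_b²)⁻¹ (q_a q_b)⁻² v` -/
theorem cq_cq (h01 : Mv cs R.nsys (cs.simple b) l₀ l₁)
    (h12 : Mv cs R.nsys (cs.simple a) l₁ l₂) (hn0 : l₀ ≠ l₁) (hn1 : l₁ ≠ l₂)
    {v : V} (hv : v ∈ Vl cs h T X ρ l₀) {x : ℂ}
    (hx : el ρ (RGD.B cs h T X) (lamB R l₂) (ρ (n b) (el ρ (RGD.B cs h T X) (lamB R l₂) (ρ (n a)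
      (el ρ (RGD.B cs h T X) (lamB R l₁) (ρ (n b) v))))) = x • el ρ (RGD.B cs h T X) (lamB R l₂) (ρ (n a)
      (el ρ (RGD.B cs h T X) (lamB R l₁) (ρ (n b) v)))) :
    Cq' R ρ a b l₀ l₁ l₂ (Cq R ρ a b l₀ l₁ l₂ v) =
      (x ^ 2 * ((l₂ ⟨n b * n b, R.sq_mem_T b⟩)⁻¹ : ℂˣ).val * ((qq X a : ℂ)⁻¹ * (qq X b : ℂ)⁻¹) ^ 2) • v := by
  have h10 : Mv cs R.nsys (cs.simple b) l₁ l₀ := by simpa only [cs.inv_simple] using h01.inv
  have h21 : Mv cs R.nsys (cs.simple a) l₂ l₁ := by simpa only [cs.inv_simple] using h12.inv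
  unfold Cq Cq'
  rw [hx]
  have h2 : el ρ (RGD.B cs h T X) (lamB R l₂) (ρ (n a) (el ρ (RGD.B cs h T X) (lamB R l₁) (ρ (n b) v))) ∈
      Vl cs h T X ρ l₂ := el_mem_Vl R _ _
  rw [el_n_inv R h10 hn0.symm (el_mem_Vl R _ _)]
  simp only [map_smul]
  rw [el_n_inv R h21 hn1.symm h2]
  simp only [map_smul]
  rw [el_inv_eq R h2, hx]
  simp only [map_smul]
  rw [el_n_inv R h12 hn1 (el_mem_Vl R _ _)]
  simp only [map_smul]
  rw [el_n_inv R h01 hn0 hv]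
  simp only [smul_smul]
  congr 1
  ring

theorem cq_T (hab : a ≠ b) (hm : M a b = 6) (h01 : Mv cs R.nsys (cs.simple b) l₀ l₁)
    (h12 : Mv cs R.nsys (cs.simple a) l₁ l₂) (h22 : Mv cs R.nsys (cs.simple b) l₂ l₂)
    {v : V} (hv : v ∈ VU cs h X ρ) :
    Cq R ρ a b l₀ l₁ l₂ (el ρ (RGD.B cs h T X) (lamB R l₀) (ρ (n a) v)) =
      el ρ (RGD.B cs h T X) (lamB R l₀) (ρ (gu n b a 6) v) := by
  have hm' : M b a = 6 := by rw [M.symmetric, hm]
  have h10 : Mv cs R.nsys (cs.simple b) l₁ l₀ := by simpa only [cs.inv_simple] using h01.inv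
  have h21 : Mv cs R.nsys (cs.simple a) l₂ l₁ := by simpa only [cs.inv_simple] using h12.inv
  unfold Cq
  rw [el_gu R hab.symm (k := 5) (by omega) h10 hv, el_gu R hab (k := 4) (by omega) h21 hv,
    el_gu R hab.symm (k := 3) (by omega) h22 hv, el_gu R hab (k := 2) (by omega) h12 hv,
    el_gu R hab.symm (k := 1) (by omega) h01 hv]
  rw [show gu n a b 1 = n a by rw [gu_succ]; exact mul_one _]

theorem T_cq (hab : a ≠ b) (hm : M a b = 6) (h00 : Mv cs R.nsys (cs.simple a) l₀ l₀)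
    (h01 : Mv cs R.nsys (cs.simple b) l₀ l₁)
    (h12 : Mv cs R.nsys (cs.simple a) l₁ l₂) (h22 : Mv cs R.nsys (cs.simple b) l₂ l₂)
    {v : V} (hv : v ∈ VU cs h X ρ) :
    el ρ (RGD.B cs h T X) (lamB R l₀) (ρ (n a) (Cq R ρ a b l₀ l₁ l₂ v)) =
      el ρ (RGD.B cs h T X) (lamB R l₀) (ρ (gu n a b 6) v) := by
  rw [cq_eq R hab hm h01 h12 h22 hv, el_gu R hab (k := 5) (by omega) h00 hv]

/-- `C T_a = l₀(τ) T_a C` -/
theorem cq_comm (hab : a ≠ b) (hm : M a b = 6) (h00 : Mv cs R.nsys (cs.simple a) l₀ l₀)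
    (h01 : Mv cs R.nsys (cs.simple b) l₀ l₁)
    (h12 : Mv cs R.nsys (cs.simple a) l₁ l₂) (h22 : Mv cs R.nsys (cs.simple b) l₂ l₂) :
    ∃ τ : T, ∀ v ∈ Vl cs h T X ρ l₀,
      Cq R ρ a b l₀ l₁ l₂ (el ρ (RGD.B cs h T X) (lamB R l₀) (ρ (n a) v)) =
        (l₀ τ : ℂ) • el ρ (RGD.B cs h T X) (lamB R l₀) (ρ (n a) (Cq R ρ a b l₀ l₁ l₂ v)) := by
  have h1 : Rp cs R.nsys (ua cs a b 6) (gu n b a 6) := by
    have h2 := ua_M cs a b
    rw [hm] at h2
    rw [h2]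
    exact rp_gu R b a 6
  refine ⟨⟨_, (rp_gu R a b 6).unique h1⟩, fun v hv => ?_⟩
  rw [cq_T R hab hm h01 h12 h22 hv.1, T_cq R hab hm h00 h01 h12 h22 hv.1]
  have h2 := hv.2 ⟨_, (rp_gu R a b 6).unique h1⟩
  have h3 : ρ (gu n b a 6) v = ρ (gu n a b 6) (ρ ((gu n a b 6)⁻¹ * gu n b a 6) v) := by
    rw [← Module.End.mul_apply, ← map_mul]
    congr 2
    group
  rw [h3]
  change _ = (l₀ ⟨(gu n a b 6)⁻¹ * gu n b a 6, (rp_gu R a b 6).unique h1⟩ : ℂ) • _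
  rw [← map_smul, ← map_smul, ← h2]

/-- `θ' θ v = d₀ v` -/
theorem theta_theta (h01 : Mv cs R.nsys (cs.simple b) l₀ l₁)
    (h12 : Mv cs R.nsys (cs.simple a) l₁ l₂) (hn0 : l₀ ≠ l₁) (hn1 : l₁ ≠ l₂)
    {v : V} (hv : v ∈ Vl cs h T X ρ l₀) :
    el ρ (RGD.B cs h T X) (lamB R l₀) (ρ (n b) (el ρ (RGD.B cs h T X) (lamB R l₁) (ρ (n a)
      (el ρ (RGD.B cs h T X) (lamB R l₂) (ρ (n a) (el ρ (RGD.B cs h T X) (lamB R l₁) (ρ (n b) v))))))) =
    ((l₂ ⟨n a * n a, R.sq_mem_T a⟩ : ℂ) * (qq X a : ℂ)⁻¹ * ((l₁ ⟨n b * n b, R.sq_mem_T b⟩ : ℂ) * (qq X b : ℂ)⁻¹)) • v := by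
  rw [el_n_eq_inv R (l := l₂) (l'' := l₁) (el_mem_Vl R _ _), el_n_inv R h12 hn1 (el_mem_Vl R _ _)]
  simp only [map_smul]
  rw [el_n_eq_inv R (l := l₁) (l'' := l₀) (el_mem_Vl R _ _), el_n_inv R h01 hn0 hv]
  simp only [smul_smul]
  congr 1
  ring

/-- `T_b θ v = (z / d₀) θ v` if `C v = z v` -/
theorem tb_eq (h01 : Mv cs R.nsys (cs.simple b) l₀ l₁)
    (h12 : Mv cs R.nsys (cs.simple a) l₁ l₂) (hn0 : l₀ ≠ l₁) (hn1 : l₁ ≠ l₂)
    {v : V} (hv : v ∈ Vl cs h T X ρ l₀) {z : ℂ} (hz : Cq R ρ a b l₀ l₁ l₂ v = z • v) :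
    ∃ d₀ : ℂ, d₀ ≠ 0 ∧
    el ρ (RGD.B cs h T X) (lamB R l₂) (ρ (n b) (el ρ (RGD.B cs h T X) (lamB R l₂) (ρ (n a)
      (el ρ (RGD.B cs h T X) (lamB R l₁) (ρ (n b) v))))) = (z / d₀) • el ρ (RGD.B cs h T X) (lamB R l₂) (ρ (n a)
      (el ρ (RGD.B cs h T X) (lamB R l₁) (ρ (n b) v))) := by
  have h10 : Mv cs R.nsys (cs.simple b) l₁ l₀ := by simpa only [cs.inv_simple] using h01.inv
  have h21 : Mv cs R.nsys (cs.simple a) l₂ l₁ := by simpa only [cs.inv_simple] using h12.inv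
  have h1 := theta_theta (ρ := ρ) R h01 h12 hn0 hn1 hv
  obtain ⟨d₀, hd⟩ : ∃ d₀ : ℂ, d₀ = (l₂ ⟨n a * n a, R.sq_mem_T a⟩ : ℂ) * (qq X a : ℂ)⁻¹ *
    ((l₁ ⟨n b * n b, R.sq_mem_T b⟩ : ℂ) * (qq X b : ℂ)⁻¹) := ⟨_, rfl⟩
  have hd0 : d₀ ≠ 0 := by
    rw [hd]
    exact mul_ne_zero (mul_ne_zero (Units.ne_zero _) (inv_ne_zero (qq_pos R a)))
      (mul_ne_zero (Units.ne_zero _) (inv_ne_zero (qq_pos R b)))
  rw [← hd] at h1
  refine ⟨d₀, hd0, ?_⟩
  obtain ⟨u, hu⟩ : ∃ u, u = el ρ (RGD.B cs h T X) (lamB R l₂) (ρ (n a)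
      (el ρ (RGD.B cs h T X) (lamB R l₁) (ρ (n b) v))) := ⟨_, rfl⟩
  unfold Cq at hz
  rw [← hu] at h1 hz ⊢
  have huV : u ∈ Vl cs h T X ρ l₂ := by rw [hu]; exact el_mem_Vl R _ _
  by_contra hne
  have hw : el ρ (RGD.B cs h T X) (lamB R l₂) (ρ (n b) u) - (z / d₀) • u ≠ 0 := sub_ne_zero.2 hne
  have hwV : el ρ (RGD.B cs h T X) (lamB R l₂) (ρ (n b) u) - (z / d₀) • u ∈ Vl cs h T X ρ l₂ :=
    Submodule.sub_mem _ (el_mem_Vl R _ _) (Submodule.smul_mem _ _ huV)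
  refine el_n_ne R h10 hn0.symm (el_mem_Vl R _ _) (el_n_ne R h21 hn1.symm hwV hw) ?_
  simp only [map_sub, map_smul]
  rw [hz, h1, smul_smul, div_mul_cancel₀ _ hd0, sub_self]

/-- the elements of `W` fixing `l₀` -/
theorem mv_cases (hI : ∀ i, i = a ∨ i = b) (hm : M a b = 6) (h00 : Mv cs R.nsys (cs.simple a) l₀ l₀)
    (h01 : Mv cs R.nsys (cs.simple b) l₀ l₁)
    (h12 : Mv cs R.nsys (cs.simple a) l₁ l₂) (h22 : Mv cs R.nsys (cs.simple b) l₂ l₂) (hn0 : l₀ ≠ l₁)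
    {w : W} (hw : Mv cs R.nsys w l₀ l₀) : w = 1 ∨ w = ua cs a b 1 ∨ w = ua cs b a 5 ∨ w = ua cs a b 6 := by
  have h10 : Mv cs R.nsys (cs.simple b) l₁ l₀ := by simpa only [cs.inv_simple] using h01.inv
  have h21 : Mv cs R.nsys (cs.simple a) l₂ l₁ := by simpa only [cs.inv_simple] using h12.inv
  have hn2 : l₀ ≠ l₂ := by
    rintro rfl
    exact hn0 (h22.unique h01)
  have hs : ∀ (a b : I) (k : ℕ) (l' l'' : T →* ℂˣ), Mv cs R.nsys (ua cs b a k) l₀ l' → Mv cs R.nsys (cs.simple a) l' l'' →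
      Mv cs R.nsys (ua cs a b (k + 1)) l₀ l'' := fun a b k l' l'' h1 h2 => h1.mul h2
  have A0 : Mv cs R.nsys (ua cs a b 0) l₀ l₀ := mv_one l₀
  have B0 : Mv cs R.nsys (ua cs b a 0) l₀ l₀ := mv_one l₀
  have A1 := hs a b 0 _ _ B0 h00
  have B1 := hs b a 0 _ _ A0 h01
  have A2 := hs a b 1 _ _ B1 h12
  have B2 := hs b a 1 _ _ A1 h01
  have A3 := hs a b 2 _ _ B2 h12
  have B3 := hs b a 2 _ _ A2 h22
  have A4 := hs a b 3 _ _ B3 h21
  have B4 := hs b a 3 _ _ A3 h22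
  have A5 := hs a b 4 _ _ B4 h21
  obtain ⟨k, hk, rfl | rfl⟩ := ua_all cs hI (by omega) hm w
  · interval_cases k
    · exact Or.inl rfl
    · exact Or.inr (Or.inl rfl)
    · exact absurd (hw.unique A2) hn2
    · exact absurd (hw.unique A3) hn2
    · exact absurd (hw.unique A4) hn0
    · exact absurd (hw.unique A5) hn0
    · exact Or.inr (Or.inr (Or.inr rfl))
  · interval_cases k
    · exact Or.inl rfl
    · exact absurd (hw.unique B1) hn0
    · exact absurd (hw.unique B2) hn0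
    · exact absurd (hw.unique B3) hn2
    · exact absurd (hw.unique B4) hn2
    · exact Or.inr (Or.inr (Or.inl rfl))
    · refine Or.inr (Or.inr (Or.inr ?_))
      have h2 := ua_M cs a b
      rw [hm] at h2
      exact h2.symm

/-- a common eigenvector of `T_a` and `C` -/
theorem exists_common [FiniteDimensional ℂ V] (hab : a ≠ b) (hm : M a b = 6)
    (h00 : Mv cs R.nsys (cs.simple a) l₀ l₀) (h01 : Mv cs R.nsys (cs.simple b) l₀ l₁)
    (h12 : Mv cs R.nsys (cs.simple a) l₁ l₂) (h22 : Mv cs R.nsys (cs.simple b) l₂ l₂) (hn0 : l₀ ≠ l₁) (hn1 : l₁ ≠ l₂)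
    (hna : n a ∈ Li X a) (hta : Triv X l₀ a) (hq : 1 < qq X a) (hl : Vl cs h T X ρ l₀ ≠ ⊥) :
    ∃ v ∈ Vl cs h T X ρ l₀, v ≠ 0 ∧ (∃ x : ℂ, el ρ (RGD.B cs h T X) (lamB R l₀) (ρ (n a) v) = x • v) ∧
      ∃ z : ℂ, z ≠ 0 ∧ Cq R ρ a b l₀ l₁ l₂ v = z • v := by
  have h10 : Mv cs R.nsys (cs.simple b) l₁ l₀ := by simpa only [cs.inv_simple] using h01.inv
  have h21 : Mv cs R.nsys (cs.simple a) l₂ l₁ := by simpa only [cs.inv_simple] using h12.inv
  obtain ⟨τ, hτ⟩ := cq_comm (ρ := ρ) R hab hm h00 h01 h12 h22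
  have hα := Al_triv R h00 hna hta
  have hβ := Be_eq R h00
  rw [l_sq_triv R hna hta, Units.val_one] at hβ
  have hq1 : (1 : ℝ) < qq X a := by exact_mod_cast hq
  have hq0 : (qq X a : ℂ) ≠ 0 := qq_pos R a
  -- the roots
  have hroot : ∀ x : ℂ, ∀ v ∈ Vl cs h T X ρ l₀, v ≠ 0 → Tq R ρ a l₀ v = x • v → x = 1 ∨ x = -(qq X a : ℂ)⁻¹ := by
    intro x v hv hv0 hx
    have h2 := Tq_sq R h00 hv
    rw [hx, map_smul, hx, smul_smul, smul_smul, ← add_smul] at h2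
    have h3 : (x * x - (Al R a l₀ * x + Be R a l₀)) • v = 0 := by rw [sub_smul, h2, sub_self]
    rcases smul_eq_zero.1 h3 with h4 | h4
    · rw [hα, hβ] at h4
      have h5 : (x - 1) * (x + (qq X a : ℂ)⁻¹) = 0 := by
        rw [← h4]
        ring
      rcases mul_eq_zero.1 h5 with h6 | h6
      · exact Or.inl (sub_eq_zero.1 h6)
      · exact Or.inr (eq_neg_of_add_eq_zero_left h6)
    · exact absurd h4 hv0
  -- an eigenvalue
  obtain ⟨x, v, hvE, hv0⟩ : ∃ x : ℂ, ∃ v ∈ KK (Vl cs h T X ρ l₀) (Tq R ρ a l₀) x, v ≠ 0 := by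
    obtain ⟨v, hv, hv0⟩ := Submodule.exists_mem_ne_zero_of_ne_bot hl
    have h2 := Tq_sq R h00 hv
    by_cases hw : Tq R ρ a l₀ v + (qq X a : ℂ)⁻¹ • v = 0
    · refine ⟨-(qq X a : ℂ)⁻¹, v, mem_KK.2 ⟨hv, ?_⟩, hv0⟩
      rw [neg_smul]
      exact eq_neg_of_add_eq_zero_left hw
    · refine ⟨1, Tq R ρ a l₀ v + (qq X a : ℂ)⁻¹ • v, mem_KK.2 ⟨Submodule.add_mem _ (Tq_mem R a l₀ v)
        (Submodule.smul_mem _ _ hv), ?_⟩, hw⟩
      rw [map_add, map_smul, h2, hα, hβ]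
      module
  -- the linear map `C`
  let CL : Module.End ℂ V := el ρ (RGD.B cs h T X) (lamB R l₀) * (ρ (n b) * (el ρ (RGD.B cs h T X) (lamB R l₁) *
    (ρ (n a) * (el ρ (RGD.B cs h T X) (lamB R l₂) * (ρ (n b) * (el ρ (RGD.B cs h T X) (lamB R l₂) * (ρ (n a) *
      (el ρ (RGD.B cs h T X) (lamB R l₁) * ρ (n b)))))))))
  have hCL : ∀ v, CL v = Cq R ρ a b l₀ l₁ l₂ v := fun v => rfl
  have hCmem : ∀ v, CL v ∈ Vl cs h T X ρ l₀ := fun v => el_mem_Vl R _ _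
  have hC0 : ∀ v ∈ Vl cs h T X ρ l₀, v ≠ 0 → CL v ≠ 0 := by
    intro v hv hv0 hc
    rw [hCL, ← zero_smul ℂ v] at hc
    obtain ⟨d₀, -, h3⟩ := tb_eq R h01 h12 hn0 hn1 hv hc
    rw [zero_div, zero_smul] at h3
    have h4 := el_n_ne R h12 hn1 (el_mem_Vl R _ _) (el_n_ne R h01 hn0 hv hv0)
    have h5 := Tq_sq R h22 (el_mem_Vl (ρ := ρ) R l₂ (ρ (n a) (el ρ (RGD.B cs h T X) (lamB R l₁) (ρ (n b) v))))
    rw [Tq_apply R (el_mem_Vl R _ _), h3, map_zero, smul_zero, zero_add] at h5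
    rcases smul_eq_zero.1 h5.symm with h6 | h6
    · exact Be_ne R h22 h6
    · exact h4 h6
  have hnorm : ‖(l₀ τ : ℂ)‖ = 1 := by
    have h1 : (l₀ τ : ℂ) ^ Nat.card T = 1 := by
      rw [← Units.val_pow_eq_pow_val, ← map_pow, pow_card_eq_one', map_one, Units.val_one]
    exact Complex.norm_eq_one_of_pow_eq_one h1 Nat.card_pos.ne'
  have hst : ∀ v ∈ KK (Vl cs h T X ρ l₀) (Tq R ρ a l₀) x, CL v ∈ KK (Vl cs h T X ρ l₀) (Tq R ρ a l₀) x := by
    intro v hv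
    by_cases hv0 : v = 0
    · rw [hv0, map_zero]
      exact Submodule.zero_mem _
    rw [mem_KK] at hv ⊢
    refine ⟨hCmem v, ?_⟩
    have h1 := hτ v hv.1
    rw [← Tq_apply R hv.1, hv.2, ← hCL, map_smul, ← hCL, ← Tq_apply R (hCmem v)] at h1
    have h2 : Tq R ρ a l₀ (CL v) = (x * ((l₀ τ : ℂ))⁻¹) • CL v := by
      rw [mul_comm, mul_smul, h1, smul_smul, inv_mul_cancel₀ (Units.ne_zero _), one_smul]
    have h3 := hroot _ _ (hCmem v) (hC0 v hv.1 hv0) h2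
    have h4 := hroot _ _ hv.1 hv0 hv.2
    have h5 : ‖x * ((l₀ τ : ℂ))⁻¹‖ = ‖x‖ := by rw [norm_mul, norm_inv, hnorm, inv_one, mul_one]
    have h6 : ‖-(qq X a : ℂ)⁻¹‖ < 1 := by
      rw [norm_neg, norm_inv, Complex.norm_natCast]
      exact inv_lt_one_of_one_lt₀ hq1
    have h7 : x * ((l₀ τ : ℂ))⁻¹ = x := by
      rcases h3 with h3 | h3 <;> rcases h4 with h4 | h4
      · rw [h3, h4]
      · rw [h3, h4, norm_one] at h5
        rw [← h5] at h6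
        exact absurd h6 (lt_irrefl _)
      · rw [h3, h4, norm_one] at h5
        rw [h5] at h6
        exact absurd h6 (lt_irrefl _)
      · rw [h3, h4]
    rw [h2, h7]
  -- the eigenvector
  let E := KK (Vl cs h T X ρ l₀) (Tq R ρ a l₀) x
  have hnt : Nontrivial E := ⟨⟨⟨v, hvE⟩, 0, fun h1 => hv0 (congrArg Subtype.val h1)⟩⟩
  obtain ⟨z, hz⟩ := Module.End.exists_eigenvalue (CL.restrict hst)
  obtain ⟨⟨u, huE⟩, hu⟩ := hz.exists_hasEigenvector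
  have h1 : CL u = z • u := congrArg Subtype.val hu.apply_eq_smul
  have hu0 : u ≠ 0 := fun h2 => hu.2 (Subtype.ext h2)
  have huE' := mem_KK.1 huE
  refine ⟨u, huE'.1, hu0, ⟨x, ?_⟩, z, ?_, h1⟩
  · rw [← Tq_apply R huE'.1, huE'.2]
  · rintro rfl
    rw [zero_smul] at h1
    exact hC0 u huE'.1 hu0 h1

/-- **The quadratic case of `G₂`.** -/
theorem g2_quad [FiniteDimensional ℂ V] (hG : GG cs h T X = ⊤) (hρ : ρ.IsIrreducible) (hab : a ≠ b)
    (hI : ∀ i, i = a ∨ i = b) (hm : M a b = 6)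
    (h00 : Mv cs R.nsys (cs.simple a) l₀ l₀) (h01 : Mv cs R.nsys (cs.simple b) l₀ l₁)
    (h12 : Mv cs R.nsys (cs.simple a) l₁ l₂) (h22 : Mv cs R.nsys (cs.simple b) l₂ l₂) (hn0 : l₀ ≠ l₁) (hn1 : l₁ ≠ l₂)
    (hna : n a ∈ Li X a) (hta : Triv X l₀ a) (hnb : n b ∈ Li X b) (htb : Triv X l₂ b) (hq : 1 < qq X a)
    (hl : Vl cs h T X ρ l₀ ≠ ⊥) :
    ∃ y z : ℂ, (y = qq X a ∨ y = (qq X a : ℂ)⁻¹) ∧ (z = qq X b ∨ z = (qq X b : ℂ)⁻¹) ∧
      ρ.character 1 * ((1 + y) * (1 + z)) =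
        (1 + qq X a : ℂ) * (1 + qq X b) * ∑ i ∈ Finset.range 3, ((qq X a : ℂ) * qq X b) ^ i := by
  classical
  let _ : Fintype W := Fintype.ofFinite W
  have hm' : M b a = 6 := by rw [M.symmetric, hm]
  obtain ⟨v, hv, hv0, ⟨x, hx⟩, z, hz0, hz⟩ := exists_common (ρ := ρ) R hab hm h00 h01 h12 h22 hn0 hn1 hna hta hq hl
  -- the root of `T_a`
  have hroot : ∀ {i : I} {l : T →* ℂˣ} {x : ℂ} {v : V}, Mv cs R.nsys (cs.simple i) l l → v ∈ Vl cs h T X ρ l → v ≠ 0 →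
      el ρ (RGD.B cs h T X) (lamB R l) (ρ (n i) v) = x • v → x ^ 2 = Al R i l * x + Be R i l := by
    intro i l x v hm hv hv0 hx
    rw [← Tq_apply R hv] at hx
    have h2 := Tq_sq R hm hv
    rw [hx, map_smul, hx, smul_smul, smul_smul, ← add_smul] at h2
    have h3 : (x * x - (Al R i l * x + Be R i l)) • v = 0 := by rw [sub_smul, h2, sub_self]
    rcases smul_eq_zero.1 h3 with h4 | h4
    · linear_combination h4
    · exact absurd h4 hv0
  obtain ⟨d₀, hd0, htb'⟩ := tb_eq R h01 h12 hn0 hn1 hv hz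
  have hu0 := el_n_ne R h12 hn1 (el_mem_Vl R _ _) (el_n_ne R h01 hn0 hv hv0)
  have hya := yy_of_root R h00 (hroot h00 hv hv0 hx)
  have hyb := yy_of_root R h22 (hroot h22 (el_mem_Vl R _ _) hu0 htb')
  refine ⟨_, _, hya.triv hna hta, hyb.triv hnb htb, ?_⟩
  obtain ⟨xb, hxb⟩ : ∃ xb, xb = z / d₀ := ⟨_, rfl⟩
  rw [← hxb] at htb' ⊢
  -- the inverses
  have hcc := cq_cq (ρ := ρ) R h01 h12 hn0 hn1 hv htb'
  obtain ⟨κ, hκ⟩ : ∃ κ : ℂ, κ = xb ^ 2 * ((l₂ ⟨n b * n b, R.sq_mem_T b⟩)⁻¹ : ℂˣ).val *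
    ((qq X a : ℂ)⁻¹ * (qq X b : ℂ)⁻¹) ^ 2 := ⟨_, rfl⟩
  rw [← hκ, hz] at hcc
  have hC' : Cq' R ρ a b l₀ l₁ l₂ v = (κ / z) • v := by
    have h1 : Cq' R ρ a b l₀ l₁ l₂ (z • v) = z • Cq' R ρ a b l₀ l₁ l₂ v := by
      unfold Cq'
      simp only [map_smul]
    rw [h1] at hcc
    rw [div_eq_inv_mul, mul_smul, ← hcc, smul_smul, inv_mul_cancel₀ hz0, one_smul]
  obtain ⟨e, he⟩ : ∃ e : ℂ, e = ((l₀ ⟨n a * n a, R.sq_mem_T a⟩)⁻¹ : ℂˣ).val := ⟨_, rfl⟩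
  have hx' : el ρ (RGD.B cs h T X) (lamB R l₀) (ρ (n a)⁻¹ v) = (e * x) • v := by
    rw [el_inv_eq R hv, hx, smul_smul, he]
  rw [← he]
  -- distinct elements
  have L : ∀ k, k ≤ 6 → cs.length (ua cs a b k) = k := fun k hk => length_ua cs h hab (by omega)
  have L' : ∀ k, k ≤ 6 → cs.length (ua cs b a k) = k := fun k hk => length_ua cs h hab.symm (by omega)
  have n01 : (1 : W) ≠ ua cs a b 1 := fun e => by
    have := congrArg cs.length e
    rw [cs.length_one, L 1 (by omega)] at this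
    omega
  have n05 : (1 : W) ≠ ua cs b a 5 := fun e => by
    have := congrArg cs.length e
    rw [cs.length_one, L' 5 (by omega)] at this
    omega
  have n06 : (1 : W) ≠ ua cs a b 6 := fun e => by
    have := congrArg cs.length e
    rw [cs.length_one, L 6 (by omega)] at this
    omega
  have n15 : ua cs a b 1 ≠ ua cs b a 5 := fun e => by
    have := congrArg cs.length e
    rw [L 1 (by omega), L' 5 (by omega)] at this
    omega
  have n16 : ua cs a b 1 ≠ ua cs a b 6 := fun e => by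
    have := congrArg cs.length e
    rw [L 1 (by omega), L 6 (by omega)] at this
    omega
  have n56 : ua cs b a 5 ≠ ua cs a b 6 := fun e => by
    have := congrArg cs.length e
    rw [L' 5 (by omega), L 6 (by omega)] at this
    omega
  let c : W → ℂ := fun w => if w = 1 then 1 else if w = ua cs a b 1 then x * (e * x) else
    if w = ua cs b a 5 then κ else if w = ua cs a b 6 then x * (e * x) * κ else 0
  have hc0 : c 1 = 1 := if_pos rfl
  have hc1 : c (ua cs a b 1) = x * (e * x) := by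
    change (if _ then _ else _) = _
    rw [if_neg n01.symm, if_pos rfl]
  have hc5 : c (ua cs b a 5) = κ := by
    change (if _ then _ else _) = _
    rw [if_neg n05.symm, if_neg n15.symm, if_pos rfl]
  have hc6 : c (ua cs a b 6) = x * (e * x) * κ := by
    change (if _ then _ else _) = _
    rw [if_neg n06.symm, if_neg n16.symm, if_neg n56.symm, if_pos rfl]
  have hcc0 : ∀ w, w ≠ 1 → w ≠ ua cs a b 1 → w ≠ ua cs b a 5 → w ≠ ua cs a b 6 → c w = 0 := by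
    intro w h1 h2 h3 h4
    change (if _ then _ else _) = _
    rw [if_neg h1, if_neg h2, if_neg h3, if_neg h4]
  have hg1 : gu n a b 1 = n a := by rw [gu_succ]; exact mul_one _
  have hall : ∀ w, ∃ g, Rp cs R.nsys w g ∧ ∃ a b : ℂ, el ρ (RGD.B cs h T X) (lamB R l₀) (ρ g v) = a • v ∧
      el ρ (RGD.B cs h T X) (lamB R l₀) (ρ g⁻¹ v) = b • v ∧ c w = a * b := by
    intro w
    by_cases w0 : w = 1
    · subst w0
      refine ⟨1, rp_one, 1, 1, ?_, ?_, by rw [hc0, mul_one]⟩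
      · rw [map_one, Module.End.one_apply, el_of_Vl R hv, one_smul]
      · rw [inv_one, map_one, Module.End.one_apply, el_of_Vl R hv, one_smul]
    by_cases w1 : w = ua cs a b 1
    · subst w1
      refine ⟨gu n a b 1, rp_gu R a b 1, x, e * x, ?_, ?_, hc1⟩
      · rw [hg1, hx]
      · rw [hg1, hx']
    by_cases w5 : w = ua cs b a 5
    · subst w5
      refine ⟨gu n b a 5, rp_gu R b a 5, z, κ / z, ?_, ?_, by rw [hc5, mul_div_cancel₀ _ hz0]⟩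
      · rw [← cq_eq R hab hm h01 h12 h22 hv.1, hz]
      · rw [← cq_inv_eq R hab hm h01 h12 h22 hv, hC']
    by_cases w6 : w = ua cs a b 6
    · subst w6
      refine ⟨gu n a b 6, rp_gu R a b 6, z * x, e * x * (κ / z), ?_, ?_, ?_⟩
      · rw [← T_cq R hab hm h00 h01 h12 h22 hv.1, hz, map_smul, map_smul, hx, smul_smul]
      · rw [el_gu_inv R hab (k := 5) (by omega) h00 hv, hx', map_smul, map_smul,
          ← cq_inv_eq R hab hm h01 h12 h22 hv, hC', smul_smul]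
      · rw [hc6]
        field_simp
    · have hno : ¬ Mv cs R.nsys w l₀ l₀ := fun h1 => by
        rcases mv_cases R hI hm h00 h01 h12 h22 hn0 h1 with h2 | h2 | h2 | h2
        · exact w0 h2
        · exact w1 h2
        · exact w5 h2
        · exact w6 h2
      obtain ⟨g, hg⟩ := exists_rp cs R.nsys w
      refine ⟨g, hg, 0, 0, ?_, ?_, by rw [hcc0 w w0 w1 w5 w6, mul_zero]⟩
      · rw [zero_smul, el_rho_eq_zero R hg hno hv]
      · rw [zero_smul, el_rho_eq_zero R hg.inv (fun h1 => hno (by simpa only [inv_inv] using h1.inv)) hv]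
  have hE := span_of_all R hG hρ hv hv0 fun w => by
    obtain ⟨g, hg, a, -, h1, -⟩ := hall w
    exact ⟨g, hg, a, h1⟩
  have hdeg := degree_gen R hG hρ hv0 hE hall
  -- the sum
  have hB0 : (Nat.card (RGD.B cs h T X) : ℂ) ≠ 0 := card_ne _
  have k1 : Nat.card {g : Y // Cell R.nsys cs h X (ua cs a b 1) g} = qq X a * Nat.card (RGD.B cs h T X) := by
    rw [card_ua R hab 0 (by omega)]
    exact congrArg _ (card_cell_one R)
  have k1' : Nat.card {g : Y // Cell R.nsys cs h X (ua cs b a 1) g} = qq X b * Nat.card (RGD.B cs h T X) := by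
    rw [card_ua R hab.symm 0 (by omega)]
    exact congrArg _ (card_cell_one R)
  have k5 : Nat.card {g : Y // Cell R.nsys cs h X (ua cs b a 5) g} =
      qq X b * (qq X a * (qq X b * (qq X a * (qq X b * Nat.card (RGD.B cs h T X))))) := by
    rw [card_ua R hab.symm 4 (by omega), card_ua R hab 3 (by omega), card_ua R hab.symm 2 (by omega),
      card_ua R hab 1 (by omega), k1']
  have k6 : Nat.card {g : Y // Cell R.nsys cs h X (ua cs a b 6) g} =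
      qq X a * (qq X b * (qq X a * (qq X b * (qq X a * (qq X b * Nat.card (RGD.B cs h T X)))))) := by
    rw [card_ua R hab 5 (by omega), k5]
  have hsum : ∑ w, (Nat.card {g : Y // Cell R.nsys cs h X w g} : ℂ) * c w =
      ∑ w ∈ ({1, ua cs a b 1, ua cs b a 5, ua cs a b 6} : Finset W),
        (Nat.card {g : Y // Cell R.nsys cs h X w g} : ℂ) * c w := by
    symm
    refine Finset.sum_subset (Finset.subset_univ _) fun w _ hw => ?_
    simp only [Finset.mem_insert, Finset.mem_singleton, not_or] at hw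
    rw [hcc0 w hw.1 hw.2.1 hw.2.2.1 hw.2.2.2, mul_zero]
  rw [hsum, Finset.sum_insert (by simp only [Finset.mem_insert, Finset.mem_singleton, not_or]; exact ⟨n01, n05, n06⟩),
    Finset.sum_insert (by simp only [Finset.mem_insert, Finset.mem_singleton, not_or]; exact ⟨n15, n16⟩),
    Finset.sum_insert (by simp only [Finset.mem_singleton]; exact n56), Finset.sum_singleton, hc0, hc1, hc5, hc6,
    card_cell_one R, k1, k5, k6, card_rank_two R hG hab hI (m := 3) (by rw [hm]) (by omega)] at hdeg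
  refine mul_left_cancel₀ hB0 ?_
  rw [← hdeg, hκ]
  have ha0 := qq_pos (X := X) R a
  have hb0 := qq_pos (X := X) R b
  push_cast
  field_simp
  ring

/-- the same with `q_a = q_b = q` -/
theorem g2_quad' [FiniteDimensional ℂ V] (hG : GG cs h T X = ⊤) (hρ : ρ.IsIrreducible) (hab : a ≠ b)
    (hI : ∀ i, i = a ∨ i = b) (hm : M a b = 6)
    (h00 : Mv cs R.nsys (cs.simple a) l₀ l₀) (h01 : Mv cs R.nsys (cs.simple b) l₀ l₁)
    (h12 : Mv cs R.nsys (cs.simple a) l₁ l₂) (h22 : Mv cs R.nsys (cs.simple b) l₂ l₂) (hn0 : l₀ ≠ l₁) (hn1 : l₁ ≠ l₂)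
    (hna : n a ∈ Li X a) (hta : Triv X l₀ a) (hnb : n b ∈ Li X b) (htb : Triv X l₂ b) {q : ℕ} (hq : 1 < q)
    (hqa : qq X a = q) (hqb : qq X b = q) (hl : Vl cs h T X ρ l₀ ≠ ⊥) :
    ∃ y z : ℂ, (y = q ∨ y = (q : ℂ)⁻¹) ∧ (z = q ∨ z = (q : ℂ)⁻¹) ∧
      ρ.character 1 * ((1 + y) * (1 + z)) = (1 + q : ℂ) ^ 2 * (1 + q ^ 2 + q ^ 4) := by
  obtain ⟨y, z, hy, hz, e⟩ := g2_quad R hG hρ hab hI hm h00 h01 h12 h22 hn0 hn1 hna hta hnb htb (by rw [hqa]; exact hq) hl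
  rw [hqa] at hy
  rw [hqb] at hz
  refine ⟨y, z, hy, hz, ?_⟩
  rw [e, hqa, hqb, Finset.sum_range_succ, Finset.sum_range_succ, Finset.sum_range_one]
  ring

end quad

end Cfsg.Agent.H985.VZ
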