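import Cfsg.Agent.H985.VZ.El

/-!
# S4842: the rank one formula (helper985)

`P = B ∪ B n B`, `l` a linear character of `B` fixed by `n`, `p` the projection onto the `l`-eigenspace `E` of a
representation `V` of `P`, `T = p n` on `E`. Then `T² = α T + β` with universal `α`, `β ≠ 0`, and, if `V` is generated by `E`
and `t` has no conjugate in `B`, `tr t = c (2 tr (T | E) - α dim E)` (`rank_one`).
-/

set_option autoImplicit false
set_option linter.unusedSectionVars false

open scoped ComplexConjugate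
open Cfsg

namespace Cfsg.Agent.H985.VZ

open Cfsg.Agent.Characters Module

universe u v

/-- the rank one situation -/
structure RkOne {P : Type u} [Group P] (B : Subgroup P) (n : P) (l : B →* ℂˣ) : Prop where
  nmem : n ∉ B
  sq : n * n ∈ B
  cell : ∀ g : P, g ∈ B ∨ ∃ b ∈ B, ∃ c ∈ B, g = b * n * c
  fix : ∀ b c : B, (c : P) = n * b * n⁻¹ → l c = l b

namespace RkOne

variable {P : Type u} [Group P] {B : Subgroup P} {n : P} {l : B →* ℂˣ}

/-- the operator `v ↦ p (n v)` -/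
noncomputable def Tn [Finite P] {V : Type v} [AddCommGroup V] [Module ℂ V] (ρ : Representation ℂ P V) (B : Subgroup P)
    (n : P) (l : B →* ℂˣ) : Module.End ℂ V := el ρ B l * ρ n * el ρ B l

section

variable {V : Type v} [AddCommGroup V] [Module ℂ V] {ρ : Representation ℂ P V}

theorem Tn_apply [Finite P] {v : V} (hv : v ∈ eig ρ B l) : Tn ρ B n l v = el ρ B l (ρ n v) := by
  unfold Tn
  rw [Module.End.mul_apply, Module.End.mul_apply, el_of_mem hv]

theorem Tn_mem [Finite P] (v : V) : Tn ρ B n l v ∈ eig ρ B l := by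
  unfold Tn
  rw [Module.End.mul_apply, Module.End.mul_apply]
  exact el_mem _ _ _ _

/-- `p (b n c v) = l(b) l(c) T v` -/
theorem el_cell [Finite P] {v : V} (hv : v ∈ eig ρ B l) (b c : B) :
    el ρ B l (ρ (b * n * c) v) = ((l b : ℂ) * (l c : ℂ)) • Tn ρ B n l v := by
  rw [map_mul, map_mul, Module.End.mul_apply, Module.End.mul_apply, el_rho, hv c, map_smul, map_smul, smul_smul,
    Tn_apply hv]

end

variable (H : RkOne B n l)

include H

theorem disj {b c : B} (h : (b : P) * n * c ∈ B) : False := by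
  apply H.nmem
  have h2 : n = (b : P)⁻¹ * ((b : P) * n * c) * (c : P)⁻¹ := by group
  rw [h2]
  exact mul_mem (mul_mem (inv_mem b.2) h) (inv_mem c.2)

/-- the value of a double coset element -/
theorem psi_unique {b c b' c' : B} (h : (b : P) * n * c = b' * n * c') : l b * l c = l b' * l c' := by
  have h1 : (b'⁻¹ * b : B) = (⟨n * (c' * c⁻¹ : B) * n⁻¹, by
      have : n * ((c' * c⁻¹ : B) : P) * n⁻¹ = (b' : P)⁻¹ * b := by
        rw [Subgroup.coe_mul, Subgroup.coe_inv]
        have h3 : n * ((c' : P) * (c : P)⁻¹) * n⁻¹ = (b' : P)⁻¹ * ((b' : P) * n * c') * (c : P)⁻¹ * n⁻¹ := by group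
        rw [h3, ← h]
        group
      rw [this]
      exact mul_mem (inv_mem b'.2) b.2⟩ : B) := by
    apply Subtype.ext
    change (b' : P)⁻¹ * b = n * ((c' * c⁻¹ : B) : P) * n⁻¹
    rw [Subgroup.coe_mul, Subgroup.coe_inv]
    have h3 : n * ((c' : P) * (c : P)⁻¹) * n⁻¹ = (b' : P)⁻¹ * ((b' : P) * n * c') * (c : P)⁻¹ * n⁻¹ := by group
    rw [h3, ← h]
    group
  have h2 : l (b'⁻¹ * b) = l (c' * c⁻¹) := by
    rw [h1]
    exact H.fix _ _ rfl
  rw [map_mul, map_mul, map_inv, map_inv] at h2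
  calc l b * l c = l b' * ((l b')⁻¹ * l b) * l c := by group
    _ = l b' * (l c' * (l c)⁻¹) * l c := by rw [h2]
    _ = l b' * l c' := by group

omit H in
/-- the coefficients -/
noncomputable def ca (B : Subgroup P) (l : B →* ℂˣ) (g : P) : ℂ :=
  open Classical in if hg : g ∈ B then (l ⟨g, hg⟩ : ℂ) else 0

omit H in
/-- the coefficients -/
noncomputable def cb (B : Subgroup P) (n : P) (l : B →* ℂˣ) (g : P) : ℂ :=
  open Classical in if hg : ∃ x : B × B, g = (x.1 : P) * n * x.2 then (l hg.choose.1 : ℂ) * (l hg.choose.2 : ℂ) else 0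

omit H in
theorem ca_of_mem {g : P} (hg : g ∈ B) : ca B l g = (l ⟨g, hg⟩ : ℂ) := by
  unfold ca
  rw [dif_pos hg]

omit H in
theorem ca_of_not {g : P} (hg : g ∉ B) : ca B l g = 0 := by
  unfold ca
  rw [dif_neg hg]

theorem cb_of_mem {g : P} (hg : g ∈ B) : cb B n l g = 0 := by
  unfold cb
  rw [dif_neg]
  rintro ⟨x, rfl⟩
  exact H.disj hg

theorem exists_cb {g : P} (hg : g ∉ B) : ∃ b c : B, g = b * n * c ∧ cb B n l g = (l b : ℂ) * l c := by
  have h1 : ∃ x : B × B, g = (x.1 : P) * n * x.2 := by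
    rcases H.cell g with h | ⟨b, hb, c, hc, e⟩
    · exact absurd h hg
    · exact ⟨(⟨b, hb⟩, ⟨c, hc⟩), e⟩
  refine ⟨h1.choose.1, h1.choose.2, h1.choose_spec, ?_⟩
  unfold cb
  rw [dif_pos h1]

section fin

variable [Finite P] {V : Type v} [AddCommGroup V] [Module ℂ V] {ρ : Representation ℂ P V}

/-- `p (g v) = a(g) v + b(g) T v` -/
theorem el_coef {v : V} (hv : v ∈ eig ρ B l) (g : P) :
    el ρ B l (ρ g v) = ca B l g • v + cb B n l g • Tn ρ B n l v := by
  by_cases hg : g ∈ B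
  · rw [ca_of_mem hg, H.cb_of_mem hg, zero_smul, add_zero]
    have := el_rho ρ B l ⟨g, hg⟩ v
    rwa [el_of_mem hv] at this
  · obtain ⟨b, c, e, h1⟩ := H.exists_cb hg
    rw [ca_of_not hg, h1, zero_smul, zero_add, e]
    exact el_cell hv b c

omit H in
/-- `α` -/
noncomputable def al (B : Subgroup P) (n : P) (l : B →* ℂˣ) : ℂ :=
  (Nat.card B : ℂ)⁻¹ * ∑ᶠ b : B, ((l b)⁻¹ : ℂˣ).val * cb B n l (n * b * n)

omit H in
/-- `β` -/
noncomputable def be (B : Subgroup P) (n : P) (l : B →* ℂˣ) : ℂ :=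
  (Nat.card B : ℂ)⁻¹ * ∑ᶠ b : B, ((l b)⁻¹ : ℂˣ).val * ca B l (n * b * n)

theorem Tn_sq {v : V} (hv : v ∈ eig ρ B l) :
    Tn ρ B n l (Tn ρ B n l v) = al B n l • Tn ρ B n l v + be B n l • v := by
  classical
  let _ : Fintype B := Fintype.ofFinite B
  rw [Tn_apply (Tn_mem v)]
  conv_lhs => rw [Tn_apply hv, el_apply ρ B l (ρ n v)]
  rw [map_smul, map_smul, map_sum, map_sum]
  have h1 : ∀ b : B, el ρ B l (ρ n (((l b)⁻¹ : ℂˣ).val • ρ b (ρ n v))) =
      (((l b)⁻¹ : ℂˣ).val * ca B l (n * b * n)) • v + (((l b)⁻¹ : ℂˣ).val * cb B n l (n * b * n)) • Tn ρ B n l v := by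
    intro b
    rw [map_smul, map_smul, ← Module.End.mul_apply (ρ b), ← map_mul, ← Module.End.mul_apply (ρ n), ← map_mul,
      ← mul_assoc, H.el_coef hv, smul_add, smul_smul, smul_smul]
  rw [Finset.sum_congr rfl fun b _ => h1 b, Finset.sum_add_distrib, ← Finset.sum_smul, ← Finset.sum_smul, smul_add,
    smul_smul, smul_smul, al, be, finsum_eq_sum_of_fintype, finsum_eq_sum_of_fintype, add_comm]

theorem map_conj {b : B} (hb : n * b * n ∈ B) : l ⟨n * b * n, hb⟩ = l b * l ⟨n * n, H.sq⟩ := by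
  have h1 : n * b * n⁻¹ ∈ B := by
    have h2 : n * b * n⁻¹ = (n * b * n) * (n * n)⁻¹ := by group
    rw [h2]
    exact mul_mem hb (inv_mem H.sq)
  have h3 : (⟨n * b * n, hb⟩ : B) = ⟨n * b * n⁻¹, h1⟩ * ⟨n * n, H.sq⟩ := Subtype.ext (by
    change n * b * n = n * b * n⁻¹ * (n * n)
    group)
  rw [h3, map_mul, H.fix b ⟨n * b * n⁻¹, h1⟩ rfl]

omit H in
/-- the number of `b` with `n b n ∈ B` -/
noncomputable def dd (B : Subgroup P) (n : P) : ℕ := Nat.card {b : B // n * b * n ∈ B}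

theorem dd_pos : 0 < dd B n := by
  unfold dd
  have : Nonempty {b : B // n * b * n ∈ B} := ⟨⟨1, by rw [Subgroup.coe_one, mul_one]; exact H.sq⟩⟩
  exact Nat.card_pos

theorem be_eq : be B n l = (dd B n : ℂ) * (l ⟨n * n, H.sq⟩ : ℂ) / (Nat.card B : ℂ) := by
  classical
  let _ : Fintype B := Fintype.ofFinite B
  have h1 : ∀ b : B, ((l b)⁻¹ : ℂˣ).val * ca B l (n * b * n) = if n * b * n ∈ B then (l ⟨n * n, H.sq⟩ : ℂ) else 0 := by
    intro b
    split_ifs with hb
    · rw [ca_of_mem hb, H.map_conj hb, Units.val_mul, ← mul_assoc, Units.inv_mul, one_mul]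
    · rw [ca_of_not hb, mul_zero]
  rw [be, finsum_eq_sum_of_fintype, Finset.sum_congr rfl fun b _ => h1 b, ← Finset.sum_filter, Finset.sum_const,
    nsmul_eq_mul, dd, Nat.card_eq_fintype_card (α := {b : B // n * b * n ∈ B}), Fintype.card_subtype, div_eq_inv_mul]

theorem be_ne : be B n l ≠ 0 := by
  rw [H.be_eq]
  refine div_ne_zero (mul_ne_zero ?_ (Units.ne_zero _)) (card_ne B)
  exact_mod_cast H.dd_pos.ne'

/-- the size of the big cell -/
theorem card_cell : Nat.card {g : P // g ∉ B} * dd B n = Nat.card B * Nat.card B := by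
  classical
  -- the map `(b, c) ↦ b n c`
  let f : B × B → {g : P // g ∉ B} := fun x => ⟨x.1 * n * x.2, fun h => H.disj h⟩
  have hfib : ∀ g : {g : P // g ∉ B}, Nat.card {x : B × B // f x = g} = dd B n := by
    intro g
    obtain ⟨b₀, c₀, e, -⟩ := H.exists_cb g.2
    refine (Nat.card_congr ?_).symm
    have hm : ∀ d : {b : B // n * b * n ∈ B}, n * (d.1 : P) * n⁻¹ ∈ B := by
      intro d
      have h2 : n * (d.1 : P) * n⁻¹ = (n * d.1 * n) * (n * n)⁻¹ := by group
      rw [h2]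
      exact mul_mem d.2 (inv_mem H.sq)
    refine
      { toFun := fun d => ⟨(b₀ * ⟨n * (d.1 : P) * n⁻¹, hm d⟩, d.1⁻¹ * c₀), Subtype.ext (by
          change (b₀ : P) * (n * (d.1 : P) * n⁻¹) * n * ((d.1 : P)⁻¹ * (c₀ : P)) = g
          rw [e]
          group)⟩
        invFun := fun x => ⟨c₀ * x.1.2⁻¹, by
          have h1 : (x.1.1 : P) * n * x.1.2 = b₀ * n * c₀ := by
            have := congrArg Subtype.val x.2
            rw [e] at this
            exact this
          have h2 : n * ((c₀ * x.1.2⁻¹ : B) : P) * n = ((b₀ : P)⁻¹ * x.1.1) * (n * n) := by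
            rw [Subgroup.coe_mul, Subgroup.coe_inv]
            have h3 : n * (c₀ : P) = (b₀ : P)⁻¹ * ((x.1.1 : P) * n * x.1.2) := by rw [h1]; group
            rw [← mul_assoc n, h3]
            group
          rw [h2]
          exact mul_mem (mul_mem (inv_mem b₀.2) x.1.1.2) H.sq⟩
        left_inv := fun d => Subtype.ext (by simp)
        right_inv := ?_ }
    intro x
    have h1 : (x.1.1 : P) * n * x.1.2 = b₀ * n * c₀ := by
      have := congrArg Subtype.val x.2
      rw [e] at this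
      exact this
    apply Subtype.ext
    apply Prod.ext
    · apply Subtype.ext
      change (b₀ : P) * (n * ((c₀ * x.1.2⁻¹ : B) : P) * n⁻¹) = x.1.1
      rw [Subgroup.coe_mul, Subgroup.coe_inv]
      have h3 : (b₀ : P) * (n * ((c₀ : P) * (x.1.2 : P)⁻¹) * n⁻¹) = (b₀ * n * c₀) * (x.1.2 : P)⁻¹ * n⁻¹ := by group
      rw [h3, ← h1]
      group
    · simp
  have h1 : Nat.card (B × B) = Nat.card {g : P // g ∉ B} * dd B n := by
    let _ : Fintype {g : P // g ∉ B} := Fintype.ofFinite _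
    rw [← Nat.card_congr (Equiv.sigmaFiberEquiv f), Nat.card_sigma, Finset.sum_congr rfl fun g _ => hfib g,
      Finset.sum_const, Finset.card_univ, smul_eq_mul, Nat.card_eq_fintype_card (α := {g : P // g ∉ B})]
  rw [← h1, Nat.card_prod]

omit H in
/-- the operator `s = |B|⁻¹ ∑ g p g⁻¹` -/
noncomputable def ss (ρ : Representation ℂ P V) (B : Subgroup P) (l : B →* ℂˣ) : Module.End ℂ V :=
  (Nat.card B : ℂ)⁻¹ • ∑ᶠ g : P, ρ g * el ρ B l * ρ g⁻¹

omit H in
theorem ss_comm (k : P) (v : V) : ss ρ B l (ρ k v) = ρ k (ss ρ B l v) := by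
  classical
  let _ : Fintype P := Fintype.ofFinite P
  unfold ss
  rw [finsum_eq_sum_of_fintype, LinearMap.smul_apply, LinearMap.smul_apply, map_smul, LinearMap.sum_apply,
    LinearMap.sum_apply, map_sum]
  congr 1
  refine (Fintype.sum_equiv (Equiv.mulLeft k) _ _ fun g => ?_).symm
  change ρ k ((ρ g * el ρ B l * ρ g⁻¹) v) = (ρ (k * g) * el ρ B l * ρ (k * g)⁻¹) (ρ k v)
  simp only [Module.End.mul_apply]
  rw [← Module.End.mul_apply (ρ (k * g)⁻¹), ← map_mul, show (k * g)⁻¹ * k = g⁻¹ by group,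
    ← Module.End.mul_apply (ρ k), ← map_mul]

omit H in
theorem ss_mem {v : V} (hv : v ∈ eig ρ B l) : ss ρ B l v ∈ eig ρ B l := by
  intro b
  rw [← ss_comm, hv b, map_smul]

theorem ss_apply' {v : V} (hv : v ∈ eig ρ B l) : ss ρ B l v = v + (be B n l)⁻¹ • Tn ρ B n l (Tn ρ B n l v) := by
  classical
  let _ : Fintype P := Fintype.ofFinite P
  rw [← el_of_mem (ss_mem hv)]
  have h1 : ss ρ B l v = (Nat.card B : ℂ)⁻¹ • ∑ g : P, ρ g (el ρ B l (ρ g⁻¹ v)) := by
    unfold ss
    rw [finsum_eq_sum_of_fintype, LinearMap.smul_apply, LinearMap.sum_apply]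
    rfl
  have h2 : ∀ g : P, el ρ B l (ρ g (el ρ B l (ρ g⁻¹ v))) =
      if g ∈ B then v else ((l ⟨n * n, H.sq⟩)⁻¹ : ℂˣ).val • Tn ρ B n l (Tn ρ B n l v) := by
    intro g
    split_ifs with hg
    · have e1 := el_rho ρ B l ⟨g, hg⟩⁻¹ v
      rw [el_of_mem hv] at e1
      change el ρ B l (ρ g⁻¹ v) = _ at e1
      rw [e1, map_smul, map_smul]
      have e2 := el_rho ρ B l ⟨g, hg⟩ v
      rw [el_of_mem hv] at e2
      change el ρ B l (ρ g v) = _ at e2
      rw [e2, smul_smul, map_inv, Units.inv_mul, one_smul]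
    · obtain ⟨b, c, e, -⟩ := H.exists_cb hg
      have e3 : g⁻¹ = ((c⁻¹ : B) : P) * n * ((⟨n * n, H.sq⟩⁻¹ * b⁻¹ : B) : P) := by
        rw [e, Subgroup.coe_mul, Subgroup.coe_inv, Subgroup.coe_inv, Subgroup.coe_inv]
        group
      rw [e3, el_cell hv, map_smul, map_smul, e, el_cell (Tn_mem v), smul_smul]
      congr 1
      rw [map_mul, map_inv, map_inv, map_inv, Units.val_mul]
      have h3 : (l c : ℂ) ≠ 0 := Units.ne_zero _
      have h4 : (l b : ℂ) ≠ 0 := Units.ne_zero _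
      rw [Units.val_inv_eq_inv_val, Units.val_inv_eq_inv_val, Units.val_inv_eq_inv_val]
      field_simp
  rw [h1, map_smul, map_sum, Finset.sum_congr rfl fun g _ => h2 g, Finset.sum_ite, Finset.sum_const, Finset.sum_const,
    smul_add, ← Nat.cast_smul_eq_nsmul ℂ, ← Nat.cast_smul_eq_nsmul ℂ, smul_smul, smul_smul, smul_smul]
  have h5 : ((Finset.univ.filter fun g : P => g ∈ B).card : ℂ) = Nat.card B := by
    rw [Nat.card_eq_fintype_card (α := B), ← Fintype.card_subtype]
  have h6 : ((Finset.univ.filter fun g : P => g ∉ B).card : ℂ) = Nat.card {g : P // g ∉ B} := by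
    rw [Nat.card_eq_fintype_card (α := {g : P // g ∉ B}), ← Fintype.card_subtype]
  have h7 : (Nat.card {g : P // g ∉ B} : ℂ) * dd B n = Nat.card B * Nat.card B := by
    exact_mod_cast H.card_cell
  have h8 : (dd B n : ℂ) ≠ 0 := by exact_mod_cast H.dd_pos.ne'
  have h9 : (Nat.card B : ℂ) ≠ 0 := card_ne B
  have h10 : (l ⟨n * n, H.sq⟩ : ℂ) ≠ 0 := Units.ne_zero _
  rw [h5, h6, inv_mul_cancel₀ h9, one_smul, H.be_eq]
  congr 2
  rw [Units.val_inv_eq_inv_val]
  field_simp
  linear_combination h7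

/-- `s = 2 + (α / β) T` on the eigenspace -/
theorem ss_apply {v : V} (hv : v ∈ eig ρ B l) :
    ss ρ B l v = (2 : ℂ) • v + (al B n l / be B n l) • Tn ρ B n l v := by
  rw [H.ss_apply' hv, H.Tn_sq hv, smul_add, smul_smul, smul_smul, inv_mul_cancel₀ H.be_ne, one_smul, two_smul,
    div_eq_inv_mul, add_comm (((be B n l)⁻¹ * al B n l) • _) v, add_assoc]

omit H in
/-- `δ = α² / β` -/
noncomputable def de (B : Subgroup P) (n : P) (l : B →* ℂˣ) : ℂ := al B n l ^ 2 / be B n l

omit H in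
/-- `V` is generated by the eigenspace -/
def Gen (ρ : Representation ℂ P V) (B : Subgroup P) (l : B →* ℂˣ) : Prop :=
  ∀ S : Submodule ℂ V, (∀ g : P, ∀ v ∈ eig ρ B l, ρ g v ∈ S) → S = ⊤

theorem ss_sq (hgen : Gen ρ B l) : ss ρ B l * ss ρ B l = (4 + de B n l) • (ss ρ B l - 1) := by
  have h1 := hgen (LinearMap.ker (ss ρ B l * ss ρ B l - (4 + de B n l) • (ss ρ B l - 1))) fun g v hv => by
    rw [LinearMap.mem_ker, LinearMap.sub_apply, sub_eq_zero, Module.End.mul_apply, LinearMap.smul_apply,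
      LinearMap.sub_apply, Module.End.one_apply, ss_comm, ss_comm, ← map_sub, ← map_smul]
    congr 1
    have e1 := H.ss_apply hv
    have e2 := H.ss_apply (Tn_mem (ρ := ρ) (B := B) (n := n) (l := l) v)
    have e3 := H.Tn_sq hv
    rw [e3] at e2
    rw [e1, map_add, map_smul, map_smul, e1, e2, de]
    have h3 := H.be_ne
    match_scalars <;> field_simp <;> ring
  rw [LinearMap.ker_eq_top, sub_eq_zero] at h1
  exact h1

omit H in
theorem trace_ss [FiniteDimensional ℂ V] :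
    LinearMap.trace ℂ V (ss ρ B l) = (Nat.card B : ℂ)⁻¹ * (Nat.card P * finrank ℂ (eig ρ B l)) := by
  classical
  let _ : Fintype P := Fintype.ofFinite P
  unfold ss
  rw [finsum_eq_sum_of_fintype, map_smul, map_sum, smul_eq_mul, Finset.sum_congr rfl (g := fun _ =>
    (finrank ℂ (eig ρ B l) : ℂ)), Finset.sum_const, Finset.card_univ, nsmul_eq_mul, Nat.card_eq_fintype_card (α := P)]
  intro g _
  rw [LinearMap.trace_mul_comm, ← mul_assoc, ← map_mul, inv_mul_cancel, map_one, one_mul, trace_el]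

theorem four_add_ne [FiniteDimensional ℂ V] (hgen : Gen ρ B l) (hE : eig ρ B l ≠ ⊥) : 4 + de B n l ≠ 0 := by
  intro h0
  have h1 := H.ss_sq hgen
  rw [h0, zero_smul] at h1
  have h2 : IsNilpotent (ss ρ B l) := ⟨2, by rw [pow_two, h1]⟩
  have h3 := (LinearMap.isNilpotent_trace_of_isNilpotent h2).eq_zero
  rw [trace_ss] at h3
  have h4 : (Nat.card P : ℂ) ≠ 0 := by exact_mod_cast Nat.card_pos.ne'
  have h5 : (finrank ℂ (eig ρ B l) : ℂ) ≠ 0 := by
    intro h
    apply hE
    exact Submodule.finrank_eq_zero.1 (by exact_mod_cast h)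
  exact mul_ne_zero (inv_ne_zero (card_ne B)) (mul_ne_zero h4 h5) h3

/-- **the rank one trace formula** -/
theorem trace_eq [FiniteDimensional ℂ V] (hgen : Gen ρ B l) {t : P} (ht : ∀ g : P, g⁻¹ * t * g ∉ B) :
    (4 + de B n l) * LinearMap.trace ℂ V (ρ t) = ((Nat.card B : ℂ)⁻¹ * ∑ᶠ g : P, cb B n l (g⁻¹ * t * g)) *
      (2 * LinearMap.trace ℂ V (Tn ρ B n l) - al B n l * finrank ℂ (eig ρ B l)) := by
  classical
  let _ : Fintype P := Fintype.ofFinite P
  have h1 := H.ss_sq hgen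
  have h2 : (4 + de B n l) • (1 : Module.End ℂ V) = ss ρ B l * ((4 + de B n l) • 1 - ss ρ B l) := by
    rw [mul_sub, h1, mul_smul_comm, mul_one, smul_sub]
    abel
  -- `f` commutes with the group and with the projection
  have hf : ∀ (k : P) (v : V), ((4 + de B n l) • (1 : Module.End ℂ V) - ss ρ B l) (ρ k v) =
      ρ k (((4 + de B n l) • (1 : Module.End ℂ V) - ss ρ B l) v) := by
    intro k v
    rw [LinearMap.sub_apply, LinearMap.sub_apply, LinearMap.smul_apply, LinearMap.smul_apply, Module.End.one_apply,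
      Module.End.one_apply, ss_comm, map_sub, map_smul]
  set f := (4 + de B n l) • (1 : Module.End ℂ V) - ss ρ B l with hfd
  have hfe : f * el ρ B l = el ρ B l * f := by
    let _ : Fintype B := Fintype.ofFinite B
    ext v
    rw [Module.End.mul_apply, Module.End.mul_apply, el_apply, el_apply, map_smul, map_sum]
    congr 1
    refine Finset.sum_congr rfl fun b _ => ?_
    rw [map_smul, hf]
  have hfk : ∀ k : P, f * ρ k = ρ k * f := fun k => LinearMap.ext fun v => hf k v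
  have hee : el ρ B l * el ρ B l = el ρ B l := LinearMap.ext fun v => el_idem ρ B l v
  -- the operator `p x p` for `x ∉ B`
  have hx : ∀ x : P, x ∉ B → el ρ B l * ρ x * el ρ B l = cb B n l x • Tn ρ B n l := by
    intro x hx
    ext v
    rw [Module.End.mul_apply, Module.End.mul_apply, H.el_coef (el_mem ρ B l v), ca_of_not hx, zero_smul, zero_add,
      LinearMap.smul_apply]
    congr 1
    unfold Tn
    rw [Module.End.mul_apply, Module.End.mul_apply, Module.End.mul_apply, Module.End.mul_apply, el_idem]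
  -- `T f`
  have hTf : f * Tn ρ B n l = (2 : ℂ) • Tn ρ B n l - al B n l • el ρ B l := by
    ext v
    have e1 := H.ss_apply (Tn_mem (ρ := ρ) (B := B) (n := n) (l := l) v)
    have e2 := H.Tn_sq (el_mem ρ B l v)
    have e3 : Tn ρ B n l (el ρ B l v) = Tn ρ B n l v := by
      unfold Tn
      rw [Module.End.mul_apply, Module.End.mul_apply, Module.End.mul_apply, Module.End.mul_apply, el_idem]
    rw [e3] at e2
    rw [e2] at e1
    rw [Module.End.mul_apply, hfd, LinearMap.sub_apply, LinearMap.smul_apply, Module.End.one_apply, e1,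
      LinearMap.sub_apply, LinearMap.smul_apply, LinearMap.smul_apply, de]
    have h3 := H.be_ne
    match_scalars <;> field_simp <;> ring
  have h3 : (4 + de B n l) * LinearMap.trace ℂ V (ρ t) = LinearMap.trace ℂ V (ρ t * (ss ρ B l * f)) := by
    rw [← h2, mul_smul_comm, mul_one, map_smul, smul_eq_mul]
  have h4 : ∀ g : P, LinearMap.trace ℂ V (ρ t * (ρ g * el ρ B l * ρ g⁻¹ * f)) = cb B n l (g⁻¹ * t * g) *
      (2 * LinearMap.trace ℂ V (Tn ρ B n l) - al B n l * finrank ℂ (eig ρ B l)) := by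
    intro g
    have e1 : ρ t * (ρ g * el ρ B l * ρ g⁻¹ * f) = (ρ t * ρ g * el ρ B l * f) * ρ g⁻¹ := by
      rw [mul_assoc _ (ρ g⁻¹) f, ← hfk]
      simp only [mul_assoc]
    have e2 : ρ g⁻¹ * (ρ t * ρ g * el ρ B l * f) = ρ (g⁻¹ * t * g) * el ρ B l * f := by
      rw [map_mul, map_mul]
      simp only [mul_assoc]
    have e3 : ρ (g⁻¹ * t * g) * el ρ B l * f = (ρ (g⁻¹ * t * g) * el ρ B l * f) * el ρ B l := by
      calc ρ (g⁻¹ * t * g) * el ρ B l * f = ρ (g⁻¹ * t * g) * (el ρ B l * el ρ B l) * f := by rw [hee]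
        _ = ρ (g⁻¹ * t * g) * el ρ B l * (el ρ B l * f) := by simp only [mul_assoc]
        _ = ρ (g⁻¹ * t * g) * el ρ B l * (f * el ρ B l) := by rw [hfe]
        _ = _ := by simp only [mul_assoc]
    have e5 : f * Tn ρ B n l = Tn ρ B n l * f := by
      unfold Tn
      calc f * (el ρ B l * ρ n * el ρ B l) = (f * el ρ B l) * (ρ n * el ρ B l) := by simp only [mul_assoc]
        _ = el ρ B l * ((f * ρ n) * el ρ B l) := by rw [hfe]; simp only [mul_assoc]
        _ = el ρ B l * ρ n * (f * el ρ B l) := by rw [hfk]; simp only [mul_assoc]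
        _ = _ := by rw [hfe]; simp only [mul_assoc]
    have e4 : el ρ B l * (ρ (g⁻¹ * t * g) * el ρ B l * f) = cb B n l (g⁻¹ * t * g) • (f * Tn ρ B n l) := by
      rw [← mul_assoc, ← mul_assoc, hx _ (ht g), smul_mul_assoc, e5]
    rw [e1, LinearMap.trace_mul_comm, e2, e3, LinearMap.trace_mul_comm, e4, hTf, map_smul, map_sub, map_smul, map_smul,
      trace_el, smul_eq_mul, smul_eq_mul, smul_eq_mul]
  rw [h3]
  have h5 : ρ t * (ss ρ B l * f) = (Nat.card B : ℂ)⁻¹ • ∑ g : P, ρ t * (ρ g * el ρ B l * ρ g⁻¹ * f) := by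
    unfold ss
    rw [finsum_eq_sum_of_fintype, smul_mul_assoc, mul_smul_comm, Finset.sum_mul, Finset.mul_sum]
  rw [h5, map_smul, map_sum, Finset.sum_congr rfl fun g _ => h4 g, ← Finset.sum_mul, finsum_eq_sum_of_fintype,
    smul_eq_mul, mul_assoc]

/-- if `tr t ≠ 0` then `2 tr T ≠ α dim E` -/
theorem trace_ne [FiniteDimensional ℂ V] (hgen : Gen ρ B l) (hE : eig ρ B l ≠ ⊥) {t : P}
    (ht : ∀ g : P, g⁻¹ * t * g ∉ B) (h0 : LinearMap.trace ℂ V (ρ t) ≠ 0) :
    2 * LinearMap.trace ℂ V (Tn ρ B n l) ≠ al B n l * finrank ℂ (eig ρ B l) := by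
  intro h1
  have h2 := H.trace_eq hgen ht
  rw [h1, sub_self, mul_zero] at h2
  rcases mul_eq_zero.1 h2 with h | h
  · exact H.four_add_ne hgen hE h
  · exact h0 h

end fin

end RkOne

end Cfsg.Agent.H985.VZ
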