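import Cfsg.Agent.H985.VZ.Fix

/-!
# S4842: the operators `T_i` on `V_l` (helper985)

* `Tq R i l` : `v ↦ p (n_i v)` on `V_l`; `Tq_sq` : `T² = α T + β` (`Al R i l`, `Be R i l`) if `s_i l = l`;
* `tr_ne` : `2 tr T_i ≠ α_i dim V_l` if `t` is elliptic in `L_i`, `χ(t) ≠ 0`, `V^U = V_l`; `disc_ne` : `4 + α²/β ≠ 0`;
* `VU_eq` : `V^U = V_l` if `l` is fixed by `W`;
* `finrank_eq_one` : a common eigenvector of all `T_i` spans `V_l`.
-/

set_option autoImplicit false
set_option linter.unusedSectionVars false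

open Cfsg

namespace Cfsg.Agent.H985.VZ

open CoxeterSystem Cfsg.Agent.ChevalleyStructure.CoxeterGeom Cfsg.Agent.Tits.Roots Cfsg.Agent.Tits.Core
  Cfsg.Agent.Tits.Exchange Cfsg.Agent.Nodes.Reps Cfsg.Agent.Nodes.BNOf Cfsg.Agent.Nodes.StabComb
  Cfsg.Agent.Nodes.Bruhat Cfsg.Agent.Nodes.OppDec Cfsg.Agent.Nodes.LeviDec Module

universe u v

variable {I W : Type*} {Y : Type u} [Fintype I] [DecidableEq I] [Group W] [Group Y] {M : CoxeterMatrix I}
  {cs : CoxeterSystem M W} {A : I → I → ℤ} {h : IsCartan M A} {p : ℕ} {T : Subgroup Y} {n : I → Y}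
  {X : (I → ℤ) → Subgroup Y} (R : RGD cs h p T n X) [Finite W] {V : Type v} [AddCommGroup V] [Module ℂ V]
  {ρ : Representation ℂ Y V}

/-- the Borel subgroup in `P_i` -/
abbrev Bi (cs : CoxeterSystem M W) (h : IsCartan M A) (T : Subgroup Y) (X : (I → ℤ) → Subgroup Y) (i : I) :
    Subgroup ↥(PJ cs h T X {i}) := (RGD.B cs h T X).comap (PJ cs h T X {i}).subtype

include R in
theorem n_mem_Pi (i : I) : n i ∈ PJ cs h T X {i} := LJ_le_PJ (n_mem_LJ R rfl)

/-- `n_i` in `P_i` -/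
def ni (i : I) : ↥(PJ cs h T X {i}) := ⟨n i, n_mem_Pi R i⟩

/-- the inflation of `l` in `P_i` -/
noncomputable def li (i : I) (l : T →* ℂˣ) : Bi cs h T X i →* ℂˣ :=
  (lamB R l).comp ((PJ cs h T X {i}).subtype.subgroupComap (RGD.B cs h T X))

/-- `α_i` -/
noncomputable def Al [Finite Y] (i : I) (l : T →* ℂˣ) : ℂ := RkOne.al (Bi cs h T X i) (ni R i) (li R i l)

/-- `β_i` -/
noncomputable def Be [Finite Y] (i : I) (l : T →* ℂˣ) : ℂ := RkOne.be (Bi cs h T X i) (ni R i) (li R i l)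

/-- the operator `T_i` -/
noncomputable def Tq [Finite Y] (ρ : Representation ℂ Y V) (i : I) (l : T →* ℂˣ) : Module.End ℂ V :=
  el ρ (RGD.B cs h T X) (lamB R l) * ρ (n i) * el ρ (RGD.B cs h T X) (lamB R l)

theorem B_le_range (cs : CoxeterSystem M W) (h : IsCartan M A) (T : Subgroup Y) (X : (I → ℤ) → Subgroup Y) (J : Set I) :
    RGD.B cs h T X ≤ (PJ cs h T X J).subtype.range := fun b hb => ⟨⟨b, B_le_PJ hb⟩, rfl⟩

theorem rkOne {i : I} {l : T →* ℂˣ} (hm : Mv cs R.nsys (cs.simple i) l l) :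
    RkOne (Bi cs h T X i) (ni R i) (li R i l) where
  nmem := fun h1 => by
    have h2 := R.eq_one_of_mem_B (rp_simple cs R.nsys i) (show n i ∈ RGD.B cs h T X from h1)
    have h3 := cs.length_simple i
    rw [h2, cs.length_one] at h3
    exact absurd h3 (by norm_num)
  sq := RGD.T_le_B (X := X) (cs := cs) (h := h) (R.sq_mem_T i)
  cell := by
    rintro ⟨g, hg⟩
    obtain ⟨w, hw, b₁, hb₁, k, hk, b₂, hb₂, rfl⟩ := (mem_PJ_iff_cell R).1 hg
    rcases mem_WJ_single hw with h3 | h3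
    · left
      subst h3
      exact mul_mem (mul_mem hb₁ (RGD.T_le_B hk.mem_of_one)) hb₂
    · right
      subst h3
      have h4 : (n i)⁻¹ * k ∈ T := (rp_simple cs R.nsys i).unique hk
      refine ⟨⟨b₁, B_le_PJ hb₁⟩, hb₁, ⟨(n i)⁻¹ * k * b₂, B_le_PJ (mul_mem (RGD.T_le_B h4) hb₂)⟩,
        mul_mem (RGD.T_le_B h4) hb₂, Subtype.ext ?_⟩
      change b₁ * k * b₂ = b₁ * n i * ((n i)⁻¹ * k * b₂)
      group
  fix := fun b c e => lamB_conj R (rp_simple cs R.nsys i) hm (congrArg Subtype.val e)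

section

variable [Finite Y]

theorem Tn_eq (i : I) (l : T →* ℂˣ) :
    RkOne.Tn (ρ.comp (PJ cs h T X {i}).subtype) (Bi cs h T X i) (ni R i) (li R i l) = Tq R ρ i l := by
  ext v
  unfold RkOne.Tn Tq
  simp only [Module.End.mul_apply]
  unfold li
  rw [el_comap _ (Subgroup.subtype_injective _) (B_le_range cs h T X {i}),
    el_comap _ (Subgroup.subtype_injective _) (B_le_range cs h T X {i})]
  rfl

theorem mem_eig_Bi {i : I} {l : T →* ℂˣ} {v : V} :
    v ∈ eig (ρ.comp (PJ cs h T X {i}).subtype) (Bi cs h T X i) (li R i l) ↔ v ∈ Vl cs h T X ρ l := by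
  unfold li
  rw [mem_eig_comap _ (B_le_range cs h T X {i}), ← Vl_eq R]

theorem Tq_mem (i : I) (l : T →* ℂˣ) (v : V) : Tq R ρ i l v ∈ Vl cs h T X ρ l := by
  rw [Vl_eq R]
  unfold Tq
  simp only [Module.End.mul_apply]
  exact el_mem _ _ _ _

theorem Tq_apply {i : I} {l : T →* ℂˣ} {v : V} (hv : v ∈ Vl cs h T X ρ l) :
    Tq R ρ i l v = el ρ (RGD.B cs h T X) (lamB R l) (ρ (n i) v) := by
  rw [Vl_eq R] at hv
  unfold Tq
  simp only [Module.End.mul_apply]
  rw [el_of_mem hv]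

theorem Tq_sq {i : I} {l : T →* ℂˣ} (hm : Mv cs R.nsys (cs.simple i) l l) {v : V} (hv : v ∈ Vl cs h T X ρ l) :
    Tq R ρ i l (Tq R ρ i l v) = Al R i l • Tq R ρ i l v + Be R i l • v := by
  have h1 := (rkOne R hm).Tn_sq (ρ := ρ.comp (PJ cs h T X {i}).subtype) ((mem_eig_Bi R).2 hv)
  rw [Tn_eq] at h1
  exact h1

theorem Be_ne {i : I} {l : T →* ℂˣ} (hm : Mv cs R.nsys (cs.simple i) l l) : Be R i l ≠ 0 := (rkOne R hm).be_ne

/-- the representation of `P_J` on `V^{V_J}` -/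
def UU (ρ : Representation ℂ Y V) (J : Set I) : Subrepresentation (ρ.comp (PJ cs h T X J).subtype) :=
  ⟨fx ρ (VJ cs h X J), fun g _ hv => rho_fx_VJ R g.2 hv⟩

theorem char_UU [FiniteDimensional ℂ V] {J : Set I} {t : Y} (ht : Free cs h T X J t) :
    ρ.character t = (UU R ρ J).toRepresentation.character ⟨t, LJ_le_PJ ht.mem⟩ := by
  have htP : t ∈ PJ cs h T X J := LJ_le_PJ ht.mem
  rw [ht.trace_eq R]
  have h2 : ∀ x, (ρ t * av ρ (VJ cs h X J)) x ∈ fx ρ (VJ cs h X J) := fun x => rho_fx_VJ R htP (av_mem ρ _ x)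
  rw [← LinearMap.trace_restrict_eq_of_forall_mem (fx ρ (VJ cs h X J)) (ρ t * av ρ (VJ cs h X J)) h2 fun x _ => h2 x]
  change _ = LinearMap.trace ℂ _ ((UU R ρ J).toRepresentation ⟨t, htP⟩)
  congr 1
  ext x
  change ρ t (av ρ (VJ cs h X J) x) = ρ t x
  rw [av_of_mem x.2]

omit R [Finite W] [Finite Y] in
theorem Vl_fx {l : T →* ℂˣ} {J : Set I} {v : V} (hv : v ∈ Vl cs h T X ρ l) : v ∈ fx ρ (VJ cs h X J) := fun _ hu =>
  hv.1 _ (VJ_le_U J hu)

theorem trace_Tq [FiniteDimensional ℂ V] (i : I) (l : T →* ℂˣ) :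
    LinearMap.trace ℂ _ (RkOne.Tn (UU R ρ {i}).toRepresentation (Bi cs h T X i) (ni R i) (li R i l)) =
      LinearMap.trace ℂ V (Tq R ρ i l) := by
  have h2 : ∀ x, Tq R ρ i l x ∈ fx ρ (VJ cs h X {i}) := fun x => Vl_fx (Tq_mem R i l x)
  rw [← LinearMap.trace_restrict_eq_of_forall_mem (fx ρ (VJ cs h X {i})) (Tq R ρ i l) h2 fun x _ => h2 x]
  congr 1
  ext x
  change ((RkOne.Tn (UU R ρ {i}).toRepresentation (Bi cs h T X i) (ni R i) (li R i l) x : _) : V) = Tq R ρ i l (x : V)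
  rw [← Tn_eq]
  unfold RkOne.Tn
  simp only [Module.End.mul_apply]
  rw [el_sub]
  change el _ _ _ ((ρ (n i)) ((el (UU R ρ {i}).toRepresentation (Bi cs h T X i) (li R i l) x : _) : V)) = _
  rw [el_sub]
  rfl

theorem finrank_eig_UU [FiniteDimensional ℂ V] (i : I) (l : T →* ℂˣ) :
    finrank ℂ (eig (UU R ρ {i}).toRepresentation (Bi cs h T X i) (li R i l)) = finrank ℂ (Vl cs h T X ρ l) := by
  have h0 : (finrank ℂ (eig (UU R ρ {i}).toRepresentation (Bi cs h T X i) (li R i l)) : ℂ) =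
      finrank ℂ (Vl cs h T X ρ l) := by
    rw [← trace_el, Vl_eq R, ← trace_el]
    have h2 : ∀ x, el ρ (RGD.B cs h T X) (lamB R l) x ∈ fx ρ (VJ cs h X {i}) := fun x =>
      Vl_fx (T := T) (l := l) (by rw [Vl_eq R]; exact el_mem _ _ _ _)
    rw [← LinearMap.trace_restrict_eq_of_forall_mem (fx ρ (VJ cs h X {i})) (el ρ (RGD.B cs h T X) (lamB R l)) h2
      fun x _ => h2 x]
    congr 1
    ext x
    rw [el_sub]
    unfold li
    rw [el_comap _ (Subgroup.subtype_injective _) (B_le_range cs h T X {i})]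
    rfl
  exact_mod_cast h0

theorem gen_UU (hG : GG cs h T X = ⊤) (hρ : ρ.IsIrreducible) {i : I} {l : T →* ℂˣ} (hl : Vl cs h T X ρ l ≠ ⊥)
    (hVU : VU cs h X ρ = Vl cs h T X ρ l) :
    RkOne.Gen (UU R ρ {i}).toRepresentation (Bi cs h T X i) (li R i l) := by
  intro S hS
  have h1 := gen_VJ R hG hρ (by rw [hVU]; exact hl) {i} (S := S.map (UU R ρ {i}).toSubmodule.subtype) fun g hg v hv => by
    rw [hVU] at hv
    have hv1 : v ∈ fx ρ (VJ cs h X {i}) := Vl_fx hv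
    exact ⟨(UU R ρ {i}).toRepresentation ⟨g, hg⟩ ⟨v, hv1⟩, hS ⟨g, hg⟩ ⟨v, hv1⟩
      ((mem_eig_sub _ _ _ _).2 ((mem_eig_Bi R).2 hv)), rfl⟩
  rw [eq_top_iff]
  intro x _
  obtain ⟨y, hy, e⟩ := h1 x.2
  have h2 : y = x := Subtype.ext e
  rwa [← h2]

/-- `4 + α² / β ≠ 0` -/
theorem disc_ne [FiniteDimensional ℂ V] (hG : GG cs h T X = ⊤) (hρ : ρ.IsIrreducible) {i : I} {l : T →* ℂˣ}
    (hm : Mv cs R.nsys (cs.simple i) l l) (hl : Vl cs h T X ρ l ≠ ⊥) (hVU : VU cs h X ρ = Vl cs h T X ρ l) :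
    4 + Al R i l ^ 2 / Be R i l ≠ 0 := by
  refine (rkOne R hm).four_add_ne (gen_UU R hG hρ hl hVU) fun hb => hl ?_
  have h1 := finrank_eig_UU (ρ := ρ) R i l
  rw [hb, finrank_bot] at h1
  exact Submodule.finrank_eq_zero.1 h1.symm

/-- `2 tr T ≠ α dim V_l` -/
theorem tr_ne [FiniteDimensional ℂ V] (hG : GG cs h T X = ⊤) (hρ : ρ.IsIrreducible) {i : I} {l : T →* ℂˣ}
    (hm : Mv cs R.nsys (cs.simple i) l l) (hl : Vl cs h T X ρ l ≠ ⊥) (hVU : VU cs h X ρ = Vl cs h T X ρ l) {t : Y}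
    (ht : Ell cs h T X {i} t) (hχ : ρ.character t ≠ 0) :
    2 * LinearMap.trace ℂ V (Tq R ρ i l) ≠ Al R i l * finrank ℂ (Vl cs h T X ρ l) := by
  rw [← trace_Tq, ← finrank_eig_UU R i l]
  refine (rkOne R hm).trace_ne (gen_UU R hG hρ hl hVU) (fun hb => hl ?_) (t := ⟨t, LJ_le_PJ ht.toFree.mem⟩)
    (fun g hg => ?_) ?_
  · have h1 := finrank_eig_UU (ρ := ρ) R i l
    rw [hb, finrank_bot] at h1
    exact Submodule.finrank_eq_zero.1 h1.symm
  · have h1 := ht.not_mem R (K := ∅) (Set.empty_ssubset.2 ⟨i, rfl⟩) g.2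
    exact h1 (B_le_PJ hg)
  · rw [char_UU R ht.toFree] at hχ
    exact hχ

/-- `l` fixed by `W` -/
theorem mv_of_fix {l : T →* ℂˣ} (hl : ∀ i, Mv cs R.nsys (cs.simple i) l l) (w : W) : Mv cs R.nsys w l l := by
  obtain ⟨ω, rfl⟩ := cs.wordProd_surjective w
  induction ω with
  | nil =>
    rw [wordProd_nil]
    exact mv_one l
  | cons i ω ih =>
    rw [wordProd_cons]
    exact ih.mul (hl i)

theorem VU_eq [FiniteDimensional ℂ V] (hG : GG cs h T X = ⊤) (hT : ∀ s ∈ T, ∀ t ∈ T, s * t = t * s)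
    (hρ : ρ.IsIrreducible) {l : T →* ℂˣ} (hl : Vl cs h T X ρ l ≠ ⊥) (hf : ∀ i, Mv cs R.nsys (cs.simple i) l l) :
    VU cs h X ρ = Vl cs h T X ρ l := by
  apply le_antisymm _ Vl_le
  by_cases hS : VU cs h X ρ ⊓ LinearMap.ker (el ρ (RGD.B cs h T X) (lamB R l)) = ⊥
  · intro v hv
    have h1 : v - el ρ (RGD.B cs h T X) (lamB R l) v ∈ VU cs h X ρ ⊓ LinearMap.ker (el ρ (RGD.B cs h T X) (lamB R l)) := by
      refine ⟨Submodule.sub_mem _ hv (Vl_le (T := T) (l := l) (by rw [Vl_eq R]; exact el_mem _ _ _ _)), ?_⟩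
      change el ρ (RGD.B cs h T X) (lamB R l) (v - el ρ (RGD.B cs h T X) (lamB R l) v) = 0
      rw [map_sub, el_idem, sub_self]
    rw [hS, Submodule.mem_bot, sub_eq_zero] at h1
    rw [h1, Vl_eq R]
    exact el_mem _ _ _ _
  · exfalso
    obtain ⟨l', v, hv, hv0, hvl⟩ := exists_eig hT hS fun t ht v hv => by
      refine ⟨rho_VU R (RGD.T_le_B ht) hv.1, ?_⟩
      have h1 := el_rho ρ (RGD.B cs h T X) (lamB R l) ⟨t, RGD.T_le_B ht⟩ v
      rw [LinearMap.mem_ker.1 hv.2, smul_zero] at h1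
      exact LinearMap.mem_ker.2 h1
    have h2 : v ∈ Vl cs h T X ρ l' := ⟨hv.1, hvl⟩
    have h3 : Vl cs h T X ρ l' ≠ ⊥ := fun hb => hv0 (by rw [hb] at h2; exact h2)
    obtain ⟨w, hw⟩ := exists_mv R hG hρ hl h3
    have h4 : l = l' := (mv_of_fix R hf w).unique hw
    rw [← h4, Vl_eq R] at h2
    apply hv0
    rw [← el_of_mem h2]
    exact LinearMap.mem_ker.1 hv.2

/-- a common eigenvector of the operators `T_i` -/
theorem el_rho_mem_span {l : T →* ℂˣ} (hf : ∀ i, Mv cs R.nsys (cs.simple i) l l) {v : V} (hv : v ∈ Vl cs h T X ρ l)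
    (he : ∀ i, ∃ x : ℂ, Tq R ρ i l v = x • v) (k : ℕ) : ∀ w, cs.length w ≤ k → ∀ g, Rp cs R.nsys w g →
      ∃ c : ℂ, el ρ (RGD.B cs h T X) (lamB R l) (ρ g v) = c • v := by
  have hvB := hv
  rw [Vl_eq R] at hvB
  induction k with
  | zero =>
    intro w hw g hg
    have h1 : w = 1 := cs.length_eq_zero_iff.1 (Nat.le_zero.1 hw)
    subst h1
    have h2 := hvB ⟨g, RGD.T_le_B hg.mem_of_one⟩
    change ρ g v = _ at h2
    exact ⟨_, by rw [h2, map_smul, el_of_mem hvB]⟩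
  | succ k ih =>
    intro w hw g hg
    by_cases h1 : w = 1
    · subst h1
      have h2 := hvB ⟨g, RGD.T_le_B hg.mem_of_one⟩
      change ρ g v = _ at h2
      exact ⟨_, by rw [h2, map_smul, el_of_mem hvB]⟩
    · obtain ⟨i, hi⟩ := cs.exists_leftDescent_of_ne_one h1
      have hi' : cs.length (cs.simple i * w) < cs.length w := hi
      have hg' : Rp cs R.nsys (cs.simple i * w) ((n i)⁻¹ * g) := by
        have h2 := (rp_simple cs R.nsys i).inv.mul hg
        rwa [cs.inv_simple] at h2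
      obtain ⟨c, hc⟩ := ih (cs.simple i * w) (by omega) _ hg'
      obtain ⟨x, hx⟩ := he i
      have h3 : 0 ≤ rep cs h (cs.simple i * w)⁻¹ (sr i) := by
        refine nonneg_of_lt cs h _ i ?_
        rw [cs.length_inv, ← cs.length_inv ((cs.simple i * w)⁻¹ * cs.simple i), mul_inv_rev, inv_inv, cs.inv_simple,
          cs.simple_mul_simple_cancel_left]
        exact hi'
      have h4 := rho_fx_X R hg' (isRoot_sr cs h i) h3 hv.1
      have h5 := el_n R (hf i) h4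
      rw [hc, map_smul, map_smul, ← Tq_apply R hv, hx, ← Module.End.mul_apply (ρ (n i)), ← map_mul,
        mul_inv_cancel_left] at h5
      exact ⟨_, by rw [← h5, smul_smul]⟩

theorem finrank_eq_one [FiniteDimensional ℂ V] (hG : GG cs h T X = ⊤) (hρ : ρ.IsIrreducible) {l : T →* ℂˣ}
    (hf : ∀ i, Mv cs R.nsys (cs.simple i) l l) {v : V} (hv : v ∈ Vl cs h T X ρ l) (hv0 : v ≠ 0)
    (he : ∀ i, ∃ x : ℂ, Tq R ρ i l v = x • v) : Vl cs h T X ρ l = ℂ ∙ v := by
  apply le_antisymm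
  · let Z : Subrepresentation ρ :=
      { toSubmodule := Submodule.span ℂ {x | ∃ g : Y, x = ρ g v}
        apply_mem_toSubmodule := fun g v' hv' => by
          refine Submodule.span_induction (p := fun v' _ => ρ g v' ∈ Submodule.span ℂ {x | ∃ g : Y, x = ρ g v})
            ?_ ?_ ?_ ?_ hv'
          · rintro _ ⟨k, rfl⟩
            refine Submodule.subset_span ⟨g * k, ?_⟩
            rw [map_mul, Module.End.mul_apply]
          · rw [map_zero]
            exact Submodule.zero_mem _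
          · intro x y _ _ hx hy
            rw [map_add]
            exact Submodule.add_mem _ hx hy
          · intro a x _ hx
            rw [map_smul]
            exact Submodule.smul_mem _ _ hx }
    have hZ : Z.toSubmodule = ⊤ := by
      rcases hρ.2 Z with h1 | h1
      · exfalso
        apply hv0
        have h2 : v ∈ Z.toSubmodule := Submodule.subset_span ⟨1, by rw [map_one, Module.End.one_apply]⟩
        rw [h1] at h2
        exact h2
      · rw [h1]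
        rfl
    intro x hx
    rw [Vl_eq R] at hx
    rw [← el_of_mem hx]
    have h1 : x ∈ Z.toSubmodule := by rw [hZ]; exact Submodule.mem_top
    refine Submodule.span_induction (p := fun x _ => el ρ (RGD.B cs h T X) (lamB R l) x ∈ (ℂ ∙ v)) ?_ ?_ ?_ ?_ h1
    · rintro _ ⟨k, rfl⟩
      obtain ⟨w, b₁, hb₁, g, hg, b₂, hb₂, rfl⟩ := (mem_GG R).1 (show k ∈ GG cs h T X by rw [hG]; exact Subgroup.mem_top k)
      obtain ⟨c, hc⟩ := el_rho_mem_span R hf hv he _ w le_rfl g hg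
      have hvB := hv
      rw [Vl_eq R] at hvB
      have h3 := hvB ⟨b₂, hb₂⟩
      change ρ b₂ v = _ at h3
      have h4 := el_rho ρ (RGD.B cs h T X) (lamB R l) ⟨b₁, hb₁⟩ (ρ g v)
      change el ρ _ _ (ρ b₁ (ρ g v)) = _ at h4
      rw [map_mul, map_mul, Module.End.mul_apply, Module.End.mul_apply, h3, map_smul, map_smul, map_smul, h4, hc,
        smul_smul, smul_smul]
      exact Submodule.smul_mem _ _ (Submodule.mem_span_singleton_self v)
    · rw [map_zero]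
      exact Submodule.zero_mem _
    · intro x y _ _ hx hy
      rw [map_add]
      exact Submodule.add_mem _ hx hy
    · intro a x _ hx
      rw [map_smul]
      exact Submodule.smul_mem _ _ hx
  · rw [Submodule.span_singleton_le_iff_mem]
    exact hv

end

end Cfsg.Agent.H985.VZ
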